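import Cfsg.Agent.PGroups.SmallExtraspecial.Space

/-!
From the component to the whole group: degree 8 when the second centraliser lies in the component, degree 9 from
the index.
-/

set_option autoImplicit false

namespace Cfsg.Agent.PGroups.SmallExtraspecial

open Subgroup

/-- The cycle types of the involutions of the alternating group of degree 8. -/
lemma alt_eight_types (σ : alternatingGroup (Fin 8)) (hσ : orderOf σ = 2) :
    (σ : Equiv.Perm (Fin 8)).cycleType = Multiset.replicate 2 2 ∨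
      (σ : Equiv.Perm (Fin 8)).cycleType = Multiset.replicate 4 2 := by
  have ho : orderOf (σ : Equiv.Perm (Fin 8)) = 2 := by rw [orderOf_coe]; exact hσ
  obtain ⟨n, hn⟩ := Equiv.Perm.cycleType_prime_order (σ := (σ : Equiv.Perm (Fin 8))) (by rw [ho]; exact Nat.prime_two)
  rw [ho] at hn
  have hs := Equiv.Perm.sign_of_cycleType (σ : Equiv.Perm (Fin 8))
  rw [show Equiv.Perm.sign (σ : Equiv.Perm (Fin 8)) = 1 from Equiv.Perm.mem_alternatingGroup.1 σ.2, hn] at hs
  have hle := Equiv.Perm.sum_cycleType_le (σ : Equiv.Perm (Fin 8))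
  rw [hn, Multiset.sum_replicate, smul_eq_mul, Fintype.card_fin] at hle
  rw [Multiset.sum_replicate, Multiset.card_replicate, smul_eq_mul] at hs
  have : n ≤ 3 := by omega
  interval_cases n
  · exact absurd hs (by decide)
  · exact Or.inl hn
  · exact absurd hs (by decide)
  · exact Or.inr hn

/-- In the alternating group of degree 8 an involution class is determined by the cycle type. -/
lemma alt_eight_isConj {σ τ : alternatingGroup (Fin 8)} (hσ : orderOf σ = 2)
    (h : (σ : Equiv.Perm (Fin 8)).cycleType = (τ : Equiv.Perm (Fin 8)).cycleType) : IsConj σ τ := by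
  classical
  obtain ⟨g, hg⟩ := isConj_iff.1 (Equiv.Perm.isConj_iff_cycleType_eq.2 h)
  -- an odd permutation commuting with `σ`: one of the cycles of `σ`
  obtain ⟨c, hc, hcσ⟩ : ∃ c : Equiv.Perm (Fin 8), Equiv.Perm.sign c = -1 ∧
      c * (σ : Equiv.Perm (Fin 8)) = (σ : Equiv.Perm (Fin 8)) * c := by
    have hne : (σ : Equiv.Perm (Fin 8)) ≠ 1 := fun e => (two_iff.1 hσ).2 (Subtype.ext e)
    obtain ⟨i, hi⟩ : ∃ i, (σ : Equiv.Perm (Fin 8)) i ≠ i := by
      by_contra hne'
      push Not at hne'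
      exact hne (Equiv.ext hne')
    set j := (σ : Equiv.Perm (Fin 8)) i
    have hσσ : ∀ y, (σ : Equiv.Perm (Fin 8)) ((σ : Equiv.Perm (Fin 8)) y) = y := fun y => by
      rw [← Equiv.Perm.mul_apply, ← Subgroup.coe_mul, (two_iff.1 hσ).1]; rfl
    refine ⟨Equiv.swap i j, Equiv.Perm.sign_swap hi.symm, ?_⟩
    rw [Equiv.mul_swap_eq_swap_mul, show (σ : Equiv.Perm (Fin 8)) j = i from hσσ i, Equiv.swap_comm]
  rcases Int.units_eq_one_or (Equiv.Perm.sign g) with hs | hs
  · exact isConj_iff.2 ⟨⟨g, Equiv.Perm.mem_alternatingGroup.2 hs⟩, Subtype.ext hg⟩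
  · refine isConj_iff.2 ⟨⟨g * c, Equiv.Perm.mem_alternatingGroup.2 ?_⟩, Subtype.ext ?_⟩
    · rw [map_mul, hs, hc]; decide
    · show g * c * (σ : Equiv.Perm (Fin 8)) * (g * c)⁻¹ = _
      rw [← hg, mul_assoc g c, hcσ]; group

variable {G : Type*} [Group G] [Finite G] {s x : G} {V₂ V₃ E T : Subgroup G} (d : Geo s V₂ V₃ E T)

namespace Geo

include d

lemma cent_le_H : centralizer ({s} : Set G) ≤ d.H := fun _ hg => mem_sup_left (d.h₂.norm hg)

lemma s_mem_H : s ∈ d.H := mem_sup_left (le_normalizer d.h₂.s_mem)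

variable (hx : orderOf x = 2) (hxH : x ∈ d.H) (hns : ¬ IsConj s x)
include hx hxH hns

/-- Two classes of involutions in the component. -/
lemma classes {i : G} (hi : i ∈ d.H) (hi2 : orderOf i = 2) :
    (∃ h ∈ d.H, h * s * h⁻¹ = i) ∨ ∃ h ∈ d.H, h * x * h⁻¹ = i := by
  obtain ⟨e⟩ := d.equiv_alt
  have ho : ∀ {a : G} (ha : a ∈ d.H), orderOf a = 2 → orderOf (e ⟨a, ha⟩) = 2 := fun ha h => by
    rw [MulEquiv.orderOf_eq, orderOf_mk]; exact h
  have back : ∀ {a : G} (ha : a ∈ d.H), orderOf a = 2 →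
      ((e ⟨a, ha⟩ : alternatingGroup (Fin 8)) : Equiv.Perm (Fin 8)).cycleType =
        ((e ⟨i, hi⟩ : alternatingGroup (Fin 8)) : Equiv.Perm (Fin 8)).cycleType →
      ∃ h ∈ d.H, h * a * h⁻¹ = i := by
    intro a ha h2 hc
    obtain ⟨g, hg⟩ := isConj_iff.1 (alt_eight_isConj (ho ha h2) hc)
    refine ⟨(e.symm g : d.H), (e.symm g).2, ?_⟩
    have := congrArg (fun z => ((e.symm z : d.H) : G)) hg
    simpa using this
  have hne : ((e ⟨s, d.s_mem_H⟩ : alternatingGroup (Fin 8)) : Equiv.Perm (Fin 8)).cycleType ≠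
      ((e ⟨x, hxH⟩ : alternatingGroup (Fin 8)) : Equiv.Perm (Fin 8)).cycleType := by
    intro hc
    obtain ⟨g, hg⟩ := isConj_iff.1 (alt_eight_isConj (ho d.s_mem_H d.h₂.order) hc)
    refine hns (isConj_iff.2 ⟨(e.symm g : d.H), ?_⟩)
    have := congrArg (fun z => ((e.symm z : d.H) : G)) hg
    simpa using this
  rcases alt_eight_types _ (ho d.s_mem_H d.h₂.order) with a | a <;>
    rcases alt_eight_types _ (ho hxH hx) with b | b <;>
    rcases alt_eight_types _ (ho hi hi2) with c | c
  all_goals first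
    | exact absurd (a.trans b.symm) hne
    | exact Or.inl (back d.s_mem_H d.h₂.order (a.trans c.symm))
    | exact Or.inr (back hxH hx (b.trans c.symm))

lemma conj_s_in_H {g : G} (hg : g * s * g⁻¹ ∈ d.H) : g ∈ d.H := by
  rcases d.classes hx hxH hns hg (two_conj d.h₂.order g) with ⟨h, hh, e⟩ | ⟨h, hh, e⟩
  · have hc : h⁻¹ * g * s = s * (h⁻¹ * g) := by
      refine mul_inv_eq_iff_eq_mul.1 ?_
      rw [show h⁻¹ * g * s * (h⁻¹ * g)⁻¹ = h⁻¹ * (g * s * g⁻¹) * h by group, ← e]; group
    have := mul_mem hh (d.cent_le_H (mem_centralizer_singleton_iff.2 hc))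
    rwa [mul_inv_cancel_left] at this
  · exact absurd (isConj_iff.2 ⟨h⁻¹ * g, by
      rw [show h⁻¹ * g * s * (h⁻¹ * g)⁻¹ = h⁻¹ * (g * s * g⁻¹) * h by group, ← e]; group⟩) hns

/-- If the centraliser of `x` lies in the component, the group is the component. -/
theorem eight (hxc : centralizer ({x} : Set G) ≤ d.H) : Nonempty (G ≃* alternatingGroup (Fin 8)) := by
  have htop : d.H = ⊤ := by
    refine eq_top_iff.2 fun g _ => d.conj_s_in_H hx hxH hns ?_
    obtain ⟨k, hk2, hkx, hku⟩ := exists_common_invol hx (two_conj d.h₂.order g)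
      fun h => hns ((isConj_iff.2 ⟨g, rfl⟩).trans h.symm)
    have hk : k ∈ d.H := hxc (mem_centralizer_singleton_iff.2 hkx)
    have hkc : centralizer ({k} : Set G) ≤ d.H := by
      intro c hc
      rw [mem_centralizer_singleton_iff] at hc
      rcases d.classes hx hxH hns hk hk2 with ⟨h, hh, e⟩ | ⟨h, hh, e⟩
      · have := mul_mem (mul_mem hh (d.cent_le_H (x := h⁻¹ * c * h) (mem_centralizer_singleton_iff.2 ?_)))
          (inv_mem hh)
        · rwa [show h * (h⁻¹ * c * h) * h⁻¹ = c by group] at this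
        · refine (conj_comm_iff (g := h)).1 ?_
          rw [show h * (h⁻¹ * c * h) * h⁻¹ = c by group, e]; exact hc
      · have := mul_mem (mul_mem hh (hxc (x := h⁻¹ * c * h) (mem_centralizer_singleton_iff.2 ?_))) (inv_mem hh)
        · rwa [show h * (h⁻¹ * c * h) * h⁻¹ = c by group] at this
        · refine (conj_comm_iff (g := h)).1 ?_
          rw [show h * (h⁻¹ * c * h) * h⁻¹ = c by group, e]; exact hc
    exact hkc (mem_centralizer_singleton_iff.2 hku.symm)
  obtain ⟨e⟩ := d.equiv_alt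
  exact ⟨(Subgroup.topEquiv.symm.trans (MulEquiv.subgroupCongr htop.symm)).trans e⟩

/-- If the group has order `9!/2` it is alternating of degree 9. -/
theorem nine (hcard : Nat.card G = 181440) : Nonempty (G ≃* alternatingGroup (Fin 9)) := by
  classical
  haveI := Fintype.ofFinite (G ⧸ d.H)
  have hidx : d.H.index = 9 := by
    have h := card_mul_index d.H
    rw [d.card_H, hcard] at h
    omega
  have hc : Fintype.card (G ⧸ d.H) = 9 := by rw [← Nat.card_eq_fintype_card]; exact hidx
  let φ : G →* Equiv.Perm (Fin 9) := ((Fintype.equivFinOfCardEq hc).permCongrHom.toMonoidHom).comp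
    (MulAction.toPermHom G (G ⧸ d.H))
  have hinj : Function.Injective φ := by
    refine ((Fintype.equivFinOfCardEq hc).permCongrHom.injective).comp ?_
    rw [← MonoidHom.ker_eq_bot_iff]
    set K := (MulAction.toPermHom G (G ⧸ d.H)).ker with hK
    have hKH : ∀ k ∈ K, k ∈ d.H := by
      intro k hk
      have h := congrFun (congrArg (fun p : Equiv.Perm (G ⧸ d.H) => (p : G ⧸ d.H → G ⧸ d.H))
        (MonoidHom.mem_ker.1 hk)) ((1 : G) : G ⧸ d.H)
      have h' : ((k : G) : G ⧸ d.H) = ((1 : G) : G ⧸ d.H) := by simpa using h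
      simpa using QuotientGroup.eq.1 h'
    obtain ⟨e⟩ := d.equiv_alt
    haveI : IsSimpleGroup (alternatingGroup (Fin 8)) :=
      alternatingGroup.isSimpleGroup (α := Fin 8) (by simp)
    rcases ((inferInstance : (K.subgroupOf d.H).Normal).map e.toMonoidHom e.surjective).eq_bot_or_eq_top with h | h
    · refine (eq_bot_iff_forall _).2 fun k hk => ?_
      have : e ⟨k, hKH k hk⟩ = 1 := by
        rw [← Subgroup.mem_bot, ← h]; exact ⟨⟨k, hKH k hk⟩, hk, rfl⟩
      exact congrArg Subtype.val (e.map_eq_one_iff.1 this)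
    · exfalso
      have hsK : s ∈ K := by
        obtain ⟨k, hk, hke⟩ := (h ▸ mem_top (e ⟨s, d.s_mem_H⟩) : e ⟨s, d.s_mem_H⟩ ∈ _)
        rw [e.injective hke] at hk
        exact hk
      have htop : d.H = ⊤ := eq_top_iff.2 fun g _ => d.conj_s_in_H hx hxH hns
        (hKH _ ((inferInstance : K.Normal).conj_mem s hsK g))
      rw [htop, index_top] at hidx
      omega
  have h2 : φ.range.index = 2 := by
    have h := card_mul_index φ.range
    rw [← Nat.card_congr (MonoidHom.ofInjective hinj).toEquiv, hcard, Nat.card_perm, Nat.card_fin] at h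
    simp only [Nat.factorial] at h
    omega
  exact ⟨(MonoidHom.ofInjective hinj).trans
    (MulEquiv.subgroupCongr (Equiv.Perm.eq_alternatingGroup_of_index_eq_two h2))⟩

end Geo

end Cfsg.Agent.PGroups.SmallExtraspecial
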