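import Cfsg.Agent.PGroups.SmallExtraspecial.CentK
import Cfsg.Agent.PGroups.SmallExtraspecial.Recognition
import Cfsg.Agent.S3277

/-!
The centraliser of the third class has the shape (four × (A₄ or A₅)) · 2.
-/

set_option autoImplicit false

namespace Cfsg.Agent.PGroups.SmallExtraspecial

open Subgroup

variable {G : Type*} [Group G] [Finite G]

namespace Swap

variable {s x : G} {V₁ V₂ V₃ E T : Subgroup G} (d : Swap s x V₁ V₂ V₃ E T)

namespace Core

variable {d} {K₀ : Subgroup G} {f : G} {U W X : Subgroup G} (c : d.Core K₀ f U W X)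
include c

lemma U_le : U ≤ E := fun a ha => ((c.U_eq a).1 ha).1

lemma x_mem : x ∈ U := (c.U_eq x).2 ⟨d.xE, c.f_x⟩

lemma W_le_X : W ≤ X := by rw [← c.X_inf]; exact inf_le_left

lemma UW_one {a : G} (ha : a ∈ U) (ha' : a ∈ W) : a = 1 := by
  by_contra h1
  exact c.W_moved a ha' h1 ((c.U_eq a).1 ha).2

lemma sq {a : G} (ha : a ∈ E) : a * a = 1 := d.E_sq a ha

lemma fW {w : G} (hw : w ∈ W) : f * w * f⁻¹ ∈ W := by
  rw [← c.X_inf] at hw ⊢
  exact ⟨c.X_norm f c.f_mem w hw.1, (mem_normalizer_iff.1 c.f_norm w).1 hw.2⟩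

lemma U_Sx {a : G} (ha : a ∈ U) (ha1 : a ≠ 1) : a ∈ d.Sx :=
  ⟨⟨c.U_le ha, ha1⟩, fun ho => d.three_O c.f_norm c.f_three ho ((c.U_eq a).1 ha).2⟩

lemma s_not_U : s ∉ U := fun h => d.three_O c.f_norm c.f_three ⟨d.sE, IsConj.refl s⟩ ((c.U_eq s).1 h).2

lemma O_f {e : G} (he : e ∈ E) (hfe : f * e * f⁻¹ ∈ d.O) : e ∈ d.O := by
  have := d.O_conj (inv_mem c.f_norm) hfe
  rwa [inv_inv, show f⁻¹ * (f * e * f⁻¹) * f = e by group] at this

/-- The three nontrivial elements of `W`. -/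
lemma W_cases {w : G} (hw : w ∈ W) (h1 : w ≠ 1) {v : G} (hv : v ∈ W) :
    v = 1 ∨ v = w ∨ v = f * w * f⁻¹ ∨ v = f * (f * w * f⁻¹) * f⁻¹ := by
  set w₁ := f * w * f⁻¹ with hw₁
  set w₂ := f * w₁ * f⁻¹ with hw₂
  have n1 : w₁ ≠ w := fun e => c.W_moved w hw h1 (mul_inv_eq_iff_eq_mul.1 e)
  have n2 : w₂ ≠ w₁ := fun e => n1 (conj_inj (g := f) e)
  have n3 : w₂ ≠ w := by
    intro e
    have h3 : f ^ 3 = 1 := by rw [← c.f_three]; exact pow_orderOf_eq_one f
    have : f * w₂ * f⁻¹ = w := by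
      rw [hw₂, hw₁, show f * (f * (f * w * f⁻¹) * f⁻¹) * f⁻¹ = f * f * f * w * (f * f * f)⁻¹ by group,
        ← pow_three', h3]
      simp
    rw [e] at this
    exact n1 this
  have o1 : w₁ ≠ 1 := fun e => h1 (conj_eq_one_iff.1 e)
  have o2 : w₂ ≠ 1 := fun e => o1 (conj_eq_one_iff.1 e)
  have hset : (W : Set G) = {1, w, w₁, w₂} := by
    refine (Set.eq_of_subset_of_ncard_le ?_ ?_ (Set.toFinite _)).symm
    · rintro z (rfl | rfl | rfl | rfl)
      exacts [one_mem _, hw, c.fW hw, c.fW (c.fW hw)]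
    · rw [← Nat.card_coe_set_eq]
      change Nat.card W ≤ _
      rw [c.W_card, Set.ncard_insert_of_notMem (by simp [Ne.symm h1, Ne.symm o1, Ne.symm o2]),
        Set.ncard_insert_of_notMem (by simp [Ne.symm n1, Ne.symm n3]),
        Set.ncard_insert_of_notMem (by simp [Ne.symm n2]), Set.ncard_singleton]
  have : v ∈ (W : Set G) := hv
  rw [hset] at this
  exact this

/-- The involutions of `W` are of the class of `x`. -/
lemma W_Sx {w : G} (hw : w ∈ W) (h1 : w ≠ 1) : w ∈ d.Sx := by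
  refine ⟨⟨c.W_le hw, h1⟩, fun ho => ?_⟩
  have hWO : ∀ v ∈ W, v ≠ 1 → v ∈ d.O := by
    intro v hv hv1
    rcases c.W_cases hw h1 hv with e | e | e | e
    · exact absurd e hv1
    · exact e ▸ ho
    · exact e ▸ d.O_conj c.f_norm ho
    · exact e ▸ d.O_conj c.f_norm (d.O_conj c.f_norm ho)
  have hxs : x * s ∈ d.Sx := ⟨⟨d.xs_mem.2.1, d.xs_mem.2.2.1⟩,
    fun h => d.six_not_conj d.xs_mem.1 d.xs_mem.2.2.1 d.xs_mem.2.2.2 h.2⟩
  obtain ⟨a, ha, w₀, hw₀, he⟩ := c.split _ d.xs_mem.2.1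
  have hw01 : w₀ ≠ 1 := by
    intro e
    rw [e, mul_one] at he
    have := mul_mem c.x_mem (he ▸ ha)
    rw [← mul_assoc, d.E_sq x d.xE, one_mul] at this
    exact c.s_not_U this
  have ha1 : a ≠ 1 := by
    intro e
    rw [e, one_mul] at he
    exact hxs.2 (he ▸ hWO w₀ hw₀ hw01)
  -- the six are `U` and the triple through `x * s`
  have hline : ∀ v ∈ W, v ≠ 1 → a * v ∈ d.Sx := by
    intro v hv hv1
    have hfa : ∀ {z : G}, f * (a * z) * f⁻¹ = a * (f * z * f⁻¹) := fun {z} => by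
      rw [show f * (a * z) * f⁻¹ = f * a * f⁻¹ * (f * z * f⁻¹) by group,
        show f * a * f⁻¹ = a by rw [((c.U_eq a).1 ha).2, mul_inv_cancel_right]]
    have hne : ∀ {z : G}, z ∈ W → z ≠ 1 → a * z ≠ 1 := fun hz hz1 e =>
      hz1 (c.UW_one (by rw [← inv_eq_of_mul_eq_one_right e]; exact inv_mem ha) hz)
    have hstep : ∀ {z : G}, z ∈ W → z ≠ 1 → a * z ∈ d.Sx → a * (f * z * f⁻¹) ∈ d.Sx := by
      intro z hz hz1 h
      refine ⟨⟨mul_mem (c.U_le ha) (c.W_le (c.fW hz)), hne (c.fW hz) fun e => hz1 (conj_eq_one_iff.1 e)⟩,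
        fun h' => h.2 (c.O_f (mul_mem (c.U_le ha) (c.W_le hz)) ?_)⟩
      rwa [hfa]
    have h0 : a * w₀ ∈ d.Sx := he.symm ▸ hxs
    rcases c.W_cases hw₀ hw01 hv with e | e | e | e
    · exact absurd e hv1
    · exact e ▸ h0
    · exact e ▸ hstep hw₀ hw01 h0
    · exact e ▸ hstep (c.fW hw₀) (fun e' => hw01 (conj_eq_one_iff.1 e')) (hstep hw₀ hw01 h0)
  have hUW : d.Sx = ((U : Set G) \ {1}) ∪ (fun v => a * v) '' ((W : Set G) \ {1}) := by
    refine (Set.eq_of_subset_of_ncard_le ?_ ?_ (Set.toFinite _)).symm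
    · rintro y (⟨hy, hy1⟩ | ⟨v, ⟨hv, hv1⟩, rfl⟩)
      · exact c.U_Sx hy hy1
      · exact hline v hv hv1
    · rw [d.card_six, Set.ncard_union_eq ?_ (Set.toFinite _) (Set.toFinite _),
        Set.ncard_sdiff_singleton_of_mem (one_mem U), Set.ncard_image_of_injective _ (mul_right_injective a),
        Set.ncard_sdiff_singleton_of_mem (one_mem W), ← Nat.card_coe_set_eq, ← Nat.card_coe_set_eq]
      · change 6 ≤ Nat.card U - 1 + (Nat.card W - 1)
        rw [c.U_card, c.W_card]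
      · rw [Set.disjoint_left]
        rintro y ⟨hy, -⟩ ⟨v, ⟨hv, hv1⟩, rfl⟩
        refine hv1 (c.UW_one ?_ hv)
        have := mul_mem (inv_mem ha) hy
        rwa [inv_mul_cancel_left] at this
  -- a conjugate of `U` through `x * s`
  obtain ⟨n, hn, hnx⟩ : ∃ n ∈ normalizer (E : Set G), n * x * n⁻¹ = x * s := by
    rw [← d.orbit_x] at hxs; exact hxs
  have hB : ∀ b ∈ cjg n U, b ≠ 1 → b ∈ d.Sx := by
    intro b hb hb1
    rw [mem_cjg] at hb
    have h0 : n⁻¹ * b * n ≠ 1 := fun e => hb1 (by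
      rw [show b = n * (n⁻¹ * b * n) * n⁻¹ by group, e]; simp)
    obtain ⟨⟨h1, h2⟩, h3⟩ := c.U_Sx hb h0
    refine ⟨⟨?_, hb1⟩, fun ho => h3 ?_⟩
    · have := (mem_normalizer_iff.1 hn _).1 h1
      rwa [show n * (n⁻¹ * b * n) * n⁻¹ = b by group] at this
    · have := d.O_conj (inv_mem hn) ho
      rwa [inv_inv] at this
  have hxsB : x * s ∈ cjg n U := by rw [mem_cjg, ← hnx, conj_cancel]; exact c.x_mem
  obtain ⟨b, hb, hb1, hbne⟩ : ∃ b ∈ cjg n U, b ≠ 1 ∧ b ≠ x * s := by
    by_contra hne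
    push Not at hne
    have hsub : (cjg n U : Set G) ⊆ {1, x * s} := fun b hb => by
      by_cases hb1 : b = 1
      · exact Or.inl hb1
      · exact Or.inr (hne b hb hb1)
    have h1 := (Set.ncard_le_ncard hsub (Set.toFinite _)).trans (Set.ncard_insert_le _ _)
    rw [Set.ncard_singleton, ← Nat.card_coe_set_eq] at h1
    change Nat.card (cjg n U) ≤ 2 at h1
    rw [card_cjg, c.U_card] at h1
    omega
  have hb' : b * (x * s) ∈ d.Sx := hB _ (mul_mem hb hxsB) fun e => hbne (by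
    rw [← inv_eq_of_mul_eq_one_left e, inv_eq_of_mul_eq_one_right (d.E_sq _ d.xs_mem.2.1)])
  have hbS := hB b hb hb1
  rw [hUW] at hb' hbS
  rw [← he] at hb'
  rcases hbS with ⟨hbU, -⟩ | ⟨v, ⟨hv, hv1⟩, rfl⟩
  · rcases hb' with ⟨hU, -⟩ | ⟨v, ⟨hv, hv1⟩, e⟩
    · refine hw01 (c.UW_one ?_ hw₀)
      have := mul_mem (inv_mem ha) (mul_mem (inv_mem hbU) hU)
      rwa [inv_mul_cancel_left, inv_mul_cancel_left] at this
    · refine hb1 ?_
      have h1 : a⁻¹ * b * a = v * w₀⁻¹ := by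
        rw [eq_mul_inv_iff_mul_eq]
        calc a⁻¹ * b * a * w₀ = a⁻¹ * (b * (a * w₀)) := by group
          _ = v := by rw [← e]; group
      have h2 := c.UW_one (mul_mem (mul_mem (inv_mem ha) hbU) ha) (h1 ▸ mul_mem hv (inv_mem hw₀))
      rw [show b = a * (a⁻¹ * b * a) * a⁻¹ by group, h2]; simp
  · have hprod : a * v * (a * w₀) = v * w₀ := by
      rw [d.E_comm (c.U_le ha) (c.W_le hv), show v * a * (a * w₀) = v * (a * a) * w₀ by group,
        d.E_sq a (c.U_le ha), mul_one]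
    rw [hprod] at hb'
    have hvw : v * w₀ ≠ 1 := by
      intro e
      refine hbne ?_
      rw [← he, ← inv_eq_of_mul_eq_one_left e, inv_eq_of_mul_eq_one_right (d.E_sq _ (c.W_le hw₀))]
    rcases hb' with ⟨hU, -⟩ | ⟨z, ⟨hz, hz1⟩, e⟩
    · exact hvw (c.UW_one hU (mul_mem hv hw₀))
    · refine ha1 (c.UW_one ha ?_)
      have e' : a * z = v * w₀ := e
      have := mul_mem (mul_mem hv hw₀) (inv_mem hz)
      rwa [← e', mul_inv_cancel_right] at this

/-- Products across the two fours are of the class of `s`. -/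
lemma UW_O {a w : G} (ha : a ∈ U) (ha1 : a ≠ 1) (hw : w ∈ W) (hw1 : w ≠ 1) : a * w ∈ d.O := by
  have hUW : d.Sx = ((U : Set G) \ {1}) ∪ ((W : Set G) \ {1}) := by
    refine (Set.eq_of_subset_of_ncard_le ?_ ?_ (Set.toFinite _)).symm
    · rintro y (⟨hy, hy1⟩ | ⟨hy, hy1⟩)
      exacts [c.U_Sx hy hy1, c.W_Sx hy hy1]
    · rw [d.card_six, Set.ncard_union_eq ?_ (Set.toFinite _) (Set.toFinite _),
        Set.ncard_sdiff_singleton_of_mem (one_mem U), Set.ncard_sdiff_singleton_of_mem (one_mem W),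
        ← Nat.card_coe_set_eq, ← Nat.card_coe_set_eq]
      · change 6 ≤ Nat.card U - 1 + (Nat.card W - 1)
        rw [c.U_card, c.W_card]
      · rw [Set.disjoint_left]
        rintro y ⟨hy, hy1⟩ ⟨hy', -⟩
        exact hy1 (c.UW_one hy hy')
  rcases d.E_cases (mul_mem (c.U_le ha) (c.W_le hw)) with h | h | h
  · refine absurd (c.UW_one ?_ hw) hw1
    rw [← inv_eq_of_mul_eq_one_right h]; exact inv_mem ha
  · exact h
  · rw [hUW] at h
    rcases h with ⟨h, -⟩ | ⟨h, -⟩
    · refine absurd (c.UW_one ?_ hw) hw1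
      have := mul_mem (inv_mem ha) h
      rwa [inv_mul_cancel_left] at this
    · refine absurd (c.UW_one ha ?_) ha1
      have := mul_mem h (inv_mem hw)
      rwa [mul_inv_cancel_right] at this

/-- The centraliser of an involution of `W` in `C(x)` is a 2-group. -/
lemma cent_W {w g : G} (hw : w ∈ W) (hw1 : w ≠ 1) (hgx : g * x = x * g) (hgw : g * w = w * g)
    {p : ℕ} (hp : p.Prime) (hp2 : p ≠ 2) : orderOf g ≠ p := by
  intro hg
  have hy := c.UW_O c.x_mem d.x_ne hw hw1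
  have hgy : g * (x * w) = x * w * g := by rw [← mul_assoc, hgx, mul_assoc, hgw, mul_assoc]
  have hxy : x * (x * w) = x * w * x := d.E_comm d.xE hy.1
  obtain ⟨k, hk⟩ := isConj_iff.1 hy.2
  have hks : k⁻¹ * g * k * s = s * (k⁻¹ * g * k) := by
    refine (conj_comm_iff (g := k)).1 ?_
    rw [show k * (k⁻¹ * g * k) * k⁻¹ = g by group, hk]
    exact hgy
  have hko : orderOf (k⁻¹ * g * k) = p := by
    rw [show k⁻¹ * g * k = k⁻¹ * g * k⁻¹⁻¹ by rw [inv_inv], ← MulAut.conj_apply, MulEquiv.orderOf_eq, hg]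
  have h192 : p ∣ 192 := hko ▸ d.h₂.cardL ▸ (orderOf_mk _ (mem_centralizer_singleton_iff.2 hks) ▸
    orderOf_dvd_natCard (⟨_, mem_centralizer_singleton_iff.2 hks⟩ : centralizer ({s} : Set G)))
  have hp3 : p = 3 := by
    have : p ∈ Nat.primeFactors 192 := Nat.mem_primeFactors.2 ⟨hp, h192, by norm_num⟩
    rw [show (192 : ℕ).primeFactors = {2, 3} by
      rw [show (192 : ℕ) = 2 ^ 6 * 3 by norm_num, Nat.primeFactors_mul (by norm_num) (by norm_num),
        Nat.primeFactors_prime_pow (by norm_num) Nat.prime_two, Nat.Prime.primeFactors Nat.prime_three]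
      rfl] at this
    simpa [hp2] using this
  exact d.no_three hy.2 hgy hgx hxy (hp3 ▸ hg)

lemma X_x {y : G} (hy : y ∈ X) : y * x = x * y := mem_centralizer_singleton_iff.1 (c.K₀_le (c.X_le hy))

lemma not_eight : ¬ 8 ∣ Nat.card X := by
  intro h8
  haveI : Fact (Nat.Prime 2) := ⟨Nat.prime_two⟩
  set K := centralizer ({x} : Set G)
  have hRK : d.R ≤ K := inf_le_right
  obtain ⟨P, hP⟩ := ((IsPGroup.of_card (n := 5) (by rw [d.card_R]; norm_num) : IsPGroup 2 d.R).comap_subtype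
    (K := K)).exists_le_sylow
  have he := d.R_max (P := (P : Subgroup K).map K.subtype) (P.isPGroup'.map _)
    (by rintro _ ⟨p, -, rfl⟩; exact mem_centralizer_singleton_iff.1 p.2) (fun r hr => ⟨⟨r, hRK hr⟩, hP hr, rfl⟩)
  obtain ⟨m, hm⟩ := h8
  have h1 := P.pow_dvd_card_of_pow_dvd_card (n := 6) (by
    rw [← c.half, c.X_card, hm]; exact ⟨m, by ring⟩)
  rw [← card_map_of_injective K.subtype_injective, he, d.card_R] at h1
  norm_num at h1

/-- The four-group is self-centralising in `X`. -/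
lemma cent_X {w g : G} (hw : w ∈ W) (hw1 : w ≠ 1) (hg : g ∈ X) (hgw : g * w = w * g) : g ∈ W := by
  haveI : Fact (Nat.Prime 2) := ⟨Nat.prime_two⟩
  set C := X ⊓ centralizer ({w} : Set G)
  have hp : IsPGroup 2 C := isPGroup_two_of_no_odd C fun y hy p hp hp2 =>
    c.cent_W hw hw1 (c.X_x hy.1) (mem_centralizer_singleton_iff.1 hy.2) hp hp2
  have hWC : W ≤ C := fun v hv => ⟨c.W_le_X hv, mem_centralizer_singleton_iff.2 (d.E_comm (c.W_le hv) (c.W_le hw))⟩
  obtain ⟨k, hk⟩ := hp.exists_card_eq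
  have hk3 : k < 3 := by
    by_contra hk3
    exact c.not_eight ((pow_dvd_pow 2 (Nat.le_of_not_lt hk3)).trans (hk ▸ card_dvd_of_le (inf_le_left : C ≤ X)))
  have hle : Nat.card C ≤ Nat.card W := by
    rw [c.W_card, hk]
    exact Nat.pow_le_pow_right (by norm_num) (show k ≤ 2 by omega)
  rw [eq_of_le_of_card_ge hWC hle]
  exact ⟨hg, mem_centralizer_singleton_iff.2 hgw⟩

lemma exists_w : ∃ w ∈ W, w ≠ 1 := by
  haveI : Nontrivial W := Finite.one_lt_card_iff_nontrivial.1 (by rw [c.W_card]; norm_num)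
  obtain ⟨⟨w, hw⟩, hw1⟩ := exists_ne (1 : W)
  exact ⟨w, hw, fun e => hw1 (Subtype.ext e)⟩

/-- `X` has order 12 or is alternating of degree 5. -/
theorem shape : Nat.card X = 12 ∨ Nonempty (X ≃* alternatingGroup (Fin 5)) := by
  classical
  haveI : Fact (Nat.Prime 2) := ⟨Nat.prime_two⟩
  obtain ⟨w, hw, hw1⟩ := c.exists_w
  set w' : X := ⟨w, c.W_le_X hw⟩ with hw'
  have hww : orderOf w' = 2 := by
    rw [← orderOf_coe]; exact two_iff.2 ⟨d.E_sq w (c.W_le hw), hw1⟩
  have hcent : centralizer ({w'} : Set X) = W.subgroupOf X := by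
    ext g
    rw [mem_centralizer_singleton_iff, mem_subgroupOf]
    exact ⟨fun h => c.cent_X hw hw1 g.2 (congrArg Subtype.val h),
      fun h => Subtype.ext (d.E_comm (c.W_le h) (c.W_le hw))⟩
  have hWsc : Nat.card (W.subgroupOf X) = 4 := by
    rw [Nat.card_congr (subgroupOfEquivOfLe c.W_le_X).toEquiv, c.W_card]
  -- a normal subgroup of order four would be `W`
  by_cases hWn : (W.subgroupOf X).Normal
  · left
    have horb := card_eq_orbit_mul X w
    have hstab : X ⊓ centralizer ({w} : Set G) = W := le_antisymm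
      (fun g hg => c.cent_X hw hw1 hg.1 (mem_centralizer_singleton_iff.1 hg.2))
      (fun v hv => ⟨c.W_le_X hv, mem_centralizer_singleton_iff.2 (d.E_comm (c.W_le hv) (c.W_le hw))⟩)
    have hOe : {y : G | ∃ g ∈ X, g * w * g⁻¹ = y} = (W : Set G) \ {1} := by
      ext y
      constructor
      · rintro ⟨g, hg, rfl⟩
        refine ⟨?_, fun e => hw1 (conj_eq_one_iff.1 e)⟩
        exact hWn.conj_mem w' (mem_subgroupOf.2 hw) ⟨g, hg⟩
      · rintro ⟨hy, hy1⟩
        rcases c.W_cases hw hw1 hy with e | e | e | e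
        · exact absurd e hy1
        · exact ⟨1, one_mem _, by simp [e]⟩
        · exact ⟨f, c.f_X, e.symm⟩
        · exact ⟨f * f, mul_mem c.f_X c.f_X, by rw [e]; group⟩
    rw [hOe, hstab, Set.ncard_sdiff_singleton_of_mem (one_mem W), ← Nat.card_coe_set_eq] at horb
    change Nat.card X = (Nat.card W - 1) * Nat.card W at horb
    rw [c.W_card] at horb
    exact horb
  right
  refine S3277.result w' hww (by rw [hcent, hWsc]) (fun g hg => ?_) ?_ ?_
  · rw [hcent] at hg
    exact Subtype.ext (by rw [pow_two]; exact d.E_sq _ (c.W_le hg))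
  · rintro ⟨P, N, hNn, hN⟩
    have hNc : Nat.card N * Nat.card (P : Subgroup X) = Nat.card X := hN.card_mul
    have hP4 : Nat.card (P : Subgroup X) = 4 := by
      obtain ⟨Q, hQ⟩ := (IsPGroup.of_card (p := 2) (n := 2) hWsc).exists_le_sylow
      obtain ⟨k, hk⟩ := P.isPGroup'.exists_card_eq
      have hk3 : k < 3 := by
        by_contra hk3
        exact c.not_eight ((pow_dvd_pow 2 (Nat.le_of_not_lt hk3)).trans (hk ▸ card_subgroup_dvd_card _))
      have h4 := P.pow_dvd_card_of_pow_dvd_card (n := 2) (by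
        rw [show (2 : ℕ) ^ 2 = Nat.card (W.subgroupOf X) by rw [hWsc]; norm_num]; exact card_subgroup_dvd_card _)
      rw [hk] at h4 ⊢
      have := (Nat.pow_dvd_pow_iff_le_right (by norm_num)).1 h4
      rw [show k = 2 by omega]; norm_num
    -- the quotient by the complement is abelian
    have hcomm : ∀ a b : X, a * b * a⁻¹ * b⁻¹ ∈ N := by
      intro a b
      haveI := hNn
      rw [← QuotientGroup.eq_one_iff]
      have hq : Nat.card (X ⧸ N) = 2 ^ 2 := by
        have h := card_eq_card_quotient_mul_card_subgroup N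
        rw [← hNc, hP4, mul_comm] at h
        have := Nat.card_pos (α := N)
        norm_num
        exact (Nat.eq_of_mul_eq_mul_right this h).symm
      have hc := IsPGroup.commutative_of_card_eq_prime_sq hq
      simp only [QuotientGroup.mk_mul, QuotientGroup.mk_inv]
      rw [hc (a : X ⧸ N) b]; group
    have h1 := hcomm ⟨f, c.f_X⟩ w'
    set z : X := ⟨f, c.f_X⟩ * w' * (⟨f, c.f_X⟩ : X)⁻¹ * w'⁻¹ with hz
    have hzW : (z : G) ∈ W := mul_mem (c.fW hw) (inv_mem hw)
    have hz1 : z = 1 := by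
      rw [← orderOf_eq_one_iff]
      have hA : orderOf z ∣ 2 := orderOf_dvd_of_pow_eq_one (Subtype.ext (by rw [pow_two]; exact d.E_sq _ (c.W_le hzW)))
      have hB : orderOf z ∣ Nat.card N := orderOf_mk z h1 ▸ orderOf_dvd_natCard (⟨z, h1⟩ : N)
      refine Nat.eq_one_of_dvd_coprimes ?_ hA hB
      refine Nat.prime_two.coprime_iff_not_dvd.2 fun h2 => ?_
      obtain ⟨m, hm⟩ := h2
      exact c.not_eight ⟨m, by rw [← hNc, hP4, hm]; ring⟩
    refine c.W_moved w hw hw1 (mul_inv_eq_iff_eq_mul.1 ?_)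
    exact mul_inv_eq_one.1 (congrArg Subtype.val hz1)
  · intro A hAn hA
    haveI := hAn
    refine ⟨fun hA2 => ?_, fun hA4 => ?_⟩
    · -- a central involution
      haveI : Nontrivial A := Finite.one_lt_card_iff_nontrivial.1 (by rw [hA2]; norm_num)
      obtain ⟨⟨a, ha⟩, ha1⟩ := exists_ne (1 : A)
      have ha1' : a ≠ 1 := fun e => ha1 (Subtype.ext e)
      have huniq : ∀ b ∈ A, b = 1 ∨ b = a := by
        intro b hb
        by_contra hne
        push Not at hne
        have hsub : ({1, a, b} : Set X) ⊆ A := by rintro y (rfl | rfl | rfl) <;> first | exact one_mem _ | assumption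
        have := Set.ncard_le_ncard hsub (Set.toFinite _)
        rw [Set.ncard_insert_of_notMem (by simp [Ne.symm ha1', Ne.symm hne.1]),
          Set.ncard_pair (Ne.symm hne.2), ← Nat.card_coe_set_eq] at this
        change 3 ≤ Nat.card A at this
        omega
      have hcen : ∀ g : X, g * a = a * g := fun g => mul_inv_eq_iff_eq_mul.1
        ((huniq _ (hAn.conj_mem a ha g)).resolve_left fun e => ha1' (conj_eq_one_iff.1 e))
      have haW : (a : G) ∈ W := c.cent_X hw hw1 a.2 (congrArg Subtype.val (hcen w').symm)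
      exact c.W_moved a haW (fun e => ha1' (Subtype.ext e)) (congrArg Subtype.val (hcen ⟨f, c.f_X⟩))
    · have hle : A ≤ W.subgroupOf X := by
        have hsup : IsPGroup 2 ↥(A ⊔ W.subgroupOf X) := IsPGroup.to_sup_of_normal_left
          (IsPGroup.of_card (n := 2) (by rw [hA4]; norm_num)) (IsPGroup.of_card (p := 2) (n := 2) hWsc)
        obtain ⟨k, hk⟩ := hsup.exists_card_eq
        have hk3 : k < 3 := by
          by_contra hk3
          exact c.not_eight ((pow_dvd_pow 2 (Nat.le_of_not_lt hk3)).trans (hk ▸ card_subgroup_dvd_card _))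
        have he : W.subgroupOf X = A ⊔ W.subgroupOf X := eq_of_le_of_card_ge le_sup_right (by
          rw [hWsc, hk]; exact Nat.pow_le_pow_right (by norm_num) (show k ≤ 2 by omega))
        exact le_sup_left.trans he.ge
      exact hWn ((eq_of_le_of_card_ge hle (by rw [hA4, hWsc])) ▸ hAn)

lemma card_K : Nat.card (centralizer ({x} : Set G)) = 8 * Nat.card X := by
  rw [← c.half, c.X_card]; ring

end Core

include d

/-- The small case: the centraliser lies in the component, so the group is alternating of degree 8. -/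
theorem eight_of_small {K₀ : Subgroup G} {f : G} {U W X : Subgroup G} (c : d.Core K₀ f U W X)
    (h12 : Nat.card X = 12) : Nonempty (G ≃* alternatingGroup (Fin 8)) := by
  have hxH : x ∈ d.geo.H := d.geo.N_le_H (le_normalizer d.xE)
  refine d.geo.eight (two_iff.2 ⟨d.E_sq x d.xE, d.x_ne⟩) hxH d.x_not_conj ?_
  have he : d.NX = centralizer ({x} : Set G) := eq_of_le_of_card_ge inf_le_right (by
    rw [c.card_K, h12, d.card_NX])
  rw [← he]
  exact inf_le_left.trans d.geo.N_le_H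

end Swap

end Cfsg.Agent.PGroups.SmallExtraspecial
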