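import Mathlib

/-!
A finite fact about permutations of five points.
-/

set_option autoImplicit false

namespace Cfsg.Agent.PGroups.SmallExtraspecial

set_option maxRecDepth 20000 in
set_option synthInstance.maxSize 4000 in
set_option synthInstance.maxHeartbeats 1000000 in
/-- A four-group of `A₅` is self-centralising in `S₅`. -/
theorem cent_four_five : ∀ a : Equiv.Perm (Fin 5), Equiv.Perm.sign a = 1 → a * a = 1 → a ≠ 1 →
    ∀ b : Equiv.Perm (Fin 5), Equiv.Perm.sign b = 1 → b * b = 1 → b ≠ 1 → a ≠ b → a * b = b * a →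
    ∀ p : Equiv.Perm (Fin 5), p * a = a * p → p * b = b * p → p = 1 ∨ p = a ∨ p = b ∨ p = a * b := by
  decide +kernel

end Cfsg.Agent.PGroups.SmallExtraspecial
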