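import Cfsg.Agent.PGroups.SmallExtraspecial.CentData
import Cfsg.Agent.H14.S3344Rec.CountData
import Cfsg.Agent.H14.S3344Rec.Shape
import Cfsg.Agent.PGroups.SmallExtraspecial.CentFour

/-!
The centraliser of the third class supplies the data of the order count.
-/

set_option autoImplicit false

namespace Cfsg.Agent.PGroups.SmallExtraspecial

open Subgroup

variable {G : Type*} [Group G] [Finite G]

namespace Swap

variable {s x : G} {V₁ V₂ V₃ E T : Subgroup G} {d : Swap s x V₁ V₂ V₃ E T}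

namespace Core

variable {K₀ : Subgroup G} {f : G} {U W X : Subgroup G} (c : d.Core K₀ f U W X)
include c

lemma f_inv_W {w : G} (hw : w ∈ W) : f⁻¹ * w * f ∈ W := by
  rw [← c.X_inf] at hw ⊢
  refine ⟨?_, ?_⟩
  · have h := c.X_norm f⁻¹ (inv_mem c.f_mem) w hw.1
    rwa [inv_inv] at h
  · have h := (mem_normalizer_iff.1 (inv_mem c.f_norm) w).1 hw.2
    rwa [inv_inv] at h

/-- Inside `C(x)` the centraliser of `W` is `E`. -/
lemma cent_W_eq {k : G} (hkx : k * x = x * k) (hk : ∀ w ∈ W, k * w = w * k) : k ∈ E := by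
  haveI : Fact (Nat.Prime 2) := ⟨Nat.prime_two⟩
  set C := centralizer ({x} : Set G) with hC
  set D := C ⊓ centralizer (W : Set G) with hDdef
  obtain ⟨w, hw, hw1⟩ := c.exists_w
  have hD : IsPGroup 2 D := isPGroup_two_of_no_odd D fun y hy p hp hp2 =>
    c.cent_W hw hw1 (mem_centralizer_singleton_iff.1 hy.1) (mem_centralizer_iff.1 hy.2 w hw).symm hp hp2
  have hED : E ≤ D := fun e he => ⟨mem_centralizer_singleton_iff.2 (d.E_comm he d.xE),
    mem_centralizer_iff.2 fun v hv => d.E_comm (c.W_le hv) he⟩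
  have hkD : k ∈ D := ⟨mem_centralizer_singleton_iff.2 hkx,
    mem_centralizer_iff.2 fun v hv => (hk v hv).symm⟩
  by_contra hkE
  obtain ⟨Q, hQ⟩ := (hD.comap_subtype (K := C)).exists_le_sylow
  obtain ⟨P, hP⟩ := ((IsPGroup.of_card (n := 5) (by rw [d.card_R]; norm_num) : IsPGroup 2 d.R).comap_subtype
    (K := C)).exists_le_sylow
  have hRC : d.R ≤ C := inf_le_right
  have hPR := d.R_max (P := (P : Subgroup C).map C.subtype) (P.isPGroup'.map _)
    (by rintro _ ⟨p, -, rfl⟩; exact mem_centralizer_singleton_iff.1 p.2)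
    (fun r hr => ⟨⟨r, hRC hr⟩, hP hr, rfl⟩)
  obtain ⟨g, hg⟩ := MulAction.exists_smul_eq C Q P
  have hle : cjg (g : G) D ≤ d.R := by
    intro z hz
    rw [mem_cjg] at hz
    rw [← hPR]
    refine ⟨g * ⟨_, hz.1⟩ * g⁻¹, ?_, by simp [mul_assoc]⟩
    rw [← hg]
    exact smul_mem_pointwise_smul _ (MulAut.conj g) _ (hQ hz)
  obtain ⟨n, hn⟩ := hD.exists_card_eq
  have hlt : Nat.card E < Nat.card D := by
    rcases Nat.lt_or_ge (Nat.card E) (Nat.card D) with h | h
    · exact h
    · exact absurd ((eq_of_le_of_card_ge hED h) ▸ hkD) hkE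
  rw [d.E_card, hn, show (16 : ℕ) = 2 ^ 4 by norm_num, Nat.pow_lt_pow_iff_right (by norm_num)] at hlt
  have heq : cjg (g : G) D = d.R := eq_of_le_of_card_ge hle (by
    rw [card_cjg, hn, d.card_R, show (32 : ℕ) = 2 ^ 5 by norm_num]
    exact Nat.pow_le_pow_right (by norm_num) hlt)
  have hfD : ∀ z ∈ D, f * z * f⁻¹ ∈ D := by
    intro z hz
    have hfC : f ∈ C := mem_centralizer_singleton_iff.2 c.f_x
    refine ⟨C.mul_mem (C.mul_mem hfC hz.1) (C.inv_mem hfC), mem_centralizer_iff.2 fun v hv => ?_⟩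
    have h := (conj_comm_iff (g := f)).2 (mem_centralizer_iff.1 hz.2 _ (c.f_inv_W hv))
    rwa [show f * (f⁻¹ * v * f) * f⁻¹ = v by group] at h
  have hfn : (g : G) * f * (g : G)⁻¹ ∈ d.R := by
    refine d.R_norm (mem_centralizer_singleton_iff.1
      (C.mul_mem (C.mul_mem g.2 (mem_centralizer_singleton_iff.2 c.f_x)) (C.inv_mem g.2))) fun r hr => ?_
    rw [← heq, mem_cjg] at hr ⊢
    rw [show (g : G)⁻¹ * ((g : G) * f * (g : G)⁻¹ * r * ((g : G) * f * (g : G)⁻¹)⁻¹) * g = f * ((g : G)⁻¹ * r * g) * f⁻¹ by group]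
    exact hfD _ hr
  have h3 : orderOf ((g : G) * f * (g : G)⁻¹) = 3 := by
    rw [← MulAut.conj_apply, MulEquiv.orderOf_eq, c.f_three]
  have h : 3 ∣ 32 := by
    rw [← d.card_R, ← h3, ← orderOf_mk _ hfn]
    exact orderOf_dvd_natCard _
  norm_num at h

lemma hout {k : G} (hkx : k * x = x * k) (hk : ∀ w ∈ W, k * w = w * k) :
    k ∈ centralizer (U : Set G) :=
  mem_centralizer_iff.2 fun _ ha => d.E_comm (c.U_le ha) (c.cent_W_eq hkx hk)

/-- `U` centralises the component. -/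
lemma commute_UX (hA : Nonempty (X ≃* alternatingGroup (Fin 5))) {a y : G} (ha : a ∈ U) (hy : y ∈ X) :
    Commute a y := by
  obtain ⟨e⟩ := hA
  have haK := c.E_le (c.U_le ha)
  have han : a ∈ normalizer (X : Set G) := mem_normalizer_of_conj_mem fun z hz => c.X_norm a haK z hz
  obtain ⟨w, hw, hw1⟩ := c.exists_w
  have hv := c.fW hw
  have hv1 : f * w * f⁻¹ ≠ 1 := fun h => hw1 (conj_eq_one_iff.1 h)
  have hne : w ≠ f * w * f⁻¹ := fun h => c.W_moved w hw hw1 (mul_inv_eq_iff_eq_mul.1 h.symm)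
  set v := f * w * f⁻¹ with hvdef
  set p := H14.S3344Rec.act e (by omega) (by omega) ⟨a, han⟩ with hp
  have hsp : ∀ {z : G} (hz : z ∈ X), a * z = z * a →
      p * H14.S3344Rec.img e ⟨z, hz⟩ = H14.S3344Rec.img e ⟨z, hz⟩ * p := by
    intro z hz hc
    have h := H14.S3344Rec.act_spec e (by omega) (by omega) ⟨a, han⟩ ⟨z, hz⟩
    have hval : (⟨a * z * a⁻¹, (mem_normalizer_iff.1 han z).1 hz⟩ : X) = ⟨z, hz⟩ :=
      Subtype.ext (mul_inv_eq_iff_eq_mul.2 hc)
    exact (mul_inv_eq_iff_eq_mul.1 ((congrArg (H14.S3344Rec.img e) hval).symm.trans h).symm)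
  have hwX := c.W_le_X hw
  have hvX := c.W_le_X hv
  have hor := cent_four_five (H14.S3344Rec.img e ⟨w, hwX⟩) (H14.S3344Rec.img_ev e _)
    ((H14.S3344Rec.img_sq e).2 (d.E_sq w (c.W_le hw))) ((H14.S3344Rec.img_ne_one e).2 hw1)
    (H14.S3344Rec.img e ⟨v, hvX⟩) (H14.S3344Rec.img_ev e _)
    ((H14.S3344Rec.img_sq e).2 (d.E_sq v (c.W_le hv))) ((H14.S3344Rec.img_ne_one e).2 hv1)
    (fun h => hne (congrArg Subtype.val (H14.S3344Rec.img_inj e h)))
    ((H14.S3344Rec.img_comm e).2 (d.E_comm (c.W_le hw) (c.W_le hv))) p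
    (hsp hwX (d.E_comm (c.U_le ha) (c.W_le hw))) (hsp hvX (d.E_comm (c.U_le ha) (c.W_le hv)))
  -- the permutation is the image of an element of `W`
  obtain ⟨z, hz, hpz⟩ : ∃ z, ∃ hz : z ∈ W, p = H14.S3344Rec.img e ⟨z, c.W_le_X hz⟩ := by
    rcases hor with h | h | h | h
    · exact ⟨1, one_mem _, h.trans (map_one _).symm⟩
    · exact ⟨w, hw, h⟩
    · exact ⟨v, hv, h⟩
    · exact ⟨w * v, mul_mem hw hv, h.trans (map_mul _ _ _).symm⟩
  have hfz := hsp c.f_X ((c.U_eq a).1 ha).2.symm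
  rw [hpz] at hfz
  have hz1 : z = 1 := by
    by_contra h1
    exact c.W_moved z hz h1 ((H14.S3344Rec.img_comm e).1 hfz).eq.symm
  refine H14.S3344Rec.act_eq_one e (by omega) (by omega) (k := ⟨a, han⟩) ?_ hy
  rw [← hp, hpz]
  subst hz1
  exact map_one _

lemma UX_disjoint : Disjoint U X := by
  rw [disjoint_iff, eq_bot_iff_forall]
  rintro a ⟨ha, ha'⟩
  exact c.UW_one ha (c.X_inf ▸ ⟨ha', c.U_le ha⟩ : a ∈ W)

lemma card_X_sixty (hA : Nonempty (X ≃* alternatingGroup (Fin 5))) : Nat.card X = 60 := by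
  obtain ⟨e⟩ := hA
  rw [Nat.card_congr e.toEquiv, nat_card_alternatingGroup, Nat.card_fin]
  rfl

lemma cent_U_ne : centralizer (U : Set G) ≠ centralizer ({x} : Set G) := by
  intro he
  have hsub : (U : Set G) ⊆ {1, x} := by
    intro a ha
    have hcomm : ∀ r : G, r * x = x * r → r * a = a * r := fun r hr =>
      (mem_centralizer_iff.1 (he ▸ mem_centralizer_singleton_iff.2 hr : r ∈ centralizer (U : Set G)) a ha).symm
    rcases d.R_center a (d.E_comm (c.U_le ha) d.sE) (d.E_comm (c.U_le ha) d.xE)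
      (fun r _ h2 => hcomm r h2) with h | h | h | h
    · exact Or.inl h
    · exact absurd (h ▸ ha) c.s_not_U
    · exact Or.inr h
    · exfalso
      refine c.s_not_U ?_
      have := mul_mem c.x_mem (h ▸ ha)
      rwa [← mul_assoc, d.E_sq x d.xE, one_mul] at this
  have h1 := (Set.ncard_le_ncard hsub (Set.toFinite _)).trans (Set.ncard_insert_le _ _)
  rw [Set.ncard_singleton, ← Nat.card_coe_set_eq] at h1
  change Nat.card U ≤ 2 at h1
  rw [c.U_card] at h1
  omega

lemma cent_U (hA : Nonempty (X ≃* alternatingGroup (Fin 5))) : centralizer (U : Set G) ≤ U ⊔ X := by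
  have hle : U ⊔ X ≤ centralizer (U : Set G) := sup_le
    (fun a ha => mem_centralizer_iff.2 fun b hb => d.E_comm (c.U_le hb) (c.U_le ha))
    (fun y hy => mem_centralizer_iff.2 fun b hb => (c.commute_UX hA hb hy).eq)
  refine (eq_of_le_of_card_ge hle ?_).ge
  have hCx : centralizer (U : Set G) ≤ centralizer ({x} : Set G) := fun k hk =>
    mem_centralizer_singleton_iff.2 (mem_centralizer_iff.1 hk x c.x_mem).symm
  have h480 : Nat.card (centralizer ({x} : Set G)) = 480 := by rw [c.card_K, c.card_X_sixty hA]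
  obtain ⟨m, hm⟩ := card_dvd_of_le hCx
  have hm2 : 2 ≤ m := by
    rcases Nat.lt_or_ge m 2 with h | h
    · exfalso
      interval_cases m
      · rw [mul_zero, h480] at hm; omega
      · exact c.cent_U_ne (eq_of_le_of_card_ge hCx (by rw [hm, mul_one]))
    · exact h
  have hprod : Nat.card U * Nat.card X ≤ Nat.card (U ⊔ X : Subgroup G) := by
    rw [← Nat.card_prod]
    refine Nat.card_le_card_of_injective
      (fun p : U × X => (⟨p.1 * p.2, mul_mem (mem_sup_left p.1.2) (mem_sup_right p.2.2)⟩ : (U ⊔ X : Subgroup G)))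
      ?_
    rintro ⟨a, y⟩ ⟨a', y'⟩ h
    have h' : (a : G) * y = a' * y' := congrArg Subtype.val h
    have h1 : ((a' : G)⁻¹ * a) = y' * (y : G)⁻¹ := by
      rw [eq_mul_inv_iff_mul_eq, mul_assoc, h', inv_mul_cancel_left]
    have h2 : ((a' : G)⁻¹ * a) = 1 := disjoint_def.1 c.UX_disjoint (mul_mem (inv_mem a'.2) a.2)
      (h1 ▸ mul_mem y'.2 (inv_mem y.2))
    exact Prod.ext (Subtype.ext (inv_mul_eq_one.1 h2).symm)
      (Subtype.ext (mul_inv_eq_one.1 (h1.symm.trans h2)).symm)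
  rw [c.U_card, c.card_X_sixty hA] at hprod
  rw [h480] at hm
  nlinarith

/-- The data of the count. -/
theorem exists_count (hA : Nonempty (X ≃* alternatingGroup (Fin 5)))
    (hcl : ∀ t : G, orderOf t = 2 → IsConj s t ∨ IsConj x t)
    (hfour : ∀ y : G, orderOf y = 3 → y * s = s * y → ¬ 4 ∣ Nat.card (centralizer ({s, y} : Set G)))
    (hpairs : Nat.card {p : G × G // IsConj s p.1 ∧ IsConj x p.2 ∧ s ∈ zpowers (p.1 * p.2)} = 156) :
    ∃ D : H14.S3344Rec.Count G, D.s = s :=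
  ⟨{  s := s, v := x, V := U, W := W, X := X
      ord_s := d.h₂.order
      ord_v := two_iff.2 ⟨d.E_sq x d.xE, d.x_ne⟩
      v_mem := c.x_mem
      V_card := c.U_card
      V_exp := fun a ha => by rw [pow_two]; exact d.E_sq a (c.U_le ha)
      W_card := c.W_card
      W_le := c.W_le_X
      equiv_X := hA
      commute_VX := fun _ ha _ hy => c.commute_UX hA ha hy
      disj := c.UX_disjoint
      cent_V := c.cent_U hA
      card_cent := by rw [c.card_K, c.card_X_sixty hA]
      card_cent_s := d.h₂.cardL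
      hout := fun _ h1 h2 => c.hout h1 h2
      not_conj := d.x_not_conj
      classes := hcl
      hW := fun _ hb hb1 => d.six_conj (c.W_Sx hb hb1)
      hVW := fun _ ha ha1 _ hb hb1 => (c.UW_O ha ha1 hb hb1).2
      hfour := hfour
      pairs_s := hpairs }, rfl⟩

end Core

variable (d)
include d

/-- The swap configuration: degree 8, or the data of the count for degree 9. -/
theorem eight_or_count
    (hcl : ∀ t : G, orderOf t = 2 → IsConj s t ∨ IsConj x t)
    (hfour : ∀ y : G, orderOf y = 3 → y * s = s * y → ¬ 4 ∣ Nat.card (centralizer ({s, y} : Set G)))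
    (hpairs : Nat.card {p : G × G // IsConj s p.1 ∧ IsConj x p.2 ∧ s ∈ zpowers (p.1 * p.2)} = 156) :
    Nonempty (G ≃* alternatingGroup (Fin 8)) ∨ ∃ D : H14.S3344Rec.Count G, D.s = s := by
  obtain ⟨K₀, f, U, W, X, c⟩ := d.exists_core
  rcases c.shape with h | h
  · exact Or.inl (d.eight_of_small c h)
  · exact Or.inr (c.exists_count h hcl hfour hpairs)

/-- If the group of the count has order `9!/2`, the swap configuration is alternating of degree 8 or 9. -/
theorem eight_or_nine (hcount : ∀ _D : H14.S3344Rec.Count G, Nat.card G = 181440)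
    (hcl : ∀ t : G, orderOf t = 2 → IsConj s t ∨ IsConj x t)
    (hfour : ∀ y : G, orderOf y = 3 → y * s = s * y → ¬ 4 ∣ Nat.card (centralizer ({s, y} : Set G)))
    (hpairs : Nat.card {p : G × G // IsConj s p.1 ∧ IsConj x p.2 ∧ s ∈ zpowers (p.1 * p.2)} = 156) :
    Nonempty (G ≃* alternatingGroup (Fin 8)) ∨ Nonempty (G ≃* alternatingGroup (Fin 9)) := by
  rcases d.eight_or_count hcl hfour hpairs with h | ⟨D, -⟩
  · exact Or.inl h
  · exact Or.inr (d.geo.nine (two_iff.2 ⟨d.E_sq x d.xE, d.x_ne⟩)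
      (d.geo.N_le_H (le_normalizer d.xE)) d.x_not_conj (hcount D))

end Swap

end Cfsg.Agent.PGroups.SmallExtraspecial
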