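import Cfsg.Agent.PGroups.SmallExtraspecial.Basic

/-!
The exit: if no conjugate of `s` in the normaliser of an elementary abelian subgroup `V` of order 8 lies
outside `V`, the normaliser is the whole group.
-/

set_option autoImplicit false

namespace Cfsg.Agent.PGroups.SmallExtraspecial

open Subgroup

variable {G : Type*} [Group G]

/-- An elementary abelian subgroup of order 8 normalised by `C(s)` on whose involutions its normaliser is
transitive, `C(s)` being of order 192 with elements of order 3 fixing only `⟨s⟩` in it. -/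
structure Sett (s : G) (V : Subgroup G) : Prop where
  order : orderOf s = 2
  s_mem : s ∈ V
  sq : ∀ v ∈ V, v * v = 1
  card : Nat.card V = 8
  norm : centralizer ({s} : Set G) ≤ normalizer (V : Set G)
  self : ∀ g : G, (∀ v ∈ V, g * v = v * g) → g ∈ V
  trans : ∀ v ∈ V, v ≠ 1 → ∃ m ∈ normalizer (V : Set G), m * v * m⁻¹ = s
  cardL : Nat.card (centralizer ({s} : Set G)) = 192
  fpf : ∀ y : G, y * s = s * y → orderOf y = 3 → ∀ v ∈ V, y * v = v * y → v = 1 ∨ v = s

namespace Sett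

variable {s : G} {V : Subgroup G} (h : Sett s V)
include h

lemma comm {u v : G} (hu : u ∈ V) (hv : v ∈ V) : u * v = v * u := by
  have e := h.sq _ (mul_mem hu hv)
  calc u * v = (u * v)⁻¹ := (inv_eq_of_mul_eq_one_right e).symm
    _ = v * u := by
      rw [_root_.mul_inv_rev, inv_eq_of_mul_eq_one_right (h.sq v hv), inv_eq_of_mul_eq_one_right (h.sq u hu)]

lemma two {v : G} (hv : v ∈ V) (h1 : v ≠ 1) : orderOf v = 2 := two_iff.2 ⟨h.sq v hv, h1⟩

lemma cent_le {v : G} (hv : v ∈ V) (h1 : v ≠ 1) {g : G} (hg : g * v = v * g) :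
    g ∈ normalizer (V : Set G) := by
  obtain ⟨m, hm, hms⟩ := h.trans v hv h1
  have h2 : m * g * m⁻¹ * s = s * (m * g * m⁻¹) := by rw [← hms]; exact conj_comm_iff.2 hg
  have h3 : m * g * m⁻¹ ∈ normalizer (V : Set G) := h.norm (mem_centralizer_singleton_iff.2 h2)
  rw [← conj_cancel (g := m) (x := g)]
  exact mul_mem (mul_mem (inv_mem hm) h3) hm

lemma conj_of_mem {v : G} (hv : v ∈ V) (h1 : v ≠ 1) : ∃ g : G, g * s * g⁻¹ = v := by
  obtain ⟨m, -, hms⟩ := h.trans v hv h1
  exact ⟨m⁻¹, by rw [inv_inv, ← hms]; exact conj_cancel⟩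

variable (hcl : ∀ g : G, g * s * g⁻¹ ∈ normalizer (V : Set G) → g * s * g⁻¹ ∈ V)
include hcl

lemma cl_mem {v g : G} (hv : v ∈ V) (h1 : v ≠ 1) (hg : g * v * g⁻¹ ∈ normalizer (V : Set G)) :
    g * v * g⁻¹ ∈ V := by
  obtain ⟨k, rfl⟩ := h.conj_of_mem hv h1
  have e : g * (k * s * k⁻¹) * g⁻¹ = g * k * s * (g * k)⁻¹ := by group
  rw [e] at hg ⊢
  exact hcl _ hg

variable [Finite G]

/-- The centraliser of an involution outside `V` in the normaliser lies in the normaliser. -/
lemma outer_cent_le {w : G} (hw : orderOf w = 2) (hwM : w ∈ normalizer (V : Set G)) (hwV : w ∉ V) :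
    centralizer ({w} : Set G) ≤ normalizer (V : Set G) := by
  haveI : Fact (Nat.Prime 2) := ⟨Nat.prime_two⟩
  set M := normalizer (V : Set G) with hMdef
  have hVM : V ≤ M := le_normalizer
  have hww := (two_iff.1 hw).1
  have hwinv : w⁻¹ = w := inv_eq_of_mul_eq_one_right hww
  have hwV' : ∀ v ∈ V, w * v * w⁻¹ ∈ V := fun v hv => (mem_normalizer_iff.1 hwM v).1 hv
  -- the commutator map on `V`
  let φ : V →* V :=
    { toFun := fun v => ⟨v * (w * v * w⁻¹), mul_mem v.2 (hwV' v v.2)⟩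
      map_one' := Subtype.ext (by simp)
      map_mul' := fun a b => Subtype.ext (by
        show (a : G) * b * (w * (a * b) * w⁻¹) = a * (w * a * w⁻¹) * (b * (w * b * w⁻¹))
        have hc : w * (a : G) * w⁻¹ * b = b * (w * a * w⁻¹) := h.comm (hwV' _ a.2) b.2
        rw [show (a : G) * b * (w * (a * b) * w⁻¹) = a * (b * (w * a * w⁻¹)) * (w * b * w⁻¹) by group, ← hc]
        simp only [mul_assoc]) }
  have hker : ∀ v : V, v ∈ φ.ker ↔ w * (v : G) = v * w := by
    intro v
    rw [MonoidHom.mem_ker, ← Subtype.coe_inj]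
    show (v : G) * (w * v * w⁻¹) = 1 ↔ _
    rw [mul_eq_one_iff_eq_inv', inv_eq_of_mul_eq_one_right (h.sq v v.2), mul_inv_eq_iff_eq_mul]
  have hrle : φ.range ≤ φ.ker := by
    rintro _ ⟨v, rfl⟩
    rw [hker]
    show w * ((v : G) * (w * v * w⁻¹)) = v * (w * v * w⁻¹) * w
    have e := h.comm v.2 (hwV' v v.2)
    rw [hwinv] at e ⊢
    calc w * ((v : G) * (w * v * w)) = w * v * w * v * w := by simp only [mul_assoc]
      _ = (v : G) * (w * v * w) * w := by rw [← e]
  have hnd : φ.ker ≠ ⊤ := by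
    intro e
    exact hwV (h.self w fun v hv => (hker ⟨v, hv⟩).1 (e ▸ mem_top _))
  have hcard : Nat.card φ.ker * Nat.card φ.range = 8 := by
    rw [← index_ker, ← h.card]; exact card_mul_index _
  have hrdvd : Nat.card φ.range ∣ Nat.card φ.ker := card_dvd_of_le hrle
  have hr1 : Nat.card φ.range ≠ 1 := by
    intro e
    rw [e, mul_one, ← h.card] at hcard
    exact hnd (card_eq_iff_eq_top _ |>.1 hcard)
  obtain ⟨hk4, hr2⟩ : Nat.card φ.ker = 4 ∧ Nat.card φ.range = 2 := by
    obtain ⟨c, hc⟩ := hrdvd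
    have hd : Nat.card φ.range ∣ 8 := ⟨Nat.card φ.ker, by rw [← hcard]; ring⟩
    have hle := Nat.le_of_dvd (by norm_num) hd
    rw [hc] at hcard ⊢
    interval_cases hr : Nat.card φ.range <;> omega
  set W := V ⊓ centralizer ({w} : Set G) with hWdef
  have hWmem : ∀ {v : G}, v ∈ W ↔ v ∈ V ∧ v * w = w * v := fun {v} => by
    rw [hWdef, mem_inf, mem_centralizer_singleton_iff]
  have hWcard : Nat.card W = 4 := by
    rw [← hk4]
    refine Nat.card_congr ⟨fun v => ⟨⟨v, (hWmem.1 v.2).1⟩, (hker _).2 (hWmem.1 v.2).2.symm⟩,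
      fun v => ⟨(v : V), hWmem.2 ⟨(v : V).2, ((hker _).1 v.2).symm⟩⟩, fun _ => rfl, fun _ => rfl⟩
  -- the fixed element `v₀`
  obtain ⟨p, hp, hp1⟩ : ∃ p ∈ φ.range, p ≠ 1 := by
    by_contra hne
    push Not at hne
    exact hr1 (card_eq_one.2 ((eq_bot_iff_forall _).2 hne))
  have hrange : ∀ q ∈ φ.range, q ≠ 1 → q = p := by
    intro q hq hq1
    by_contra hqp
    have : 3 ≤ Nat.card φ.range := by
      classical
      have hsub : ({1, p, q} : Finset V) ⊆ ((φ.range : Set V).toFinite.toFinset) := by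
        intro x hx
        simp only [Finset.mem_insert, Finset.mem_singleton] at hx
        rw [Set.Finite.mem_toFinset]
        rcases hx with rfl | rfl | rfl
        · exact one_mem _
        · exact hp
        · exact hq
      have h3 : ({1, p, q} : Finset V).card = 3 := by
        rw [Finset.card_insert_of_notMem (by simp [hp1.symm, Ne.symm hq1]),
          Finset.card_insert_of_notMem (by simp [Ne.symm hqp]), Finset.card_singleton]
      have := Finset.card_le_card hsub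
      rw [h3, ← Set.ncard_eq_toFinset_card _ (φ.range : Set V).toFinite, ← Nat.card_coe_set_eq] at this
      exact this
    omega
  set v₀ : G := (p : G) with hv₀
  have hv₀1 : v₀ ≠ 1 := fun e => hp1 (Subtype.ext e)
  have hv₀W : v₀ ∈ W := hWmem.2 ⟨p.2, ((hker p).1 (hrle hp)).symm⟩
  set R := centralizer ({w} : Set G) ⊓ M with hRdef
  have hRmem : ∀ {g : G}, g ∈ R ↔ g * w = w * g ∧ g ∈ M := fun {g} => by
    rw [hRdef, mem_inf, mem_centralizer_singleton_iff]
  have hWR : W ≤ R := fun v hv => hRmem.2 ⟨(hWmem.1 hv).2, hVM (hWmem.1 hv).1⟩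
  have hv₀R : ∀ r ∈ R, r * v₀ = v₀ * r := by
    intro r hr
    obtain ⟨hrw, hrM⟩ := hRmem.1 hr
    obtain ⟨v, hv⟩ := hp
    have hv' : v₀ = (v : G) * (w * v * w⁻¹) := by rw [hv₀, ← hv]; rfl
    have hmem : r * v₀ * r⁻¹ ∈ V := (mem_normalizer_iff.1 hrM v₀).1 p.2
    have himg : (⟨_, hmem⟩ : V) ∈ φ.range := by
      refine ⟨⟨r * v * r⁻¹, (mem_normalizer_iff.1 hrM v).1 v.2⟩, Subtype.ext ?_⟩
      show r * v * r⁻¹ * (w * (r * v * r⁻¹) * w⁻¹) = r * v₀ * r⁻¹
      rw [hv', show r * v * r⁻¹ * (w * (r * v * r⁻¹) * w⁻¹) = r * v * (r⁻¹ * w * r) * v * (w * r)⁻¹ by group,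
        ← hrw, show r⁻¹ * w * r = w by rw [mul_assoc, ← hrw, inv_mul_cancel_left]]
      group
    have hne1 : r * v₀ * r⁻¹ ≠ 1 := fun e => hv₀1 (conj_eq_one_iff.1 e)
    have := hrange _ himg fun e => hne1 (congrArg Subtype.val e)
    exact mul_inv_eq_iff_eq_mul.1 (congrArg Subtype.val this)
  -- `R` is a 2-group
  have hR2 : IsPGroup 2 R := by
    refine isPGroup_two_of_no_odd R fun x hx q hq hq2 hxo => ?_
    obtain ⟨m, hm, hms⟩ := h.trans v₀ p.2 hv₀1
    set y := m * x * m⁻¹ with hy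
    have hys : y * s = s * y := by rw [← hms]; exact conj_comm_iff.2 (hv₀R x hx)
    have hyo : orderOf y = q := by rw [hy, ← MulAut.conj_apply, MulEquiv.orderOf_eq, hxo]
    have hq192 : q ∣ 192 := hyo ▸ h.cardL ▸ (orderOf_mk y (mem_centralizer_singleton_iff.2 hys) ▸
      orderOf_dvd_natCard (⟨y, mem_centralizer_singleton_iff.2 hys⟩ : centralizer ({s} : Set G)))
    have hq3 : q = 3 := by
      have : q ∈ Nat.primeFactors 192 := Nat.mem_primeFactors.2 ⟨hq, hq192, by norm_num⟩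
      rw [show (192 : ℕ).primeFactors = {2, 3} by
        rw [show (192 : ℕ) = 2 ^ 6 * 3 by norm_num, Nat.primeFactors_mul (by norm_num) (by norm_num),
          Nat.primeFactors_prime_pow (by norm_num) Nat.prime_two, Nat.Prime.primeFactors Nat.prime_three]
        rfl] at this
      simpa [hq2] using this
    rw [hq3] at hxo hyo
    -- a third element of `W`
    obtain ⟨v, hvW, hv1, hvv₀⟩ : ∃ v ∈ W, v ≠ 1 ∧ v ≠ v₀ := by
      by_contra hne
      push Not at hne
      have : (W : Set G) ⊆ {1, v₀} := fun v hv => by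
        by_cases hv1 : v = 1
        · exact Or.inl hv1
        · exact Or.inr (hne v hv hv1)
      have := Set.ncard_le_ncard this (Set.toFinite _)
      rw [← Nat.card_coe_set_eq, Set.ncard_pair (Ne.symm hv₀1)] at this
      change Nat.card W ≤ 2 at this
      omega
    obtain ⟨hxw, hxM⟩ := hRmem.1 hx
    have hperm : ∀ {u : G}, u ∈ W → x * u * x⁻¹ ∈ W := fun {u} hu => hWmem.2
      ⟨(mem_normalizer_iff.1 hxM u).1 (hWmem.1 hu).1, by
        have := (conj_comm_iff (g := x)).2 (hWmem.1 hu).2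
        rwa [show x * w * x⁻¹ = w by rw [hxw, mul_inv_cancel_right]] at this⟩
    have hcase : ∀ u ∈ W, u = 1 ∨ u = v₀ ∨ u = v ∨ u = v₀ * v := by
      intro u hu
      by_contra hne
      push Not at hne
      classical
      have hsub : ({1, v₀, v, v₀ * v, u} : Finset G) ⊆ (W : Set G).toFinite.toFinset := by
        intro z hz
        simp only [Finset.mem_insert, Finset.mem_singleton] at hz
        rw [Set.Finite.mem_toFinset]
        rcases hz with rfl | rfl | rfl | rfl | rfl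
        · exact one_mem _
        · exact hv₀W
        · exact hvW
        · exact mul_mem hv₀W hvW
        · exact hu
      have hne0 : (1 : G) ≠ v₀ * v := fun e => hvv₀ (by
        rw [← inv_eq_of_mul_eq_one_right e.symm, inv_eq_of_mul_eq_one_right (h.sq v₀ p.2)])
      have h5 : ({1, v₀, v, v₀ * v, u} : Finset G).card = 5 := by
        rw [Finset.card_insert_of_notMem (by simp [Ne.symm hv₀1, Ne.symm hv1, hne0, Ne.symm hne.1]),
          Finset.card_insert_of_notMem (by simp [Ne.symm hvv₀, hv1, Ne.symm hne.2.1]),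
          Finset.card_insert_of_notMem (by simp [hv₀1, Ne.symm hne.2.2.1]),
          Finset.card_insert_of_notMem (by simp [Ne.symm hne.2.2.2]), Finset.card_singleton]
      have := Finset.card_le_card hsub
      rw [h5, ← Set.ncard_eq_toFinset_card _ (W : Set G).toFinite, ← Nat.card_coe_set_eq] at this
      change 5 ≤ Nat.card W at this
      omega
    have hxv₀ : x * v₀ * x⁻¹ = v₀ := by rw [hv₀R x hx, mul_inv_cancel_right]
    have hfix : x * v * x⁻¹ = v := by
      rcases hcase _ (hperm hvW) with e | e | e | e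
      · exact absurd (conj_eq_one_iff.1 e) hv1
      · exact absurd (conj_inj (g := x) (e.trans hxv₀.symm)) hvv₀
      · exact e
      · exfalso
        have e2 : x * (x * v * x⁻¹) * x⁻¹ = v := by
          rw [e, show x * (v₀ * v) * x⁻¹ = x * v₀ * x⁻¹ * (x * v * x⁻¹) by group, hxv₀, e, ← mul_assoc,
            h.sq v₀ p.2, one_mul]
        have hx3 : x ^ 3 = 1 := by rw [← hxo]; exact pow_orderOf_eq_one x
        have e3 : x * (x * (x * v * x⁻¹) * x⁻¹) * x⁻¹ = v := by
          rw [show x * (x * (x * v * x⁻¹) * x⁻¹) * x⁻¹ = x * x * x * v * (x * x * x)⁻¹ by group, ← pow_three', hx3]; simp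
        rw [e2, e] at e3
        exact hv₀1 (mul_eq_right.1 e3)
    have hyv : y * (m * v * m⁻¹) = m * v * m⁻¹ * y :=
      conj_comm_iff.2 (mul_inv_eq_iff_eq_mul.1 hfix)
    rcases h.fpf y hys hyo _ ((mem_normalizer_iff.1 hm v).1 (hWmem.1 hvW).1) hyv with e | e
    · exact hv1 (conj_eq_one_iff.1 e)
    · exact hvv₀ (conj_inj (e.trans hms.symm))
  -- whatever normalises `R` lies in it
  have hRnorm : ∀ n : G, n * w = w * n → n ∈ normalizer (R : Set G) → n ∈ R := by
    intro n hnw hn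
    have hnW : ∀ v ∈ W, n * v * n⁻¹ ∈ W := by
      intro v hv
      by_cases hv1 : v = 1
      · subst hv1; simp
      have hmem := hRmem.1 ((mem_normalizer_iff.1 hn v).1 (hWR hv))
      exact hWmem.2 ⟨h.cl_mem hcl (hWmem.1 hv).1 hv1 hmem.2, hmem.1⟩
    refine hRmem.2 ⟨hnw, mem_normalizer_of_conj_mem fun v hv => ?_⟩
    by_cases hv1 : v = 1
    · subst hv1; simp
    refine h.cl_mem hcl hv hv1 (h.cent_le (hWmem.1 (hnW v₀ hv₀W)).1 (fun e => hv₀1 (conj_eq_one_iff.1 e)) ?_)
    exact conj_comm_iff.2 (h.comm hv p.2)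
  set K := centralizer ({w} : Set G) with hKdef
  have hRK : R ≤ K := inf_le_left
  have hKmem : ∀ {g : G}, g ∈ K ↔ g * w = w * g := fun {g} => mem_centralizer_singleton_iff
  -- a Sylow 2-subgroup of the centraliser
  obtain ⟨P, hP⟩ : ∃ P : Sylow 2 K, ∀ g : K, g ∈ P ↔ (g : G) ∈ R := by
    obtain ⟨P, hP⟩ := (hR2.comap_subtype (K := K)).exists_le_sylow
    refine ⟨P, fun g => ⟨fun hg => ?_, fun hg => hP hg⟩⟩
    by_contra hgR
    have hle : R ≤ (P : Subgroup K).map K.subtype := fun r hr => ⟨⟨r, hRK hr⟩, hP hr, rfl⟩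
    obtain ⟨n, hnP, hnR, hnn⟩ := exists_normalizing (P.isPGroup'.map _) hle fun e => hgR (by
      rw [e]; exact ⟨g, hg, rfl⟩)
    obtain ⟨n', -, rfl⟩ := hnP
    exact hnR (hRnorm _ (hKmem.1 n'.2) hnn)
  -- `v₀` is weakly closed
  set u : K := ⟨v₀, hRK (hWR hv₀W)⟩ with hu
  have hiso : ∀ g : K, g * u * g⁻¹ ∈ P → g * u * g⁻¹ = u := by
    intro g hg
    have hyR : (g : G) * v₀ * (g : G)⁻¹ ∈ R := (hP _).1 hg
    set y := (g : G) * v₀ * (g : G)⁻¹ with hy
    have hy1 : y ≠ 1 := fun e => hv₀1 (conj_eq_one_iff.1 e)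
    have hyV : y ∈ V := h.cl_mem hcl p.2 hv₀1 (hRmem.1 hyR).2
    have hgw : (g : G) * w = w * g := hKmem.1 g.2
    have hgR : ∀ r ∈ R, (g : G) * r * (g : G)⁻¹ ∈ R := by
      intro r hr
      refine hRmem.2 ⟨?_, h.cent_le hyV hy1 (conj_comm_iff.2 (hv₀R r hr))⟩
      have := (conj_comm_iff (g := (g : G))).2 (hRmem.1 hr).1
      rwa [show (g : G) * w * (g : G)⁻¹ = w by rw [hgw, mul_inv_cancel_right]] at this
    refine Subtype.ext ?_
    show (g : G) * v₀ * (g : G)⁻¹ = v₀
    exact mul_inv_eq_iff_eq_mul.2 (hv₀R _ (hRnorm _ hgw (mem_normalizer_of_conj_mem hgR)))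
  obtain ⟨N, hNn, hNodd, hN⟩ := S0215.result P u
    (by rw [← orderOf_coe]; exact h.two p.2 hv₀1) ((hP u).2 (hWR hv₀W)) hiso
  obtain ⟨v, hvW, hv1, hvv₀⟩ : ∃ v ∈ W, v ≠ 1 ∧ v ≠ v₀ := by
    by_contra hne
    push Not at hne
    have : (W : Set G) ⊆ {1, v₀} := fun v hv => by
      by_cases hv1 : v = 1
      · exact Or.inl hv1
      · exact Or.inr (hne v hv hv1)
    have := Set.ncard_le_ncard this (Set.toFinite _)
    rw [← Nat.card_coe_set_eq, Set.ncard_pair (Ne.symm hv₀1)] at this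
    change Nat.card W ≤ 2 at this
    omega
  set u' : K := ⟨v, hRK (hWR hvW)⟩ with hu'
  have hfix : ∀ (a : K), (a : G) ∈ V → (a : G) ≠ 1 → ∀ n ∈ N, a * n = n * a → n = 1 := by
    intro a haV ha1 n hn hcomm
    have hnM := h.cent_le haV ha1 (congrArg Subtype.val hcomm).symm
    have hnR : (n : G) ∈ R := hRmem.2 ⟨hKmem.1 n.2, hnM⟩
    obtain ⟨k, hk⟩ := hR2 ⟨n, hnR⟩
    have hk' : (n : G) ^ 2 ^ k = 1 := congrArg Subtype.val hk
    have hd : orderOf n ∣ 2 ^ k := by rw [← orderOf_coe]; exact orderOf_dvd_of_pow_eq_one hk'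
    have hd' : orderOf n ∣ Nat.card N := (orderOf_mk n hn) ▸ orderOf_dvd_natCard (⟨n, hn⟩ : N)
    have hcop : (2 ^ k).Coprime (Nat.card N) := Nat.Coprime.pow_left _
      (Nat.prime_two.coprime_iff_not_dvd.2 fun h2 => Nat.not_even_iff_odd.2 hNodd (even_iff_two_dvd.2 h2))
    exact orderOf_eq_one_iff.1 (Nat.eq_one_of_dvd_coprimes hcop hd hd')
  have hNbot : N = ⊥ := eq_bot_of_four (y₁ := u) (y₂ := u') (Subtype.ext (h.sq _ p.2))
    (Subtype.ext (h.sq _ (hWmem.1 hvW).1)) (fun n hn => hNn.conj_mem n hn u) (fun n hn => hNn.conj_mem n hn u')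
    (hfix u p.2 hv₀1) (hfix u' (hWmem.1 hvW).1 hv1)
    (hfix (u * u') (mul_mem p.2 (hWmem.1 hvW).1) fun e => hvv₀ (by
      rw [← inv_eq_of_mul_eq_one_right (show v₀ * v = 1 from e), inv_eq_of_mul_eq_one_right (h.sq _ p.2)]))
  intro g hg
  have := hN ⟨g, hg⟩
  rw [hNbot, mem_bot] at this
  exact h.cent_le p.2 hv₀1
    (congrArg Subtype.val (commutatorElement_eq_one_iff_mul_comm.1 this)).symm

/-- The exit theorem. -/
theorem normalizer_eq_top {w : G} (hw : orderOf w = 2) (hwM : w ∈ normalizer (V : Set G)) (hwV : w ∉ V) :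
    normalizer (V : Set G) = ⊤ := by
  set M := normalizer (V : Set G) with hMdef
  have hcent : ∀ k ∈ M, orderOf k = 2 → centralizer ({k} : Set G) ≤ M := by
    intro k hk hk2
    by_cases hkV : k ∈ V
    · exact fun g hg => h.cent_le hkV (two_iff.1 hk2).2 (mem_centralizer_singleton_iff.1 hg)
    · exact h.outer_cent_le hcl hk2 hk hkV
  have hall : ∀ g : G, g * s * g⁻¹ ∈ M := by
    intro g
    have hu2 : orderOf (g * s * g⁻¹) = 2 := two_conj h.order g
    have hnc : ¬ IsConj w (g * s * g⁻¹) := by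
      intro hc
      obtain ⟨c, hc⟩ := isConj_iff.1 hc
      have e : c⁻¹ * g * s * (c⁻¹ * g)⁻¹ = w := by
        rw [← conj_cancel (g := c) (x := w), hc]; group
      exact hwV (e ▸ hcl _ (e ▸ hwM))
    obtain ⟨k, hk2, hkw, hku⟩ := exists_common_invol hw hu2 hnc
    have hkM : k ∈ M := hcent w hwM hw (mem_centralizer_singleton_iff.2 hkw)
    exact hcent k hkM hk2 (mem_centralizer_singleton_iff.2 hku.symm)
  refine eq_top_iff.2 fun g _ => mem_normalizer_of_conj_mem fun v hv => ?_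
  by_cases hv1 : v = 1
  · subst hv1; simp
  refine h.cl_mem hcl hv hv1 ?_
  obtain ⟨k, rfl⟩ := h.conj_of_mem hv hv1
  rw [show g * (k * s * k⁻¹) * g⁻¹ = g * k * s * (g * k)⁻¹ by group]
  exact hall _

end Sett

end Cfsg.Agent.PGroups.SmallExtraspecial
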