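import Cfsg.Agent.PGroups.SmallExtraspecial.Exit

/-!
The four-subgroups of `V` under the normaliser: the residue is a plane of order two.
-/

set_option autoImplicit false

namespace Cfsg.Agent.PGroups.SmallExtraspecial

open Subgroup

variable {G : Type*} [Group G]

/-- A four-subgroup of `V`. -/
def IsFour (V A : Subgroup G) : Prop := A ≤ V ∧ Nat.card A = 4

/-- Conjugate of a subgroup. -/
def cjg (g : G) (A : Subgroup G) : Subgroup G := A.map (MulAut.conj g).toMonoidHom

lemma mem_cjg {g x : G} {A : Subgroup G} : x ∈ cjg g A ↔ g⁻¹ * x * g ∈ A := by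
  rw [cjg, mem_map]
  constructor
  · rintro ⟨a, ha, rfl⟩
    simpa [MulAut.conj_apply, mul_assoc] using ha
  · intro h
    exact ⟨_, h, by simp [mul_assoc]⟩

lemma cjg_mul (g k : G) (A : Subgroup G) : cjg (g * k) A = cjg g (cjg k A) := by
  ext x; simp only [mem_cjg, mul_inv_rev, mul_assoc]

lemma cjg_one (A : Subgroup G) : cjg 1 A = A := by ext x; simp [mem_cjg]

lemma card_cjg (g : G) (A : Subgroup G) : Nat.card (cjg g A) = Nat.card A :=
  card_map_of_injective (MulAut.conj g).injective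

lemma cjg_eq_iff {g : G} {A B : Subgroup G} : cjg g A = B ↔ cjg g⁻¹ B = A := by
  constructor <;> rintro rfl <;> simp [← cjg_mul, cjg_one]

lemma mem_normalizer_iff_cjg {g : G} {A : Subgroup G} : g ∈ normalizer (A : Set G) ↔ cjg g A = A := by
  rw [mem_normalizer_iff]
  constructor
  · intro h; ext x
    rw [mem_cjg, h (g⁻¹ * x * g)]
    simp [mul_assoc]
  · intro h x
    have := SetLike.ext_iff.1 h (g * x * g⁻¹)
    rwa [mem_cjg, conj_cancel] at this

/-- The number of elements of a finite set of conjugates. -/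
lemma card_eq_orbit_mul [Finite G] (H : Subgroup G) (s : G) :
    Nat.card H = {x : G | ∃ g ∈ H, g * s * g⁻¹ = x}.ncard * Nat.card (H ⊓ centralizer ({s} : Set G) : Subgroup G) := by
  letI : MulAction H G := MulAction.compHom G ((MulAut.conj : G →* MulAut G).comp H.subtype)
  have horb : MulAction.orbit H s = {x : G | ∃ g ∈ H, g * s * g⁻¹ = x} := by
    ext x
    exact ⟨fun ⟨g, hg⟩ => ⟨g, g.2, hg⟩, fun ⟨g, hg, e⟩ => ⟨⟨g, hg⟩, e⟩⟩
  have hstab : Nat.card (MulAction.stabilizer H s) = Nat.card (H ⊓ centralizer ({s} : Set G) : Subgroup G) :=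
    Nat.card_congr ⟨fun g => ⟨(g : H), (g : H).2, mem_centralizer_singleton_iff.2 (mul_inv_eq_iff_eq_mul.1 g.2)⟩,
      fun g => ⟨⟨g, g.2.1⟩, mul_inv_eq_iff_eq_mul.2 (mem_centralizer_singleton_iff.1 g.2.2)⟩,
      fun _ => rfl, fun _ => rfl⟩
  rw [← card_mul_index (MulAction.stabilizer H s), MulAction.index_stabilizer, horb, hstab, mul_comm]

namespace IsFour

variable {V A B : Subgroup G}

lemma cjg_mem (hA : IsFour V A) {g : G} (hg : g ∈ normalizer (V : Set G)) : IsFour V (cjg g A) :=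
  ⟨(map_mono hA.1).trans (mem_normalizer_iff_cjg.1 hg).le, by rw [card_cjg]; exact hA.2⟩

lemma exists_ne (hA : IsFour V A) (c : G) : ∃ v ∈ A, v ≠ 1 ∧ v ≠ c := by
  by_contra hne
  push Not at hne
  have : (A : Set G) ⊆ {1, c} := fun v hv => by
    by_cases hv1 : v = 1
    · exact Or.inl hv1
    · exact Or.inr (hne v hv hv1)
  have h1 := (Set.ncard_le_ncard this (Set.toFinite _)).trans (Set.ncard_insert_le _ _)
  rw [← Nat.card_coe_set_eq, Set.ncard_singleton] at h1
  change Nat.card A ≤ 2 at h1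
  rw [hA.2] at h1
  omega

end IsFour

/-- Two four-subgroups with two common nontrivial elements coincide. -/
lemma IsFour.eq_of_two [Finite G] {V A B : Subgroup G} (hA : IsFour V A) (hB : IsFour V B)
    (hsq : ∀ v ∈ V, v * v = 1) {u v : G} (huA : u ∈ A) (huB : u ∈ B) (hvA : v ∈ A) (hvB : v ∈ B)
    (hu : u ≠ 1) (hv : v ≠ 1) (huv : u ≠ v) : A = B := by
  have hne : u * v ≠ 1 := fun e => huv (by
    rw [← inv_eq_of_mul_eq_one_right e, inv_eq_of_mul_eq_one_right (hsq u (hA.1 huA))])
  have hlow : ∀ {X : Subgroup G}, u ∈ X → v ∈ X → Nat.card X = 4 → (X : Set G) = {1, u, v, u * v} := by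
    intro X huX hvX hX
    refine (Set.eq_of_subset_of_ncard_le ?_ ?_ (Set.toFinite _)).symm
    · rintro z (rfl | rfl | rfl | rfl)
      exacts [one_mem _, huX, hvX, mul_mem huX hvX]
    · rw [← Nat.card_coe_set_eq]
      change Nat.card X ≤ _
      rw [hX, Set.ncard_insert_of_notMem (by simp [Ne.symm hu, Ne.symm hv, Ne.symm hne]),
        Set.ncard_insert_of_notMem (by simp [huv, hv]),
        Set.ncard_insert_of_notMem (by simp [hu]), Set.ncard_singleton]
  exact SetLike.coe_injective ((hlow huA hvA hA.2).trans (hlow huB hvB hB.2).symm)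

namespace Sett

variable {s : G} {V : Subgroup G} (h : Sett s V) [Finite G]
include h

lemma s_ne : s ≠ 1 := (two_iff.1 h.order).2

/-- Two four-subgroups meet nontrivially. -/
lemma four_meet {A B : Subgroup G} (hA : IsFour V A) (hB : IsFour V B) : ∃ v, v ≠ 1 ∧ v ∈ A ∧ v ∈ B := by
  by_contra hne
  push Not at hne
  let f : A × B → V := fun x => ⟨x.1 * x.2, mul_mem (hA.1 x.1.2) (hB.1 x.2.2)⟩
  have hf : Function.Injective f := by
    rintro ⟨a, b⟩ ⟨a', b'⟩ e
    have e' : (a : G) * b = a' * b' := congrArg Subtype.val e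
    have h1 : ((a' : G)⁻¹ * a) = b' * (b : G)⁻¹ := by
      rw [eq_mul_inv_iff_mul_eq, mul_assoc, e', inv_mul_cancel_left]
    have h2 : ((a' : G)⁻¹ * a) = 1 := by
      by_contra h3
      exact hne _ h3 (mul_mem (inv_mem a'.2) a.2) (h1 ▸ mul_mem b'.2 (inv_mem b.2))
    have ha : (a' : G) = a := inv_mul_eq_one.1 h2
    have hb : (b' : G) = b := mul_inv_eq_one.1 (h1.symm.trans h2)
    exact Prod.ext (Subtype.ext ha.symm) (Subtype.ext hb.symm)
  have := Nat.card_le_card_of_injective f hf
  rw [Nat.card_prod, hA.2, hB.2, h.card] at this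
  omega

/-- A four-subgroup through `v ≠ s` and `s`. -/
lemma exists_four {v w : G} (hv : v ∈ V) (hw : w ∈ V) : ∃ A, IsFour V A ∧ v ∈ A ∧ w ∈ A := by
  haveI : Fact (Nat.Prime 2) := ⟨Nat.prime_two⟩
  obtain ⟨A, hle, hAV, hA⟩ : ∃ A, closure {v, w} ≤ A ∧ A ≤ V ∧ Nat.card A = 2 ^ 2 := by
    have hV2 : IsPGroup 2 V := IsPGroup.of_card (n := 3) (by rw [h.card]; norm_num)
    have hcl : closure {v, w} ≤ V := by
      rw [closure_le]; rintro x (rfl | rfl) <;> assumption
    have hC : Nat.card (closure {v, w}) ≤ 4 := by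
      have hsub : (closure ({v, w} : Set G) : Set G) ⊆ {1, v, w, v * w} := by
        intro x hx
        induction hx using closure_induction with
        | mem y hy => rcases hy with rfl | rfl <;> simp
        | one => simp
        | mul a b _ _ ha hb =>
          have c1 := h.comm hv hw
          have c2 : v * v = 1 := h.sq v hv
          have c3 : w * w = 1 := h.sq w hw
          have c4 : v * (v * w) = w := by rw [← mul_assoc, c2, one_mul]
          have c5 : v * w * v = w := by rw [c1, mul_assoc, c2, mul_one]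
          have c6 : w * (v * w) = v := by rw [← mul_assoc, ← c1, mul_assoc, c3, mul_one]
          have c7 : v * w * w = v := by rw [mul_assoc, c3, mul_one]
          have c8 : v * w * (v * w) = 1 := h.sq _ (mul_mem hv hw)
          simp only [Set.mem_insert_iff, Set.mem_singleton_iff] at ha hb ⊢
          rcases ha with rfl | rfl | rfl | rfl <;> rcases hb with rfl | rfl | rfl | rfl <;>
            simp [c2, c3, c4, c5, c6, c7, c8, ← c1]
        | inv a ha ha' =>
          rwa [inv_eq_of_mul_eq_one_right (h.sq a (hcl ha))]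
      have h1 := Set.ncard_le_ncard hsub (Set.toFinite _)
      rw [← Nat.card_coe_set_eq] at h1
      exact h1.trans ((Set.ncard_insert_le _ _).trans (Nat.succ_le_succ ((Set.ncard_insert_le _ _).trans
        (Nat.succ_le_succ ((Set.ncard_insert_le _ _).trans (by rw [Set.ncard_singleton]))))))
    obtain ⟨k, hk⟩ := (hV2.to_le hcl).exists_card_eq
    have hk2 : k ≤ 2 := by
      by_contra hk3
      have := Nat.pow_le_pow_right (show 1 ≤ 2 by norm_num) (Nat.lt_of_not_le hk3)
      norm_num at this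
      omega
    obtain ⟨A, hAc, hA⟩ := Sylow.exists_subgroup_card_pow_prime_le (G := V) 2 (n := k) (m := 2)
      (by rw [h.card]; norm_num) ((closure {v, w}).subgroupOf V)
      (by rw [Nat.card_congr (subgroupOfEquivOfLe hcl).toEquiv, hk]) hk2
    exact ⟨A.map V.subtype, fun x hx => ⟨⟨x, hcl hx⟩, hA hx, rfl⟩, map_subtype_le A,
      (card_map_of_injective V.subtype_injective).trans hAc⟩
  exact ⟨A, ⟨hAV, hA⟩, hle (subset_closure (Or.inl rfl)), hle (subset_closure (Or.inr rfl))⟩

/-- An element of order three in the centraliser. -/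
lemma exists_three : ∃ y : G, y * s = s * y ∧ orderOf y = 3 := by
  haveI : Fact (Nat.Prime 3) := ⟨Nat.prime_three⟩
  obtain ⟨y, hy⟩ := exists_prime_orderOf_dvd_card' (G := centralizer ({s} : Set G)) 3 (by rw [h.cardL]; norm_num)
  exact ⟨y, mem_centralizer_singleton_iff.1 y.2, by rw [orderOf_coe]; exact hy⟩

/-- An element of order three of the centraliser fixes no four-subgroup through `s`. -/
lemma three_moves {A : Subgroup G} (hA : IsFour V A) (hs : s ∈ A) {y : G} (hys : y * s = s * y)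
    (hy : orderOf y = 3) : cjg y A ≠ A := by
  intro e
  obtain ⟨v, hvA, hv1, hvs⟩ := hA.exists_ne s
  have hconj : ∀ {u : G}, u ∈ A → y * u * y⁻¹ ∈ A := fun {u} hu => by
    rw [← e, mem_cjg]; rwa [conj_cancel]
  have hA4 : ∀ u ∈ A, u = 1 ∨ u = s ∨ u = v ∨ u = s * v := by
    intro u hu
    by_contra hne
    push Not at hne
    classical
    have hsub : ({1, s, v, s * v, u} : Finset G) ⊆ (A : Set G).toFinite.toFinset := by
      intro z hz
      simp only [Finset.mem_insert, Finset.mem_singleton] at hz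
      rw [Set.Finite.mem_toFinset]
      rcases hz with rfl | rfl | rfl | rfl | rfl
      · exact one_mem _
      · exact hs
      · exact hvA
      · exact mul_mem hs hvA
      · exact hu
    have hne0 : (1 : G) ≠ s * v := fun e0 => hvs (by
      rw [← inv_eq_of_mul_eq_one_right e0.symm, inv_eq_of_mul_eq_one_right (h.sq s h.s_mem)])
    have h5 : ({1, s, v, s * v, u} : Finset G).card = 5 := by
      rw [Finset.card_insert_of_notMem (by simp [Ne.symm h.s_ne, Ne.symm hv1, hne0, Ne.symm hne.1]),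
        Finset.card_insert_of_notMem (by simp [Ne.symm hvs, hv1, Ne.symm hne.2.1]),
        Finset.card_insert_of_notMem (by simp [h.s_ne, Ne.symm hne.2.2.1]),
        Finset.card_insert_of_notMem (by simp [Ne.symm hne.2.2.2]), Finset.card_singleton]
    have h6 := Finset.card_le_card hsub
    rw [h5, ← Set.ncard_eq_toFinset_card _ (A : Set G).toFinite, ← Nat.card_coe_set_eq] at h6
    change 5 ≤ Nat.card A at h6
    rw [hA.2] at h6
    omega
  have hss : y * s * y⁻¹ = s := by rw [hys, mul_inv_cancel_right]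
  have hfix : y * v * y⁻¹ = v := by
    rcases hA4 _ (hconj hvA) with e1 | e1 | e1 | e1
    · exact absurd (conj_eq_one_iff.1 e1) hv1
    · exact absurd (conj_inj (g := y) (e1.trans hss.symm)) hvs
    · exact e1
    · exfalso
      have e2 : y * (y * v * y⁻¹) * y⁻¹ = v := by
        rw [e1, show y * (s * v) * y⁻¹ = y * s * y⁻¹ * (y * v * y⁻¹) by group, hss, e1, ← mul_assoc,
          h.sq s h.s_mem, one_mul]
      have hy3 : y ^ 3 = 1 := by rw [← hy]; exact pow_orderOf_eq_one y
      have e3 : y * (y * (y * v * y⁻¹) * y⁻¹) * y⁻¹ = v := by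
        rw [show y * (y * (y * v * y⁻¹) * y⁻¹) * y⁻¹ = y * y * y * v * (y * y * y)⁻¹ by group, ← pow_three',
          hy3]
        simp
      rw [e2, e1] at e3
      exact h.s_ne (mul_eq_right.1 e3)
  rcases h.fpf y hys hy v (hA.1 hvA) (mul_inv_eq_iff_eq_mul.1 hfix) with e1 | e1
  · exact hv1 e1
  · exact hvs e1

/-- The centraliser is transitive on the four-subgroups through `s`. -/
lemma four_trans_L {A B : Subgroup G} (hA : IsFour V A) (hAs : s ∈ A) (hB : IsFour V B) (hBs : s ∈ B) :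
    ∃ l : G, l * s = s * l ∧ cjg l A = B := by
  obtain ⟨y, hys, hy⟩ := h.exists_three
  have hyM : y ∈ normalizer (V : Set G) := h.norm (mem_centralizer_singleton_iff.2 hys)
  have hyy : y * y * s = s * (y * y) := by rw [mul_assoc, hys, ← mul_assoc, hys, mul_assoc]
  have hcs : ∀ {g : G} {C : Subgroup G}, g * s = s * g → s ∈ C → s ∈ cjg g C := fun {g C} hg hC => by
    rw [mem_cjg, mul_assoc, ← hg, inv_mul_cancel_left]; exact hC
  set A₁ := cjg y A
  set A₂ := cjg y A₁
  have f1 : IsFour V A₁ := hA.cjg_mem hyM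
  have f2 : IsFour V A₂ := f1.cjg_mem hyM
  have n1 : A₁ ≠ A := h.three_moves hA hAs hys hy
  have n2 : A₂ ≠ A₁ := h.three_moves f1 (hcs hys hAs) hys hy
  have n3 : A₂ ≠ A := by
    intro e
    refine n1 ?_
    have hy3 : y * (y * y) = 1 := by rw [← pow_three, ← hy]; exact pow_orderOf_eq_one y
    calc A₁ = cjg y A₂ := by rw [e]
      _ = cjg (y * (y * y)) A := by rw [cjg_mul, cjg_mul]
      _ = A := by rw [hy3, cjg_one]
  by_contra hne
  push Not at hne
  have b0 : B ≠ A := fun e => hne 1 (by simp) (by rw [cjg_one, e])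
  have b1 : B ≠ A₁ := fun e => hne y hys e.symm
  have b2 : B ≠ A₂ := fun e => hne (y * y) hyy (by rw [cjg_mul, e])
  -- four subgroups with pairwise intersection generated by `s` are too many for eight elements
  have key : ∀ {C D : Subgroup G}, IsFour V C → IsFour V D → s ∈ C → s ∈ D → C ≠ D →
      ∀ v ∈ C, v ∈ D → v = 1 ∨ v = s := by
    intro C D hC hD hsC hsD hCD v hvC hvD
    by_contra hv
    push Not at hv
    exact hCD (hC.eq_of_two hD h.sq hsC hsD hvC hvD h.s_ne hv.1 (Ne.symm hv.2))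
  obtain ⟨a, haA, ha1, has⟩ := hA.exists_ne s
  obtain ⟨b, hbA, hb1, hbs⟩ := f1.exists_ne s
  obtain ⟨c, hcA, hc1, hcs'⟩ := f2.exists_ne s
  obtain ⟨d, hdA, hd1, hds⟩ := hB.exists_ne s
  have s1 := hcs hys hAs
  have s2 := hcs hys s1
  have ssq := h.sq s h.s_mem
  classical
  have mk : ∀ {C D : Subgroup G} {x z : G}, IsFour V C → IsFour V D → s ∈ C → s ∈ D → C ≠ D →
      x ∈ C → x ≠ 1 → x ≠ s → z ∈ D → x ≠ z ∧ x ≠ s * z := by
    intro C D x z hC hD hsC hsD hCD hx hx1 hxs hz
    refine ⟨fun e => ?_, fun e => ?_⟩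
    · rcases key hC hD hsC hsD hCD x hx (e ▸ hz) with e' | e'
      exacts [hx1 e', hxs e']
    · rcases key hC hD hsC hsD hCD x hx (e ▸ mul_mem hsD hz) with e' | e'
      exacts [hx1 e', hxs e']
  obtain ⟨ab, ab'⟩ := mk hA f1 hAs s1 n1.symm haA ha1 has hbA
  obtain ⟨ac, ac'⟩ := mk hA f2 hAs s2 n3.symm haA ha1 has hcA
  obtain ⟨ad, ad'⟩ := mk hA hB hAs hBs b0.symm haA ha1 has hdA
  obtain ⟨bc, bc'⟩ := mk f1 f2 s1 s2 n2.symm hbA hb1 hbs hcA
  obtain ⟨bd, bd'⟩ := mk f1 hB s1 hBs b1.symm hbA hb1 hbs hdA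
  obtain ⟨cd, cd'⟩ := mk f2 hB s2 hBs b2.symm hcA hc1 hcs' hdA
  -- the map `(i, x) ↦ s ^ i * x` into `V` is injective on nine values
  have hinj : ∀ x z : G, x ≠ z → s * x ≠ s * z := fun x z hxz e => hxz (mul_left_cancel e)
  have hsx : ∀ x z : G, s * x = z → x = s * z := fun x z e => by rw [← e, ← mul_assoc, ssq, one_mul]
  have hsub : ({1, s, a, s * a, b, s * b, c, s * c, d} : Finset G) ⊆ (V : Set G).toFinite.toFinset := by
    intro z hz
    simp only [Finset.mem_insert, Finset.mem_singleton] at hz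
    rw [Set.Finite.mem_toFinset]
    rcases hz with rfl | rfl | rfl | rfl | rfl | rfl | rfl | rfl | rfl
    exacts [one_mem _, h.s_mem, hA.1 haA, mul_mem h.s_mem (hA.1 haA), f1.1 hbA,
      mul_mem h.s_mem (f1.1 hbA), f2.1 hcA, mul_mem h.s_mem (f2.1 hcA), hB.1 hdA]
  have one_ne : ∀ x : G, x ≠ s → (1 : G) ≠ s * x := fun x hx e => hx (by
    rw [← inv_eq_of_mul_eq_one_right e.symm, inv_eq_of_mul_eq_one_right ssq])
  have s_ne' : ∀ x : G, x ≠ 1 → s ≠ s * x := fun x hx e => hx (left_eq_mul.1 e)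
  have self_ne : ∀ x : G, x ≠ s * x := fun x e => h.s_ne (right_eq_mul.1 e)
  have h9 : ({1, s, a, s * a, b, s * b, c, s * c, d} : Finset G).card = 9 := by
    rw [Finset.card_insert_of_notMem (by simp [Ne.symm h.s_ne, Ne.symm ha1, Ne.symm hb1, Ne.symm hc1,
        Ne.symm hd1, one_ne a has, one_ne b hbs, one_ne c hcs']),
      Finset.card_insert_of_notMem (by simp [Ne.symm has, Ne.symm hbs, Ne.symm hcs', Ne.symm hds,
        s_ne' a ha1, s_ne' b hb1, s_ne' c hc1]),
      Finset.card_insert_of_notMem (by simp [self_ne a, ab, ab', ac, ac', ad]),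
      Finset.card_insert_of_notMem (by
        simp only [Finset.mem_insert, Finset.mem_singleton, not_or]
        exact ⟨fun e => ab' (hsx _ _ e), hinj _ _ ab, fun e => ac' (hsx _ _ e), hinj _ _ ac,
          fun e => ad' (hsx _ _ e)⟩),
      Finset.card_insert_of_notMem (by simp [self_ne b, bc, bc', bd]),
      Finset.card_insert_of_notMem (by
        simp only [Finset.mem_insert, Finset.mem_singleton, not_or]
        exact ⟨fun e => bc' (hsx _ _ e), hinj _ _ bc, fun e => bd' (hsx _ _ e)⟩),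
      Finset.card_insert_of_notMem (by simp [self_ne c, cd]),
      Finset.card_insert_of_notMem (by
        simp only [Finset.mem_singleton]
        exact fun e => cd' (hsx _ _ e)), Finset.card_singleton]
  have := Finset.card_le_card hsub
  rw [h9, ← Set.ncard_eq_toFinset_card _ (V : Set G).toFinite, ← Nat.card_coe_set_eq] at this
  change 9 ≤ Nat.card V at this
  rw [h.card] at this
  omega

/-- The normaliser is transitive on four-subgroups. -/
lemma four_trans {A B : Subgroup G} (hA : IsFour V A) (hB : IsFour V B) :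
    ∃ m ∈ normalizer (V : Set G), cjg m A = B := by
  obtain ⟨a, haA, ha1, -⟩ := hA.exists_ne 1
  obtain ⟨b, hbB, hb1, -⟩ := hB.exists_ne 1
  obtain ⟨m, hm, hma⟩ := h.trans a (hA.1 haA) ha1
  obtain ⟨n, hn, hnb⟩ := h.trans b (hB.1 hbB) hb1
  have ha : s ∈ cjg m A := by rw [mem_cjg, ← hma, conj_cancel]; exact haA
  have hb : s ∈ cjg n B := by rw [mem_cjg, ← hnb, conj_cancel]; exact hbB
  obtain ⟨l, hl, he⟩ := h.four_trans_L (hA.cjg_mem hm) ha (hB.cjg_mem hn) hb
  refine ⟨n⁻¹ * l * m, mul_mem (mul_mem (inv_mem hn) (h.norm (mem_centralizer_singleton_iff.2 hl))) hm, ?_⟩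
  rw [cjg_mul, cjg_mul, he, ← cjg_mul, inv_mul_cancel, cjg_one]

/-- The stabiliser of a four-subgroup moves each of its involutions to `s`. -/
lemma four_stab_trans {A : Subgroup G} (hA : IsFour V A) (hs : s ∈ A) {a : G} (ha : a ∈ A) (ha1 : a ≠ 1) :
    ∃ g ∈ normalizer (V : Set G) ⊓ normalizer (A : Set G), g * a * g⁻¹ = s := by
  obtain ⟨m, hm, hma⟩ := h.trans a (hA.1 ha) ha1
  have hm' : s ∈ cjg m A := by rw [mem_cjg, ← hma, conj_cancel]; exact ha
  obtain ⟨l, hl, he⟩ := h.four_trans_L (hA.cjg_mem hm) hm' hA hs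
  refine ⟨l * m, ⟨mul_mem (h.norm (mem_centralizer_singleton_iff.2 hl)) hm,
    mem_normalizer_iff_cjg.2 (by rw [cjg_mul, he])⟩, ?_⟩
  rw [show l * m * a * (l * m)⁻¹ = l * (m * a * m⁻¹) * l⁻¹ by group, hma, hl, mul_inv_cancel_right]

/-- The normaliser has order 1344. -/
lemma card_M : Nat.card (normalizer (V : Set G)) = 1344 := by
  rw [card_eq_orbit_mul (normalizer (V : Set G)) s, inf_eq_right.2 h.norm, h.cardL]
  have : {x : G | ∃ g ∈ normalizer (V : Set G), g * s * g⁻¹ = x} = (V : Set G) \ {1} := by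
    ext x
    constructor
    · rintro ⟨g, hg, rfl⟩
      exact ⟨(mem_normalizer_iff.1 hg s).1 h.s_mem, fun e => h.s_ne (conj_eq_one_iff.1 e)⟩
    · rintro ⟨hx, hx1⟩
      obtain ⟨m, hm, e⟩ := h.trans x hx hx1
      exact ⟨m⁻¹, inv_mem hm, by rw [inv_inv, ← e]; exact conj_cancel⟩
  rw [this, Set.ncard_sdiff (Set.singleton_subset_iff.2 (one_mem V)) (Set.toFinite _), Set.ncard_singleton,
    ← Nat.card_coe_set_eq]
  change (Nat.card V - 1) * 192 = 1344
  rw [h.card]

end Sett

end Cfsg.Agent.PGroups.SmallExtraspecial
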