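import Cfsg.Agent.PGroups.SmallExtraspecial.Swap
import Mathlib.GroupTheory.Transfer

/-!
The conjugates of `s` in the elementary abelian subgroup of order 16 are nine in number.
-/

set_option autoImplicit false

namespace Cfsg.Agent.PGroups.SmallExtraspecial

open Subgroup

variable {G : Type*} [Group G]

namespace Swap

variable {s x : G} {V₁ V₂ V₃ E T : Subgroup G}

lemma symm (d : Swap s x V₁ V₂ V₃ E T) : Swap s x V₁ V₃ V₂ E T :=
  { d with
    h₂ := d.h₃, h₃ := d.h₂, meet := fun v a b => d.meet v b a, meet₁₂ := d.meet₁₃, meet₁₃ := d.meet₁₂,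
    four₂ := d.four₃, four₃ := d.four₂, quad := fun e he a b c => d.quad e he a c b }

variable (d : Swap s x V₁ V₂ V₃ E T)
include d

lemma s_ne : s ≠ 1 := (two_iff.1 d.h₂.order).2

lemma E_comm {a b : G} (ha : a ∈ E) (hb : b ∈ E) : a * b = b * a := by
  calc a * b = (a * b)⁻¹ := (inv_eq_of_mul_eq_one_right (d.E_sq _ (mul_mem ha hb))).symm
    _ = b * a := by
      rw [_root_.mul_inv_rev, inv_eq_of_mul_eq_one_right (d.E_sq a ha), inv_eq_of_mul_eq_one_right (d.E_sq b hb)]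

lemma E_cent_s : E ≤ centralizer ({s} : Set G) := d.E_le.trans d.T_le

lemma T_le_N₁ : T ≤ normalizer (V₁ : Set G) := d.T_le.trans d.norm₁

/-- The set of conjugates of `s` in `E`. -/
def O (_d : Swap s x V₁ V₂ V₃ E T) : Set G := {e | e ∈ E ∧ IsConj s e}

lemma O_conj {g e : G} (hg : g ∈ normalizer (E : Set G)) (he : e ∈ d.O) : g * e * g⁻¹ ∈ d.O :=
  ⟨(mem_normalizer_iff.1 hg e).1 he.1, he.2.trans (isConj_iff.2 ⟨g, rfl⟩)⟩

variable [Finite G]

/-- A subgroup like `E` in the centraliser of `s` is conjugate to it there. -/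
lemma E_conj {F : Subgroup G} (hF : F ≤ centralizer ({s} : Set G)) (hsq : ∀ y ∈ F, y * y = 1)
    (hcard : Nat.card F = 16) : ∃ l : G, l * s = s * l ∧ cjg l F = E := by
  haveI : Fact (Nat.Prime 2) := ⟨Nat.prime_two⟩
  set L := centralizer ({s} : Set G)
  have hFp : IsPGroup 2 (F.subgroupOf L) :=
    IsPGroup.of_card (n := 4) (by rw [Nat.card_congr (subgroupOfEquivOfLe hF).toEquiv, hcard]; norm_num)
  have hTc : Nat.card (T.subgroupOf L) = 2 ^ 6 := by
    rw [Nat.card_congr (subgroupOfEquivOfLe d.T_le).toEquiv, d.T_card]; norm_num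
  obtain ⟨P, hP⟩ := hFp.exists_le_sylow
  obtain ⟨S, hS⟩ := (IsPGroup.of_card hTc).exists_le_sylow
  have hSc : Nat.card S = 2 ^ 6 := by
    rw [Sylow.card_eq_multiplicity, show Nat.card L = 2 ^ 6 * 3 from d.h₂.cardL.trans (by norm_num),
      Nat.factorization_mul (by norm_num) (by norm_num), Finsupp.add_apply,
      Nat.prime_two.factorization_pow, Nat.prime_three.factorization]
    simp
  have hST : (S : Subgroup L) = T.subgroupOf L := (eq_of_le_of_card_ge hS (by rw [hTc, hSc])).symm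
  obtain ⟨l, hl⟩ := MulAction.exists_smul_eq L P S
  refine ⟨(l : G), mem_centralizer_singleton_iff.1 l.2, d.uniq _ (fun y hy => ?_) (fun y hy => ?_)
    (by rw [card_cjg, hcard])⟩
  · rw [mem_cjg] at hy
    have h1 : (⟨(l : G)⁻¹ * y * l, hF hy⟩ : L) ∈ P := hP hy
    have h2 : l * ⟨(l : G)⁻¹ * y * l, hF hy⟩ * l⁻¹ ∈ S := by
      rw [← hl]; exact smul_mem_pointwise_smul _ (MulAut.conj l) _ h1
    have h3 : l * ⟨(l : G)⁻¹ * y * l, hF hy⟩ * l⁻¹ ∈ (S : Subgroup L) := h2
    rw [hST, mem_subgroupOf] at h3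
    simpa [mul_assoc] using h3
  · rw [mem_cjg] at hy
    have e := hsq _ hy
    calc y * y = (l : G) * ((l : G)⁻¹ * y * l * ((l : G)⁻¹ * y * l)) * (l : G)⁻¹ := by group
      _ = 1 := by rw [e]; simp

/-- Fusion of `s` in `E` is controlled by the normaliser. -/
lemma O_eq : d.O = {y : G | ∃ n ∈ normalizer (E : Set G), n * s * n⁻¹ = y} := by
  ext y
  constructor
  · rintro ⟨hy, hc⟩
    obtain ⟨g, hg⟩ := isConj_iff.1 hc
    obtain ⟨l, hl, hle⟩ := d.E_conj (F := cjg g⁻¹ E) (fun z hz => by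
        rw [mem_cjg, inv_inv] at hz
        rw [mem_centralizer_singleton_iff, ← conj_comm_iff (g := g), hg]
        exact d.E_comm hz hy)
      (fun z hz => by
        rw [mem_cjg, inv_inv] at hz
        have e := d.E_sq _ hz
        calc z * z = g⁻¹ * (g * z * g⁻¹ * (g * z * g⁻¹)) * g := by group
          _ = 1 := by rw [e]; simp)
      (by rw [card_cjg, d.E_card])
    rw [← cjg_mul] at hle
    refine ⟨(l * g⁻¹)⁻¹, inv_mem (mem_normalizer_iff_cjg.2 hle), ?_⟩
    rw [show (l * g⁻¹)⁻¹ * s * (l * g⁻¹)⁻¹⁻¹ = g * (l⁻¹ * (s * l)) * g⁻¹ by group, ← hl, inv_mul_cancel_left, hg]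
  · rintro ⟨n, hn, rfl⟩
    exact ⟨(mem_normalizer_iff.1 hn s).1 d.sE, isConj_iff.2 ⟨n, rfl⟩⟩

lemma card_N_eq : Nat.card (normalizer (E : Set G)) = d.O.ncard * 64 := by
  rw [card_eq_orbit_mul (normalizer (E : Set G)) s, ← d.O_eq,
    show normalizer (E : Set G) ⊓ centralizer ({s} : Set G) = T from
      le_antisymm (fun g hg => d.stab g (mem_centralizer_singleton_iff.1 hg.2) hg.1) (le_inf d.T_norm d.T_le),
    d.T_card]

lemma four₂_sub : ∀ e ∈ V₂ ⊓ E, e ≠ 1 → e ∈ d.O := by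
  intro e he he1
  obtain ⟨g, rfl⟩ := d.h₂.conj_of_mem he.1 he1
  exact ⟨he.2, isConj_iff.2 ⟨g, rfl⟩⟩

lemma five_le : 5 ≤ d.O.ncard := by
  have hsub : (((V₂ ⊓ E : Subgroup G) : Set G) ∪ ((V₃ ⊓ E : Subgroup G) : Set G)) \ {1} ⊆ d.O := by
    rintro e ⟨he | he, he1⟩
    · exact d.four₂_sub e he he1
    · exact d.symm.four₂_sub e he he1
  have hi : ((V₂ ⊓ E : Subgroup G) : Set G) ∩ ((V₃ ⊓ E : Subgroup G) : Set G) ⊆ {1, s} := fun e he =>
    d.meet e he.1.1 he.2.1
  have h1 := Set.ncard_union_add_ncard_inter ((V₂ ⊓ E : Subgroup G) : Set G) ((V₃ ⊓ E : Subgroup G) : Set G)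
  have h2 := (Set.ncard_le_ncard hi (Set.toFinite _)).trans (Set.ncard_insert_le _ _)
  have h3 := Set.ncard_le_ncard hsub (Set.toFinite _)
  have h4 := Set.ncard_diff_singleton_of_mem (s := ((V₂ ⊓ E : Subgroup G) : Set G) ∪ ((V₃ ⊓ E : Subgroup G) : Set G))
    (a := (1 : G)) (Or.inl (one_mem (V₂ ⊓ E)))
  rw [Set.ncard_singleton] at h2
  have c2 : ((V₂ ⊓ E : Subgroup G) : Set G).ncard = 4 := by rw [← Nat.card_coe_set_eq]; exact d.four₂
  have c3 : ((V₃ ⊓ E : Subgroup G) : Set G).ncard = 4 := by rw [← Nat.card_coe_set_eq]; exact d.four₃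
  omega

lemma le_fifteen : d.O.ncard ≤ 15 := by
  have hsub : d.O ⊆ (E : Set G) \ {1} := fun e he => ⟨he.1, fun e1 => by
    obtain ⟨g, hg⟩ := isConj_iff.1 he.2
    exact d.s_ne (conj_eq_one_iff.1 (hg.trans e1))⟩
  have h1 := Set.ncard_le_ncard hsub (Set.toFinite _)
  rw [Set.ncard_diff_singleton_of_mem (one_mem E), ← Nat.card_coe_set_eq] at h1
  change _ ≤ Nat.card E - 1 at h1
  rw [d.E_card] at h1
  exact h1

/-- An element of odd prime order at least 5 does not centralise an element of `T` modulo `E`. -/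
lemma no_fix {t n : G} (ht : t ∈ T) (htE : t ∉ E) (hn : n ∈ normalizer (E : Set G))
    (hcomm : t⁻¹ * n⁻¹ * t * n ∈ E) {p : ℕ} (hp : p.Prime) (hp5 : 5 ≤ p) (hno : orderOf n = p) : False := by
  haveI : Fact p.Prime := ⟨hp⟩
  set F := E ⊓ centralizer ({t} : Set G) with hF
  have hnF : ∀ a ∈ F, n * a * n⁻¹ ∈ F := by
    intro a ha
    refine ⟨(mem_normalizer_iff.1 hn a).1 ha.1, mem_centralizer_singleton_iff.2 ?_⟩
    have hat : a * t = t * a := mem_centralizer_singleton_iff.1 ha.2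
    have he : (t⁻¹ * n⁻¹ * t * n) * a = a * (t⁻¹ * n⁻¹ * t * n) := d.E_comm hcomm ha.1
    have e2 : n⁻¹ * t * n * a = a * (n⁻¹ * t * n) := by
      calc n⁻¹ * t * n * a = t * ((t⁻¹ * n⁻¹ * t * n) * a) := by group
        _ = t * a * (t⁻¹ * n⁻¹ * t * n) := by rw [he, ← mul_assoc t a]
        _ = a * (n⁻¹ * t * n) := by rw [← hat]; group
    calc n * a * n⁻¹ * t = n * (a * (n⁻¹ * t * n)) * n⁻¹ := by group
      _ = t * (n * a * n⁻¹) := by rw [← e2]; group
  -- the element permutes fewer than `p` points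
  let π : Equiv.Perm F := (Equiv.ofBijective (fun a : F => (⟨n * a * n⁻¹, hnF a a.2⟩ : F))
    (Finite.injective_iff_bijective.1 fun a b h => Subtype.ext (conj_inj (congrArg Subtype.val h))))
  have hpow : ∀ k : ℕ, ∀ a : F, ((π ^ k) a : G) = n ^ k * a * (n ^ k)⁻¹ := by
    intro k
    induction k with
    | zero => intro a; simp
    | succ k ih =>
      intro a
      rw [pow_succ', Equiv.Perm.mul_apply]
      show n * ((π ^ k) a : G) * n⁻¹ = _
      rw [ih, pow_succ']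
      group
  have hπ : π ^ p = 1 := Equiv.ext fun a => Subtype.ext (by
    rw [hpow, ← hno, pow_orderOf_eq_one]; simp)
  have hπ1 : π = 1 := by
    rw [← orderOf_eq_one_iff]
    rcases (Nat.dvd_prime hp).1 (orderOf_dvd_of_pow_eq_one hπ) with e | e
    · exact e
    · exfalso
      classical
      haveI := Fintype.ofFinite F
      have h1 : p ∣ Nat.factorial 4 := by
        have := orderOf_dvd_natCard π
        rwa [e, Nat.card_perm, show Nat.card F = 4 from d.T_fix t ht htE] at this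
      have := hp.dvd_factorial.1 h1
      omega
  have hs : n * s = s * n := by
    have hsF : s ∈ F := ⟨d.sE, mem_centralizer_singleton_iff.2 (mem_centralizer_singleton_iff.1 (d.T_le ht)).symm⟩
    have := congrArg (fun σ : Equiv.Perm F => ((σ ⟨s, hsF⟩ : F) : G)) hπ1
    exact mul_inv_eq_iff_eq_mul.1 this
  have hnT : n ∈ T := d.stab n hs hn
  have : p ∣ 64 := by rw [← hno, ← d.T_card, ← orderOf_mk n hnT]; exact orderOf_dvd_natCard _
  have := (Nat.prime_dvd_prime_iff_eq hp Nat.prime_two).1 (hp.dvd_of_dvd_pow (show p ∣ 2 ^ 6 by norm_num; exact this))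
  omega

/-- The size of the orbit is a power of three. -/
lemma prime_three {p : ℕ} (hp : p.Prime) (hdvd : p ∣ d.O.ncard) (hodd : p ≠ 2) : p = 3 := by
  classical
  by_contra hp3
  have hp5 : 5 ≤ p := by
    have := hp.two_le
    rcases Nat.lt_or_ge p 5 with h | h
    · interval_cases p <;> first | omega | exact absurd hp (by norm_num)
    · exact h
  haveI : Fact (Nat.Prime 2) := ⟨Nat.prime_two⟩
  haveI : Fact p.Prime := ⟨hp⟩
  set N := normalizer (E : Set G) with hN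
  have hEN : E ≤ N := le_normalizer
  haveI hEn : (E.subgroupOf N).Normal := normal_in_normalizer
  let Q := N ⧸ E.subgroupOf N
  let π : N →* Q := QuotientGroup.mk' _
  have hπ : ∀ a : N, π a = 1 ↔ (a : G) ∈ E := fun a => by
    rw [← MonoidHom.mem_ker, QuotientGroup.ker_mk', mem_subgroupOf]
  have hQc : Nat.card Q = 4 * d.O.ncard := by
    have h := card_eq_card_quotient_mul_card_subgroup (E.subgroupOf N)
    rw [Nat.card_congr (subgroupOfEquivOfLe hEN).toEquiv, d.E_card, d.card_N_eq] at h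
    change _ = Nat.card Q * 16 at h
    omega
  set Tb := (T.subgroupOf N).map π with hTb
  have hTb4 : Nat.card Tb = 4 := by
    let f : T →* Q := π.comp (Subgroup.inclusion d.T_norm)
    have hr : f.range = Tb := by
      ext q; constructor
      · rintro ⟨t, rfl⟩; exact ⟨_, t.2, rfl⟩
      · rintro ⟨a, ha, rfl⟩; exact ⟨⟨a, ha⟩, rfl⟩
    have hk : Nat.card f.ker = 16 := by
      rw [← d.E_card]
      exact Nat.card_congr ⟨fun a => ⟨(a : T), (hπ _).1 (MonoidHom.mem_ker.1 a.2)⟩,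
        fun e => ⟨⟨e, d.E_le e.2⟩, MonoidHom.mem_ker.2 ((hπ _).2 e.2)⟩, fun _ => rfl, fun _ => rfl⟩
    have h := card_mul_index f.ker
    rw [index_ker, hr, hk, d.T_card] at h
    omega
  have hOodd : ¬ 2 ∣ d.O.ncard := by
    intro h2
    -- `T` is a Sylow 2-subgroup of the group
    have hTp : IsPGroup 2 T := IsPGroup.of_card (n := 6) (by rw [d.T_card]; norm_num)
    obtain ⟨S, hS⟩ := (hTp.comap_subtype (K := N)).exists_le_sylow
    have hcT : Nat.card (T.subgroupOf N) = 64 := by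
      rw [Nat.card_congr (subgroupOfEquivOfLe d.T_norm).toEquiv, d.T_card]
    have hne : T ≠ (S : Subgroup N).map N.subtype := by
      intro e
      have h1 := S.pow_dvd_card_of_pow_dvd_card (n := 7) (by
        rw [d.card_N_eq]
        obtain ⟨k, hk⟩ := h2
        exact ⟨k, by rw [hk]; ring⟩)
      have hc : Nat.card (S : Subgroup N) = 64 := by
        rw [← card_map_of_injective N.subtype_injective, ← e, d.T_card]
      rw [hc] at h1
      norm_num at h1
    obtain ⟨n, hnS, hnT, hn⟩ := exists_normalizing (S.isPGroup'.map _)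
      (fun t ht => ⟨⟨t, d.T_norm ht⟩, hS ht, rfl⟩) hne
    obtain ⟨n', -, rfl⟩ := hnS
    simp only [Subgroup.coe_subtype] at hn hnT
    refine hnT (d.stab _ ?_ n'.2)
    have hm : (n' : G) * s * (n' : G)⁻¹ ∈ T := (mem_normalizer_iff.1 hn s).1 (d.E_le d.sE)
    rcases d.T_center _ hm (fun t ht => by
      have ht' : (n' : G)⁻¹ * t * n' ∈ T := (mem_normalizer_iff.1 hn _).2 (by
        rwa [show (n' : G) * ((n' : G)⁻¹ * t * n') * (n' : G)⁻¹ = t by group])
      have := (conj_comm_iff (g := (n' : G))).2 (mem_centralizer_singleton_iff.1 (d.T_le ht'))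
      rwa [show (n' : G) * ((n' : G)⁻¹ * t * n') * (n' : G)⁻¹ = t by group] at this) with e | e
    · exact absurd (conj_eq_one_iff.1 e) d.s_ne
    · exact mul_inv_eq_iff_eq_mul.1 e
  have hTsyl : ¬ 2 ∣ Tb.index := by
    have h := card_mul_index Tb
    rw [hTb4, hQc] at h
    intro h2; exact hOodd (by omega)
  let S : Sylow 2 Q := (IsPGroup.of_card (n := 2) (by rw [hTb4]; norm_num) : IsPGroup 2 Tb).toSylow hTsyl
  have hSc : (S : Subgroup Q) = Tb := rfl
  -- self-normalising and abelian, so a normal complement exists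
  have hab : IsMulCommutative Tb := IsMulCommutative.of_comm fun a b => Subtype.ext (by
    obtain ⟨t₁, ht₁, e₁⟩ := a.2
    obtain ⟨t₂, ht₂, e₂⟩ := b.2
    have sq1 : ∀ t : N, (t : G) ∈ T → π t * π t = 1 := fun t ht => by
      rw [← map_mul]; exact (hπ _).2 (d.T_sq _ ht)
    show (a : Q) * b = b * a
    rw [← e₁, ← e₂]
    have h12 := sq1 (t₁ * t₂) (mul_mem ht₁ ht₂)
    rw [map_mul] at h12
    calc π t₁ * π t₂ = (π t₁ * π t₂)⁻¹ := (inv_eq_of_mul_eq_one_right h12).symm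
      _ = π t₂ * π t₁ := by
        rw [_root_.mul_inv_rev, inv_eq_of_mul_eq_one_right (sq1 t₁ ht₁), inv_eq_of_mul_eq_one_right (sq1 t₂ ht₂)])
  have hnorm : normalizer ((S : Subgroup Q) : Set Q) ≤ centralizer ((S : Subgroup Q) : Set Q) := by
    intro q hq
    obtain ⟨n, rfl⟩ := QuotientGroup.mk'_surjective _ q
    rw [hSc] at hq ⊢
    have hn : (n : G) ∈ normalizer (T : Set G) := by
      refine mem_normalizer_of_conj_mem fun t ht => ?_
      obtain ⟨a, ha, hae⟩ := (mem_normalizer_iff.1 hq (π ⟨t, d.T_norm ht⟩)).1 ⟨_, ht, rfl⟩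
      have hae : π a = π n * π ⟨t, d.T_norm ht⟩ * (π n)⁻¹ := hae
      have : π (a⁻¹ * (n * ⟨t, d.T_norm ht⟩ * n⁻¹)) = 1 := by
        rw [map_mul, map_mul, map_mul, map_inv, map_inv, hae]; group
      have h2 := mul_mem (show (a : G) ∈ T from ha) (d.E_le ((hπ _).1 this))
      simpa using h2
    have hns : (n : G) * s * (n : G)⁻¹ = s := by
      refine (d.T_center _ ((mem_normalizer_iff.1 hn s).1 (d.E_le d.sE)) fun t ht => ?_).resolve_left
        fun e => d.s_ne (conj_eq_one_iff.1 e)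
      have ht' : (n : G)⁻¹ * t * n ∈ T := (mem_normalizer_iff.1 hn _).2 (by
        rwa [show (n : G) * ((n : G)⁻¹ * t * n) * (n : G)⁻¹ = t by group])
      have := (conj_comm_iff (g := (n : G))).2 (mem_centralizer_singleton_iff.1 (d.T_le ht'))
      rwa [show (n : G) * ((n : G)⁻¹ * t * n) * (n : G)⁻¹ = t by group] at this
    have hnT : (n : G) ∈ T := d.stab _ (mul_inv_eq_iff_eq_mul.1 hns) n.2
    intro b hb
    have := congrArg Subtype.val (hab.is_comm.comm ⟨b, hb⟩ ⟨π n, _, hnT, rfl⟩)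
    exact this
  haveI : IsMulCommutative (S : Subgroup Q) := by rw [hSc]; exact hab
  set N₀ := (MonoidHom.transferSylow S hnorm).ker
  have hcompl : IsComplement' N₀ (S : Subgroup Q) := MonoidHom.ker_transferSylow_isComplement' S hnorm
  have hN₀c : Nat.card N₀ = d.O.ncard := by
    have h := hcompl.card_mul
    rw [hSc, hTb4, hQc] at h
    omega
  obtain ⟨P⟩ : Nonempty (Sylow p N₀) := inferInstance
  set P₀ := (P : Subgroup N₀).map N₀.subtype with hP₀
  have hP₀c : Nat.card P₀ = Nat.card P := card_map_of_injective N₀.subtype_injective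
  -- a Sylow 2-subgroup of the normaliser
  have hdiv : 2 ^ 2 ∣ Nat.card (normalizer (P₀ : Set Q)) := by
    have htop : normalizer (P₀ : Set Q) ⊔ N₀ = ⊤ := Sylow.normalizer_sup_eq_top P
    have h1 : Nat.card Q ∣ Nat.card (normalizer (P₀ : Set Q)) * Nat.card N₀ := by
      have h2 : N₀.index ∣ Nat.card (normalizer (P₀ : Set Q)) := by
        rw [← relIndex_top_right, ← htop, relIndex_sup_right]; exact relIndex_dvd_card _ _
      obtain ⟨c, hc⟩ := h2
      exact ⟨c, by rw [hc, ← card_mul_index N₀]; ring⟩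
    rw [hQc, hN₀c] at h1
    exact (Nat.mul_dvd_mul_iff_right (by
      rcases Nat.eq_zero_or_pos d.O.ncard with h | h
      · rw [h] at hOodd; exact absurd (dvd_zero 2) hOodd
      · exact h)).1 h1
  obtain ⟨A, hA⟩ := Sylow.exists_subgroup_card_pow_prime 2 hdiv
  set A' := A.map (normalizer (P₀ : Set Q)).subtype with hA'
  have hA'c : Nat.card A' = 2 ^ 2 := (card_map_of_injective (Subgroup.subtype_injective _)).trans hA
  obtain ⟨S', hS'⟩ := (IsPGroup.of_card hA'c).exists_le_sylow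
  have hS'c : Nat.card S' = 2 ^ 2 := by
    rw [Sylow.card_eq_multiplicity, ← S.card_eq_multiplicity, hSc, hTb4]; norm_num
  have hAS : A' = (S' : Subgroup Q) := eq_of_le_of_card_ge hS' (by rw [hA'c, hS'c])
  obtain ⟨g, hg⟩ := MulAction.exists_smul_eq Q S' S
  set P₁ := cjg g P₀ with hP₁
  have hTn : ∀ q ∈ Tb, q ∈ normalizer (P₁ : Set Q) := by
    intro q hq
    rw [← hSc, ← hg] at hq
    obtain ⟨a, ha, rfl⟩ := hq
    rw [SetLike.mem_coe, ← hAS] at ha
    obtain ⟨b, -, rfl⟩ := ha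
    refine mem_normalizer_iff_cjg.2 ?_
    show cjg (g * (b : Q) * g⁻¹) P₁ = P₁
    rw [hP₁, ← cjg_mul, inv_mul_cancel_right, cjg_mul, mem_normalizer_iff_cjg.1 b.2]
  -- involutions of `Tb` fix nothing
  have hfix : ∀ τ ∈ Tb, τ ≠ 1 → ∀ q ∈ P₁, τ * q = q * τ → q = 1 := by
    intro τ hτ hτ1 q hq hc
    by_contra hq1
    obtain ⟨t, ht, rfl⟩ := hτ
    have hqp : ∃ j : ℕ, orderOf q = p ^ j := by
      have hPp : IsPGroup p P₁ := (P.isPGroup'.map _).map _
      obtain ⟨j, hj⟩ := IsPGroup.iff_orderOf.1 hPp ⟨q, hq⟩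
      exact ⟨j, by rwa [orderOf_mk] at hj⟩
    obtain ⟨j, hj⟩ := hqp
    have hj0 : j ≠ 0 := fun e => hq1 (orderOf_eq_one_iff.1 (by rw [hj, e, pow_zero]))
    set q' := q ^ (p ^ (j - 1)) with hq'
    have hq'p : orderOf q' = p := by
      rw [hq', orderOf_pow_of_dvd (pow_ne_zero _ hp.ne_zero) (hj ▸ pow_dvd_pow p (Nat.sub_le j 1)), hj,
        Nat.pow_div (Nat.sub_le j 1) hp.pos, show j - (j - 1) = 1 by omega, pow_one]
    obtain ⟨n, hn⟩ := QuotientGroup.mk'_surjective (E.subgroupOf N) q'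
    change π n = q' at hn
    -- a lift of order `p`
    obtain ⟨a, ha⟩ : ∃ a : ℕ, orderOf n ∣ p * 2 ^ a := by
      refine ⟨4, ?_⟩
      have h1 : (n ^ p : N) ∈ E.subgroupOf N := by
        rw [mem_subgroupOf, ← hπ, map_pow, hn, ← hq'p, pow_orderOf_eq_one]
      refine orderOf_dvd_of_pow_eq_one (Subtype.ext ?_)
      rw [pow_mul]
      simp only [SubmonoidClass.coe_pow, OneMemClass.coe_one]
      rw [show (2 : ℕ) ^ 4 = 2 * 8 by norm_num, pow_mul ((n : G) ^ p), pow_two, d.E_sq ((n : G) ^ p) (by simpa [mem_subgroupOf] using h1), one_pow]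
    set m := n ^ 2 ^ 4 with hm
    have hodd : ¬ 2 ∣ p := fun h => hodd ((Nat.prime_dvd_prime_iff_eq Nat.prime_two hp).1 h).symm
    have hπm : π m = q' ^ 2 ^ 4 := by rw [hm, map_pow, hn]
    have hmp : orderOf m = p := by
      have h1 : orderOf m ∣ p := by
        refine orderOf_dvd_of_pow_eq_one ?_
        rw [hm, ← pow_mul]
        have h1 : (n ^ p : N) ∈ E.subgroupOf N := by
          rw [mem_subgroupOf, ← hπ, map_pow, hn, ← hq'p, pow_orderOf_eq_one]
        refine Subtype.ext ?_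
        rw [mul_comm, pow_mul]
        simp only [SubmonoidClass.coe_pow, OneMemClass.coe_one]
        rw [show (2 : ℕ) ^ 4 = 2 * 8 by norm_num, pow_mul ((n : G) ^ p), pow_two, d.E_sq ((n : G) ^ p) (by simpa [mem_subgroupOf] using h1), one_pow]
      refine ((Nat.dvd_prime hp).1 h1).resolve_left fun e => ?_
      rw [orderOf_eq_one_iff] at e
      rw [e, map_one] at hπm
      have := orderOf_dvd_of_pow_eq_one hπm.symm
      rw [hq'p] at this
      exact hodd ((Nat.prime_dvd_prime_iff_eq hp Nat.prime_two).1 (hp.dvd_of_dvd_pow this) ▸ dvd_rfl)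
    refine d.no_fix (show (t : G) ∈ T from ht) (fun e => hτ1 ((hπ t).2 e)) m.2 ?_ hp hp5
      (by rw [orderOf_coe]; exact hmp)
    refine (hπ (t⁻¹ * m⁻¹ * t * m)).1 ?_
    have hc' : Commute (π t) (π m) := by rw [hπm, hq']; exact ((Commute.pow_right hc _).pow_right _)
    rw [map_mul, map_mul, map_mul, map_inv, map_inv, mul_assoc, hc'.eq]
    group
  obtain ⟨τ₁, h₁, h₁1, τ₂, h₂, h₂1, h12⟩ : ∃ τ₁ ∈ Tb, τ₁ ≠ 1 ∧ ∃ τ₂ ∈ Tb, τ₂ ≠ 1 ∧ τ₁ ≠ τ₂ := by
    by_contra hne
    push Not at hne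
    by_cases hb : Tb = ⊥
    · rw [hb, card_bot] at hTb4; omega
    obtain ⟨a, ha, ha1'⟩ := (bot_or_exists_ne_one Tb).resolve_left hb
    have hsub : (Tb : Set Q) ⊆ {1, a} := fun b hb' => by
      by_cases hb1 : b = 1
      · exact Or.inl hb1
      · exact Or.inr (hne a ha ha1' b hb' hb1).symm
    have := Set.ncard_le_ncard hsub (Set.toFinite _)
    rw [← Nat.card_coe_set_eq, Set.ncard_pair (Ne.symm ha1')] at this
    change Nat.card Tb ≤ 2 at this
    omega
  have sqTb : ∀ τ ∈ Tb, τ * τ = 1 := by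
    rintro _ ⟨t, ht, rfl⟩; rw [← map_mul]; exact (hπ _).2 (d.T_sq _ ht)
  have hbot : P₁ = ⊥ := eq_bot_of_four (sqTb _ h₁) (sqTb _ h₂)
    (fun q hq => (mem_normalizer_iff.1 (hTn _ h₁) q).1 hq) (fun q hq => (mem_normalizer_iff.1 (hTn _ h₂) q).1 hq)
    (hfix _ h₁ h₁1) (hfix _ h₂ h₂1)
    (hfix _ (mul_mem h₁ h₂) fun e => h12 (by
      rw [← inv_eq_of_mul_eq_one_right e, inv_eq_of_mul_eq_one_right (sqTb _ h₁)]))
  have hP1 : Nat.card P = 1 := by rw [← hP₀c, ← card_cjg g P₀, ← hP₁, hbot, card_bot]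
  have hge := Sylow.pow_dvd_card_of_pow_dvd_card P (n := 1) (by rw [pow_one, hN₀c]; exact hdvd)
  rw [hP1, pow_one] at hge
  exact hp.ne_one (Nat.dvd_one.1 hge)

omit [Finite G] in
lemma T_swap {e : G} (he : e ∈ V₁) (heE : e ∈ E) (h1 : e ≠ 1) (hs : e ≠ s) :
    ∃ t ∈ T, t * e * t⁻¹ ≠ e := by
  by_contra hne
  push Not at hne
  rcases d.T_center e (d.E_le heE) fun t ht => mul_inv_eq_iff_eq_mul.1 (hne t ht) with e' | e'
  exacts [h1 e', hs e']

/-- There are nine conjugates of `s` in `E`. -/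
theorem card_O : d.O.ncard = 9 := by
  have h5 := d.five_le
  have h15 := d.le_fifteen
  have key : ∀ p : ℕ, p.Prime → p ∣ d.O.ncard → p ≠ 2 → p = 3 := fun p hp hdvd hne => d.prime_three hp hdvd hne
  have hodd : ¬ 2 ∣ d.O.ncard := by
    -- fixed points of `T` on the orbit
    haveI : Fact (Nat.Prime 2) := ⟨Nat.prime_two⟩
    letI : MulAction T G := MulAction.compHom G ((MulAut.conj : G →* MulAut G).comp T.subtype)
    letI : MulAction T d.O :=
      { smul := fun t y => ⟨(t : G) * y * (t : G)⁻¹, d.O_conj (d.T_norm t.2) y.2⟩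
        one_smul := fun y => Subtype.ext (one_smul T (y : G))
        mul_smul := fun a b y => Subtype.ext (mul_smul a b (y : G)) }
    have hfp := (IsPGroup.of_card (n := 6) (show Nat.card T = 2 ^ 6 by rw [d.T_card]; norm_num)).card_modEq_card_fixedPoints d.O
    have hone : Nat.card (MulAction.fixedPoints T d.O) = 1 := by
      rw [Nat.card_eq_one_iff_unique]
      refine ⟨⟨fun a b => ?_⟩, ⟨⟨⟨s, d.sE, IsConj.refl s⟩, fun t => Subtype.ext ?_⟩⟩⟩
      · have hs : ∀ y : MulAction.fixedPoints T d.O, ((y : d.O) : G) = s := by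
          intro y
          refine (d.T_center _ (d.E_le (y : d.O).2.1) fun t ht => mul_inv_eq_iff_eq_mul.1
            (congrArg Subtype.val (y.2 ⟨t, ht⟩))).resolve_left fun e => ?_
          obtain ⟨g, hg⟩ := isConj_iff.1 (y : d.O).2.2
          exact d.s_ne (conj_eq_one_iff.1 (hg.trans e))
        exact Subtype.ext (Subtype.ext ((hs a).trans (hs b).symm))
      · show (t : G) * s * (t : G)⁻¹ = s
        rw [mem_centralizer_singleton_iff.1 (d.T_le t.2), mul_inv_cancel_right]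
    rw [hone, Nat.card_coe_set_eq, Nat.ModEq] at hfp
    omega
  rcases Nat.lt_or_ge d.O.ncard 16 with h | h
  swap
  · omega
  interval_cases hk : d.O.ncard
  · exact absurd (key 5 (by norm_num) (by norm_num) (by norm_num)) (by norm_num)
  · omega
  · exact absurd (key 7 (by norm_num) (by norm_num) (by norm_num)) (by norm_num)
  · omega
  · rfl
  · omega
  · exact absurd (key 11 (by norm_num) (by norm_num) (by norm_num)) (by norm_num)
  · omega
  · exact absurd (key 13 (by norm_num) (by norm_num) (by norm_num)) (by norm_num)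
  · omega
  · exact absurd (key 5 (by norm_num) (by norm_num) (by norm_num)) (by norm_num)

lemma card_N_le : Nat.card (normalizer (E : Set G)) ≤ 576 := by rw [d.card_N_eq, d.card_O]

lemma geo : Geo s V₂ V₃ E T :=
  ⟨d.h₂, d.h₃, d.meet, d.sE, d.E_sq, d.E_card, d.T_card, d.T_le, d.T_norm, d.uniq, d.four₂, d.four₃, d.card_N_le⟩

/-- The third class: an involution of `E ∩ V₁` other than `s` is not conjugate to `s`. -/
theorem not_conj₁ {e : G} (he : e ∈ V₁) (heE : e ∈ E) (h1 : e ≠ 1) (hs : e ≠ s) : ¬ IsConj s e := by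
  intro hc
  have heO : e ∈ d.O := ⟨heE, hc⟩
  obtain ⟨t, ht, hte⟩ := d.T_swap he heE h1 hs
  set e' := t * e * t⁻¹ with he'
  have he'O : e' ∈ d.O := d.O_conj (d.T_norm ht) heO
  have he'V : e' ∈ V₁ := (mem_normalizer_iff.1 (d.T_le_N₁ ht) e).1 he
  have he'1 : e' ≠ 1 := fun e0 => h1 (conj_eq_one_iff.1 e0)
  have he's : e' ≠ s := fun e0 => hs (conj_inj (g := t) (e0.trans (by
    rw [mem_centralizer_singleton_iff.1 (d.T_le ht), mul_inv_cancel_right])))
  set A := (((V₂ ⊓ E : Subgroup G) : Set G) ∪ ((V₃ ⊓ E : Subgroup G) : Set G)) \ {1} with hA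
  have hAsub : A ⊆ d.O := by
    rintro y ⟨hy | hy, hy1⟩
    · exact d.four₂_sub y hy hy1
    · exact d.symm.four₂_sub y hy hy1
  have c2 : ((V₂ ⊓ E : Subgroup G) : Set G).ncard = 4 := by rw [← Nat.card_coe_set_eq]; exact d.four₂
  have c3 : ((V₃ ⊓ E : Subgroup G) : Set G).ncard = 4 := by rw [← Nat.card_coe_set_eq]; exact d.four₃
  have hA5 : 5 ≤ A.ncard := by
    have hi : ((V₂ ⊓ E : Subgroup G) : Set G) ∩ ((V₃ ⊓ E : Subgroup G) : Set G) ⊆ {1, s} := fun y hy =>
      d.meet y hy.1.1 hy.2.1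
    have h1' := Set.ncard_union_add_ncard_inter ((V₂ ⊓ E : Subgroup G) : Set G) ((V₃ ⊓ E : Subgroup G) : Set G)
    have h2 := (Set.ncard_le_ncard hi (Set.toFinite _)).trans (Set.ncard_insert_le _ _)
    rw [Set.ncard_singleton] at h2
    rw [hA, Set.ncard_sdiff_singleton_of_mem (show (1 : G) ∈ ((V₂ ⊓ E : Subgroup G) : Set G) ∪ ((V₃ ⊓ E : Subgroup G) : Set G) from Or.inl (one_mem _))]
    omega
  -- the pair in `V₁` avoids `A`
  have hdisj : ∀ y ∈ V₁, y ∈ A → y = s := by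
    rintro y hyV ⟨hy | hy, hy1⟩
    · exact (d.meet₁₂ y hyV hy.1).resolve_left hy1
    · exact (d.meet₁₃ y hyV hy.1).resolve_left hy1
  set B := insert e (insert e' A)
  have hB7 : 7 ≤ B.ncard := by
    rw [Set.ncard_insert_of_notMem (by
        simp only [Set.mem_insert_iff, not_or]
        exact ⟨Ne.symm hte, fun h => hs (hdisj e he h)⟩) (Set.toFinite _),
      Set.ncard_insert_of_notMem (fun h => he's (hdisj e' he'V h)) (Set.toFinite _)]
    omega
  have hBsub : B ⊆ d.O := Set.insert_subset heO (Set.insert_subset he'O hAsub)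
  -- everything else lies in `V₁ ∪ V₂ ∪ V₃` up to one more orbit
  by_cases hq : ∃ q ∈ d.O, q ∉ V₁ ∧ q ∉ V₂ ∧ q ∉ V₃
  · obtain ⟨q, hqO, q1, q2, q3⟩ := hq
    obtain ⟨t₁, ht₁, t₂, ht₂, n1, n2, n12⟩ := d.quad q hqO.1 q1 q2 q3
    have key : ∀ t ∈ T, t * q * t⁻¹ ∈ d.O ∧ t * q * t⁻¹ ∉ B := by
      intro t ht
      refine ⟨d.O_conj (d.T_norm ht) hqO, fun hb => ?_⟩
      have hm : ∀ W : Subgroup G, T ≤ normalizer (W : Set G) → t * q * t⁻¹ ∈ W → q ∈ W := fun W hW h =>
        (mem_normalizer_iff.1 (hW ht) q).2 h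
      rcases hb with h | h | ⟨h | h, -⟩
      · exact q1 (hm V₁ d.T_le_N₁ (h ▸ he))
      · exact q1 (hm V₁ d.T_le_N₁ (h ▸ he'V))
      · exact q2 (hm V₂ (d.T_le.trans d.h₂.norm) h.1)
      · exact q3 (hm V₃ (d.T_le.trans d.h₃.norm) h.1)
    have hq0 := key 1 (one_mem T)
    simp only [one_mul, inv_one, mul_one] at hq0
    have hC : (insert q (insert (t₁ * q * t₁⁻¹) (insert (t₂ * q * t₂⁻¹) B))).ncard ≤ d.O.ncard :=
      Set.ncard_le_ncard (Set.insert_subset hq0.1 (Set.insert_subset (key t₁ ht₁).1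
        (Set.insert_subset (key t₂ ht₂).1 hBsub))) (Set.toFinite _)
    rw [Set.ncard_insert_of_notMem (by
        simp only [Set.mem_insert_iff, not_or]
        exact ⟨Ne.symm n1, Ne.symm n2, hq0.2⟩) (Set.toFinite _),
      Set.ncard_insert_of_notMem (by
        simp only [Set.mem_insert_iff, not_or]
        exact ⟨n12, (key t₁ ht₁).2⟩) (Set.toFinite _),
      Set.ncard_insert_of_notMem (key t₂ ht₂).2 (Set.toFinite _), d.card_O] at hC
    omega
  · push Not at hq
    have hsub : d.O ⊆ ((V₁ ⊓ E : Subgroup G) : Set G) \ {1, s} ∪ A := by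
      intro y hy
      have hy1 : y ≠ 1 := fun e0 => by
        obtain ⟨g, hg⟩ := isConj_iff.1 hy.2
        exact d.s_ne (conj_eq_one_iff.1 (hg.trans e0))
      by_cases hys : y = s
      · exact Or.inr ⟨Or.inl ⟨hys ▸ d.h₂.s_mem, hy.1⟩, hy1⟩
      by_cases h1y : y ∈ V₁
      · exact Or.inl ⟨⟨h1y, hy.1⟩, by simp [hy1, hys]⟩
      by_cases h2y : y ∈ V₂
      · exact Or.inr ⟨Or.inl ⟨h2y, hy.1⟩, hy1⟩
      exact Or.inr ⟨Or.inr ⟨hq y hy h1y h2y, hy.1⟩, hy1⟩
    have hc := (Set.ncard_le_ncard hsub (Set.toFinite _)).trans (Set.ncard_union_le _ _)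
    have hA6 : A.ncard ≤ 7 := by
      rw [hA, Set.ncard_sdiff_singleton_of_mem (show (1 : G) ∈ ((V₂ ⊓ E : Subgroup G) : Set G) ∪ ((V₃ ⊓ E : Subgroup G) : Set G) from Or.inl (one_mem _))]
      have := Set.ncard_union_le ((V₂ ⊓ E : Subgroup G) : Set G) ((V₃ ⊓ E : Subgroup G) : Set G)
      omega
    have hi : ({1, s} : Set G) ⊆ ((V₂ ⊓ E : Subgroup G) : Set G) ∩ ((V₃ ⊓ E : Subgroup G) : Set G) := by
      rintro y (rfl | rfl)
      · exact ⟨one_mem _, one_mem _⟩
      · exact ⟨⟨d.h₂.s_mem, d.sE⟩, ⟨d.h₃.s_mem, d.sE⟩⟩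
    have hU := Set.ncard_union_add_ncard_inter ((V₂ ⊓ E : Subgroup G) : Set G) ((V₃ ⊓ E : Subgroup G) : Set G)
    have h2' := Set.ncard_le_ncard hi (Set.toFinite _)
    rw [Set.ncard_pair (Ne.symm d.s_ne)] at h2'
    have hA5' : A.ncard ≤ 5 := by
      rw [hA, Set.ncard_sdiff_singleton_of_mem (show (1 : G) ∈ ((V₂ ⊓ E : Subgroup G) : Set G) ∪ ((V₃ ⊓ E : Subgroup G) : Set G) from Or.inl (one_mem _))]; omega
    have c1 : (((V₁ ⊓ E : Subgroup G) : Set G) \ {1, s}).ncard ≤ 2 := by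
      have hs1 : ({1, s} : Set G) ⊆ ((V₁ ⊓ E : Subgroup G) : Set G) := by
        rintro y (rfl | rfl)
        exacts [one_mem _, ⟨d.s₁, d.sE⟩]
      rw [Set.ncard_sdiff hs1 (Set.toFinite _), Set.ncard_pair (Ne.symm d.s_ne), ← Nat.card_coe_set_eq]
      change Nat.card (V₁ ⊓ E : Subgroup G) - 2 ≤ 2
      rw [d.four₁]
    rw [d.card_O] at hc
    omega

lemma x_not_conj : ¬ IsConj s x := d.not_conj₁ d.x_mem d.xE d.x_ne d.x_ne_s

lemma six_not_conj {v : G} (hv : v ∈ V₁) (h1 : v ≠ 1) (hs : v ≠ s) : ¬ IsConj s v := by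
  obtain ⟨l, -, hl⟩ := d.six v hv h1 hs
  exact fun hc => d.x_not_conj (hc.trans (isConj_iff.2 ⟨l, hl⟩).symm)

end Swap

end Cfsg.Agent.PGroups.SmallExtraspecial
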