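import Cfsg.Agent.PGroups.SmallExtraspecial.Parabolic

/-!
The configuration with three normal elementary abelian subgroups of order 8, two of them fused.
-/

set_option autoImplicit false

namespace Cfsg.Agent.PGroups.SmallExtraspecial

open Subgroup

variable {G : Type*} [Group G]

/-- The local hypotheses of the swap configuration: everything refers to `C(s)` except the two `Sett`s. -/
structure Swap (s x : G) (V₁ V₂ V₃ E T : Subgroup G) : Prop where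
  h₂ : Sett s V₂
  h₃ : Sett s V₃
  meet : ∀ v ∈ V₂, v ∈ V₃ → v = 1 ∨ v = s
  meet₁₂ : ∀ v ∈ V₁, v ∈ V₂ → v = 1 ∨ v = s
  meet₁₃ : ∀ v ∈ V₁, v ∈ V₃ → v = 1 ∨ v = s
  s₁ : s ∈ V₁
  sq₁ : ∀ v ∈ V₁, v * v = 1
  card₁ : Nat.card V₁ = 8
  norm₁ : centralizer ({s} : Set G) ≤ normalizer (V₁ : Set G)
  six : ∀ v ∈ V₁, v ≠ 1 → v ≠ s → ∃ l : G, l * s = s * l ∧ l * x * l⁻¹ = v
  sE : s ∈ E
  E_sq : ∀ e ∈ E, e * e = 1
  E_card : Nat.card E = 16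
  E_le : E ≤ T
  E_self : ∀ g : G, g * s = s * g → (∀ e ∈ E, g * e = e * g) → g ∈ E
  T_card : Nat.card T = 64
  T_le : T ≤ centralizer ({s} : Set G)
  T_norm : T ≤ normalizer (E : Set G)
  T_sq : ∀ t ∈ T, t * t ∈ E
  T_center : ∀ z ∈ T, (∀ t ∈ T, t * z = z * t) → z = 1 ∨ z = s
  T_fix : ∀ t ∈ T, t ∉ E → Nat.card (E ⊓ centralizer ({t} : Set G) : Subgroup G) = 4
  stab : ∀ g : G, g * s = s * g → g ∈ normalizer (E : Set G) → g ∈ T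
  uniq : ∀ F : Subgroup G, F ≤ T → (∀ y ∈ F, y * y = 1) → Nat.card F = 16 → F = E
  four₁ : Nat.card (V₁ ⊓ E : Subgroup G) = 4
  four₂ : Nat.card (V₂ ⊓ E : Subgroup G) = 4
  four₃ : Nat.card (V₃ ⊓ E : Subgroup G) = 4
  quad : ∀ e ∈ E, e ∉ V₁ → e ∉ V₂ → e ∉ V₃ →
    ∃ t₁ ∈ T, ∃ t₂ ∈ T, t₁ * e * t₁⁻¹ ≠ e ∧ t₂ * e * t₂⁻¹ ≠ e ∧ t₁ * e * t₁⁻¹ ≠ t₂ * e * t₂⁻¹
  x_mem : x ∈ V₁
  xE : x ∈ E
  x_ne : x ≠ 1
  x_ne_s : x ≠ s
  R_card : Nat.card (centralizer ({s} : Set G) ⊓ centralizer ({x} : Set G) : Subgroup G) = 32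
  R_center : ∀ z : G, z * s = s * z → z * x = x * z →
    (∀ r : G, r * s = s * r → r * x = x * r → r * z = z * r) → z = 1 ∨ z = s ∨ z = x ∨ z = x * s
  R_invol : ∀ r : G, r * s = s * r → r * x = x * r → r * r = 1 → r ∈ E ∨ r ∈ V₁
  V₁_cent : ∀ u ∈ V₁, u ∉ E → ∀ r : G, r * s = s * r → r * x = x * r → r * u = u * r → r ∈ V₁
  cent_two : ∀ r : G, r * s = s * r → r * r = 1 → r ≠ 1 → r ≠ s →
    ∀ y : G, y * s = s * y → y * r = r * y → orderOf y ≠ 3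

end Cfsg.Agent.PGroups.SmallExtraspecial
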