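import Cfsg.Agent.PGroups.SmallExtraspecial.Orbit

/-!
The centraliser of the third class: Sylow 2-subgroup, the normaliser of the subgroup of order 16.
-/

set_option autoImplicit false

namespace Cfsg.Agent.PGroups.SmallExtraspecial

open Subgroup

variable {G : Type*} [Group G]

namespace Swap

variable {s x : G} {V₁ V₂ V₃ E T : Subgroup G} (d : Swap s x V₁ V₂ V₃ E T)
include d

lemma xs_comm : x * s = s * x := d.E_comm d.xE d.sE

lemma V₁_comm {a b : G} (ha : a ∈ V₁) (hb : b ∈ V₁) : a * b = b * a := by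
  calc a * b = (a * b)⁻¹ := (inv_eq_of_mul_eq_one_right (d.sq₁ _ (mul_mem ha hb))).symm
    _ = b * a := by
      rw [_root_.mul_inv_rev, inv_eq_of_mul_eq_one_right (d.sq₁ a ha), inv_eq_of_mul_eq_one_right (d.sq₁ b hb)]

lemma xs_mem : x * s ∈ V₁ ∧ x * s ∈ E ∧ x * s ≠ 1 ∧ x * s ≠ s := by
  refine ⟨mul_mem d.x_mem d.s₁, mul_mem d.xE d.sE, fun e => d.x_ne_s ?_, fun e => d.x_ne (mul_eq_right.1 e)⟩
  rw [← inv_eq_of_mul_eq_one_left e, inv_eq_of_mul_eq_one_right (d.E_sq s d.sE)]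

/-- The Sylow subgroup of the centraliser of `x`. -/
def R (_d : Swap s x V₁ V₂ V₃ E T) : Subgroup G :=
  centralizer ({s} : Set G) ⊓ centralizer ({x} : Set G)

lemma mem_R {r : G} : r ∈ d.R ↔ r * s = s * r ∧ r * x = x * r := by
  simp only [R, mem_inf, mem_centralizer_singleton_iff]

lemma E_le_R : E ≤ d.R := fun _ he => d.mem_R.2 ⟨d.E_comm he d.sE, d.E_comm he d.xE⟩

lemma V₁_le_R : V₁ ≤ d.R := fun _ he => d.mem_R.2 ⟨d.V₁_comm he d.s₁, d.V₁_comm he d.x_mem⟩

variable [Finite G]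

lemma card_R : Nat.card d.R = 32 := d.R_card

/-- The `s`-conjugates in the Sylow subgroup lie in `E`. -/
lemma s_type_R {r : G} (hr : r ∈ d.R) (hc : IsConj s r) : r ∈ E := by
  obtain ⟨g, hg⟩ := isConj_iff.1 hc
  have hr2 := two_conj d.h₂.order g
  rw [hg] at hr2
  obtain ⟨hrr, hr1⟩ := two_iff.1 hr2
  rcases d.R_invol r (d.mem_R.1 hr).1 (d.mem_R.1 hr).2 hrr with h | h
  · exact h
  · by_cases hrs : r = s
    · rw [hrs]; exact d.sE
    · exact absurd hc (d.six_not_conj h hr1 hrs)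

/-- What normalises `R` fixes `s`. -/
lemma R_norm {n : G} (hnx : n * x = x * n) (hn : ∀ r ∈ d.R, n * r * n⁻¹ ∈ d.R) : n ∈ d.R := by
  refine d.mem_R.2 ⟨?_, hnx⟩
  have hn' : n ∈ normalizer (d.R : Set G) := mem_normalizer_of_conj_mem hn
  have hs : n * s * n⁻¹ ∈ d.R := hn s (d.E_le_R d.sE)
  have hc : IsConj s (n * s * n⁻¹) := isConj_iff.2 ⟨n, rfl⟩
  refine mul_inv_eq_iff_eq_mul.1 ?_
  rcases d.R_center _ (d.mem_R.1 hs).1 (d.mem_R.1 hs).2 (fun r h1 h2 => by
    have hr : n⁻¹ * r * n ∈ d.R := (mem_normalizer_iff.1 hn' _).2 (by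
      rw [show n * (n⁻¹ * r * n) * n⁻¹ = r by group]; exact d.mem_R.2 ⟨h1, h2⟩)
    have := (conj_comm_iff (g := n)).2 (d.mem_R.1 hr).1
    rwa [show n * (n⁻¹ * r * n) * n⁻¹ = r by group] at this) with e | e | e | e
  · exact absurd (conj_eq_one_iff.1 e) d.s_ne
  · exact e
  · rw [e] at hc; exact absurd hc d.x_not_conj
  · rw [e] at hc; exact absurd hc (d.six_not_conj d.xs_mem.1 d.xs_mem.2.2.1 d.xs_mem.2.2.2)

/-- A 2-subgroup of `C(x)` containing `R` is `R`. -/
lemma R_max {P : Subgroup G} (hP : IsPGroup 2 P) (hx : ∀ p ∈ P, p * x = x * p) (hle : d.R ≤ P) : P = d.R := by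
  by_contra hne
  obtain ⟨n, hnP, hnR, hn⟩ := exists_normalizing hP hle (Ne.symm hne)
  exact hnR (d.R_norm (hx n hnP) fun r hr => (mem_normalizer_iff.1 hn r).1 hr)

lemma E_normal_R {r : G} (hr : r ∈ d.R) : r ∈ normalizer (E : Set G) := by
  have h2 : (E.subgroupOf d.R).index = 2 := by
    have h := card_mul_index (E.subgroupOf d.R)
    rw [Nat.card_congr (subgroupOfEquivOfLe d.E_le_R).toEquiv, d.E_card, d.card_R] at h
    omega
  exact mem_normalizer_of_conj_mem fun e he =>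
    (normal_of_index_eq_two h2).conj_mem ⟨e, d.E_le_R he⟩ he ⟨r, hr⟩

lemma R_le_T : d.R ≤ T := fun r hr => d.stab r (d.mem_R.1 hr).1 (d.E_normal_R hr)

lemma exists_u : ∃ u ∈ V₁, u ∉ E := by
  by_contra hne
  push Not at hne
  have := card_le_of_le (le_inf le_rfl hne : V₁ ≤ V₁ ⊓ E)
  rw [d.card₁, d.four₁] at this
  omega

/-- An element of `V₁` outside `E` is not conjugate into `E` in `C(x)`. -/
lemma u_not_fused {u : G} (hu : u ∈ V₁) (huE : u ∉ E) {g : G} (hg : g * x = x * g) : g⁻¹ * u * g ∉ E := by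
  intro he
  haveI : Fact (Nat.Prime 2) := ⟨Nat.prime_two⟩
  set C := centralizer ({x} : Set G) ⊓ centralizer ({u} : Set G) with hC
  have hV : V₁ ≤ C := fun v hv => ⟨mem_centralizer_singleton_iff.2 (d.V₁_comm hv d.x_mem),
    mem_centralizer_singleton_iff.2 (d.V₁_comm hv hu)⟩
  have hV2 : IsPGroup 2 V₁ := IsPGroup.of_card (n := 3) (by rw [d.card₁]; norm_num)
  obtain ⟨P, hP⟩ := (hV2.comap_subtype (K := C)).exists_le_sylow
  have hPeq : (P : Subgroup C).map C.subtype = V₁ := by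
    by_contra hne
    obtain ⟨n, hnP, hnV, hn⟩ := exists_normalizing (P.isPGroup'.map C.subtype)
      (fun v hv => ⟨⟨v, hV hv⟩, hP hv, rfl⟩) (Ne.symm hne)
    obtain ⟨n', -, rfl⟩ := hnP
    simp only [Subgroup.coe_subtype] at hn hnV
    have hnC := n'.2
    simp only [hC, mem_inf, mem_centralizer_singleton_iff] at hnC
    have hs1 : (n' : G) * s * (n' : G)⁻¹ ∈ V₁ := (mem_normalizer_iff.1 hn s).1 d.s₁
    have hns : (n' : G) * s * (n' : G)⁻¹ = s := by
      by_contra hne'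
      exact d.six_not_conj hs1 (fun e => d.s_ne (conj_eq_one_iff.1 e)) hne' (isConj_iff.2 ⟨_, rfl⟩)
    exact hnV (d.V₁_cent u hu huE _ (mul_inv_eq_iff_eq_mul.1 hns) hnC.1 hnC.2)
  have hEg : cjg g E ≤ C := by
    intro z hz
    rw [mem_cjg] at hz
    refine ⟨mem_centralizer_singleton_iff.2 ?_, mem_centralizer_singleton_iff.2 ?_⟩
    · have := (conj_comm_iff (g := g)).2 (d.E_comm hz d.xE)
      rwa [show g * (g⁻¹ * z * g) * g⁻¹ = z by group, show g * x * g⁻¹ = x by rw [hg, mul_inv_cancel_right]] at this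
    · have := (conj_comm_iff (g := g)).2 (d.E_comm hz he)
      rwa [show g * (g⁻¹ * z * g) * g⁻¹ = z by group, show g * (g⁻¹ * u * g) * g⁻¹ = u by group] at this
  have hdvd : 2 ^ 4 ∣ Nat.card C := by
    have := card_dvd_of_le hEg
    rwa [card_cjg, d.E_card] at this
  have h1 := P.pow_dvd_card_of_pow_dvd_card hdvd
  have hc : Nat.card (P : Subgroup C) = 8 := by
    rw [← card_map_of_injective C.subtype_injective, hPeq, d.card₁]
  rw [hc] at h1
  norm_num at h1

/-- `E` is generated by the conjugates of `s`. -/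
lemma closure_O : closure d.O = E := by
  have hle : closure d.O ≤ E := (closure_le _).2 fun e he => he.1
  refine eq_of_le_of_card_ge hle ?_
  have hdvd : Nat.card (closure d.O) ∣ 2 ^ 4 := by
    have := card_dvd_of_le hle
    rwa [d.E_card] at this
  have h10 : 10 ≤ Nat.card (closure d.O) := by
    have hsub : insert 1 d.O ⊆ (closure d.O : Set G) := Set.insert_subset (one_mem _) subset_closure
    have h := Set.ncard_le_ncard hsub (Set.toFinite _)
    rw [Set.ncard_insert_of_notMem (fun h1 => by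
      obtain ⟨g, hg⟩ := isConj_iff.1 h1.2
      exact d.s_ne (conj_eq_one_iff.1 hg)) (Set.toFinite _), d.card_O, ← Nat.card_coe_set_eq] at h
    exact h
  obtain ⟨k, hk, hk'⟩ := (Nat.dvd_prime_pow Nat.prime_two).1 hdvd
  rw [d.E_card]
  rw [hk'] at h10 ⊢
  interval_cases k <;> omega

/-- The elements of `E` not conjugate to `s`. -/
def Sx (_d : Swap s x V₁ V₂ V₃ E T) : Set G := ((E : Set G) \ {1}) \ _d.O

lemma card_six : d.Sx.ncard = 6 := by
  have hsub : d.O ⊆ (E : Set G) \ {1} := fun e he => ⟨he.1, fun e1 => by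
    obtain ⟨g, hg⟩ := isConj_iff.1 he.2
    exact d.s_ne (conj_eq_one_iff.1 (hg.trans e1))⟩
  rw [Sx, Set.ncard_sdiff hsub (Set.toFinite _), d.card_O,
    Set.ncard_sdiff_singleton_of_mem (one_mem E), ← Nat.card_coe_set_eq]
  change Nat.card E - 1 - 9 = 6
  rw [d.E_card]

/-- The stabiliser of `x` in the normaliser of `E`. -/
def NX (_d : Swap s x V₁ V₂ V₃ E T) : Subgroup G :=
  normalizer (E : Set G) ⊓ centralizer ({x} : Set G)

lemma orbit_sub : {y : G | ∃ n ∈ normalizer (E : Set G), n * x * n⁻¹ = y} ⊆ d.Sx := by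
  rintro y ⟨n, hn, rfl⟩
  refine ⟨⟨(mem_normalizer_iff.1 hn x).1 d.xE, fun e => d.x_ne (conj_eq_one_iff.1 e)⟩, fun ho => d.x_not_conj ?_⟩
  exact ho.2.trans (isConj_iff.2 ⟨n, rfl⟩).symm

lemma orbit_x : {y : G | ∃ n ∈ normalizer (E : Set G), n * x * n⁻¹ = y} = d.Sx := by
  set O' := {y : G | ∃ n ∈ normalizer (E : Set G), n * x * n⁻¹ = y} with hO'
  refine Set.eq_of_subset_of_ncard_le d.orbit_sub ?_ (Set.toFinite _)
  rw [d.card_six]
  have h := card_eq_orbit_mul (normalizer (E : Set G)) x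
  rw [d.geo.card_N, ← hO'] at h
  change 576 = O'.ncard * Nat.card d.NX at h
  have h32 : 32 ∣ Nat.card d.NX := by
    rw [← d.card_R]
    exact card_dvd_of_le fun r hr => ⟨d.E_normal_R hr, mem_centralizer_singleton_iff.2 (d.mem_R.1 hr).2⟩
  have h64 : ¬ 64 ∣ Nat.card d.NX := by
    intro h64
    haveI : Fact (Nat.Prime 2) := ⟨Nat.prime_two⟩
    have hle : d.R ≤ d.NX := fun r hr => ⟨d.E_normal_R hr, mem_centralizer_singleton_iff.2 (d.mem_R.1 hr).2⟩
    obtain ⟨P, hP⟩ := ((IsPGroup.of_card (n := 5) (by rw [d.card_R]; norm_num) : IsPGroup 2 d.R).comap_subtype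
      (K := d.NX)).exists_le_sylow
    have he := d.R_max (P := (P : Subgroup d.NX).map d.NX.subtype) (P.isPGroup'.map _)
      (by rintro _ ⟨p, -, rfl⟩; exact mem_centralizer_singleton_iff.1 p.2.2)
      (fun r hr => ⟨⟨r, hle hr⟩, hP hr, rfl⟩)
    have h1 := P.pow_dvd_card_of_pow_dvd_card (n := 6) (by norm_num; exact h64)
    rw [← card_map_of_injective d.NX.subtype_injective, he, d.card_R] at h1
    norm_num at h1
  obtain ⟨m, hm⟩ := h32
  rw [hm] at h h64
  have hk6 : O'.ncard ≤ 6 := d.card_six ▸ Set.ncard_le_ncard d.orbit_sub (Set.toFinite _)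
  have hk2 : O'.ncard ≠ 2 := by
    intro h2
    obtain ⟨t, ht, htx⟩ := d.T_swap d.x_mem d.xE d.x_ne d.x_ne_s
    have hts : t * s * t⁻¹ = s := by rw [mem_centralizer_singleton_iff.1 (d.T_le ht), mul_inv_cancel_right]
    have htV : t * x * t⁻¹ ∈ V₁ ⊓ E := ⟨(mem_normalizer_iff.1 (d.T_le_N₁ ht) x).1 d.x_mem,
      (mem_normalizer_iff.1 (d.T_norm ht) x).1 d.xE⟩
    have hxs : t * x * t⁻¹ = x * s := by
      have hV : ((V₁ ⊓ E : Subgroup G) : Set G) = {1, s, x, x * s} := by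
        refine (Set.eq_of_subset_of_ncard_le ?_ ?_ (Set.toFinite _)).symm
        · rintro z (rfl | rfl | rfl | rfl)
          exacts [one_mem _, ⟨d.s₁, d.sE⟩, ⟨d.x_mem, d.xE⟩, ⟨d.xs_mem.1, d.xs_mem.2.1⟩]
        · rw [← Nat.card_coe_set_eq]
          change Nat.card (V₁ ⊓ E : Subgroup G) ≤ _
          rw [d.four₁, Set.ncard_insert_of_notMem (by simp [Ne.symm d.s_ne, Ne.symm d.x_ne, Ne.symm d.xs_mem.2.2.1]),
            Set.ncard_insert_of_notMem (by simp [Ne.symm d.x_ne_s, Ne.symm d.xs_mem.2.2.2]),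
            Set.ncard_insert_of_notMem (by simp [d.s_ne]), Set.ncard_singleton]
      rcases (hV ▸ htV : t * x * t⁻¹ ∈ ({1, s, x, x * s} : Set G)) with e | e | e | e
      · exact absurd (conj_eq_one_iff.1 e) d.x_ne
      · exact absurd (conj_inj (g := t) (e.trans hts.symm)) d.x_ne_s
      · exact absurd e htx
      · exact e
    have hOe : O' = {x, x * s} := by
      refine (Set.eq_of_subset_of_ncard_le ?_ ?_ (Set.toFinite _)).symm
      · rintro z (rfl | rfl)
        exacts [⟨1, one_mem _, by simp⟩, ⟨t, d.T_norm ht, hxs⟩]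
      · rw [h2, Set.ncard_pair (fun e => d.s_ne (left_eq_mul.1 e))]
    have hNT : normalizer (E : Set G) ≤ T := by
      intro n hn
      refine d.stab n (mul_inv_eq_iff_eq_mul.1 ?_) hn
      have hm1 : n * x * n⁻¹ ∈ O' := ⟨n, hn, rfl⟩
      have hm2 : n * (x * s) * n⁻¹ ∈ O' := ⟨n * t, mul_mem hn (d.T_norm ht), by rw [← hxs]; group⟩
      have hne : n * x * n⁻¹ ≠ n * (x * s) * n⁻¹ := fun e => d.s_ne (left_eq_mul.1 (conj_inj e))
      rw [show n * s * n⁻¹ = (n * x * n⁻¹)⁻¹ * (n * (x * s) * n⁻¹) by group]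
      rw [hOe] at hm1 hm2
      rcases hm1 with e1 | e1 <;> rcases hm2 with e2 | e2
      · exact absurd (e1.trans e2.symm) hne
      · rw [e1, e2, inv_mul_cancel_left]
      · rw [e1, e2, _root_.mul_inv_rev, inv_eq_of_mul_eq_one_right (d.E_sq s d.sE), mul_assoc, inv_mul_cancel, mul_one]
      · exact absurd (e1.trans e2.symm) hne
    have := card_le_of_le hNT
    rw [d.geo.card_N, d.T_card] at this
    omega
  have hOk : O'.ncard * m = 18 := by
    have : 576 = O'.ncard * m * 32 := by rw [h]; ring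
    omega
  have hm2 : ¬ 2 ∣ m := fun ⟨c, hc⟩ => h64 ⟨c, by rw [hc]; ring⟩
  interval_cases hk : O'.ncard <;> omega

lemma card_NX : Nat.card d.NX = 96 := by
  have h := card_eq_orbit_mul (normalizer (E : Set G)) x
  rw [d.geo.card_N, d.orbit_x, d.card_six] at h
  change 576 = 6 * Nat.card d.NX at h
  omega

/-- Every element of `six` is conjugate to `x`. -/
lemma six_conj {y : G} (hy : y ∈ d.Sx) : IsConj x y := by
  rw [← d.orbit_x] at hy
  obtain ⟨n, -, rfl⟩ := hy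
  exact isConj_iff.2 ⟨n, rfl⟩

lemma E_cases {e : G} (he : e ∈ E) : e = 1 ∨ e ∈ d.O ∨ e ∈ d.Sx := by
  by_cases h1 : e = 1
  · exact Or.inl h1
  by_cases h2 : e ∈ d.O
  · exact Or.inr (Or.inl h2)
  exact Or.inr (Or.inr ⟨⟨he, h1⟩, h2⟩)

end Swap

end Cfsg.Agent.PGroups.SmallExtraspecial
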