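import Mathlib
import Cfsg.Agent.H26.Invol
import Cfsg.Agent.S0215

/-!
General lemmas for the groups with an involution centraliser of the shape extraspecial of order 32 by Sym(3).
-/

set_option autoImplicit false

namespace Cfsg.Agent.PGroups.SmallExtraspecial

open Subgroup

variable {G : Type*} [Group G]

lemma two_iff {x : G} : orderOf x = 2 ↔ x * x = 1 ∧ x ≠ 1 := by
  haveI : Fact (Nat.Prime 2) := ⟨Nat.prime_two⟩
  rw [orderOf_eq_prime_iff, sq]

lemma two_conj {x : G} (hx : orderOf x = 2) (g : G) : orderOf (g * x * g⁻¹) = 2 := by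
  rwa [← MulAut.conj_apply, MulEquiv.orderOf_eq]

lemma conj_comm_iff {g x y : G} :
    g * x * g⁻¹ * (g * y * g⁻¹) = g * y * g⁻¹ * (g * x * g⁻¹) ↔ x * y = y * x := by
  rw [show g * x * g⁻¹ * (g * y * g⁻¹) = g * (x * y) * g⁻¹ by group,
    show g * y * g⁻¹ * (g * x * g⁻¹) = g * (y * x) * g⁻¹ by group, mul_left_inj, mul_right_inj]

lemma conj_cancel {g x : G} : g⁻¹ * (g * x * g⁻¹) * g = x := by group

lemma conj_inj {g x y : G} (h : g * x * g⁻¹ = g * y * g⁻¹) : x = y :=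
  mul_left_cancel (mul_right_cancel h)

/-- An element conjugating a finite subgroup into itself normalises it. -/
lemma mem_normalizer_of_conj_mem [Finite G] {S : Subgroup G} {g : G}
    (h : ∀ x ∈ S, g * x * g⁻¹ ∈ S) : g ∈ normalizer (S : Set G) := by
  have hb : Function.Bijective (fun x : S => (⟨g * x * g⁻¹, h x x.2⟩ : S)) :=
    Finite.injective_iff_bijective.1 fun a b hab => Subtype.ext (conj_inj (congrArg Subtype.val hab))
  refine mem_normalizer_iff.2 fun x => ⟨h x, fun hx => ?_⟩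
  obtain ⟨⟨y, hy⟩, hyx⟩ := hb.2 ⟨_, hx⟩
  exact (conj_inj (congrArg Subtype.val hyx)) ▸ hy

/-- A proper subgroup of a finite 2-group is properly normalised. -/
lemma exists_normalizing [Finite G] {S P : Subgroup G} (hP : IsPGroup 2 P) (hSP : S ≤ P) (hne : S ≠ P) :
    ∃ n ∈ P, n ∉ S ∧ n ∈ normalizer (S : Set G) := by
  haveI : Fact (Nat.Prime 2) := ⟨Nat.prime_two⟩
  haveI := hP.isNilpotent
  have hlt : S.subgroupOf P < ⊤ := lt_top_iff_ne_top.2 fun h => hne (le_antisymm hSP (subgroupOf_eq_top.1 h))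
  obtain ⟨n, hn, hnS⟩ := SetLike.exists_of_lt (Group.normalizerCondition_of_isNilpotent _ hlt)
  exact ⟨n, n.2, hnS, mem_normalizer_of_conj_mem fun x hx =>
    mem_subgroupOf.1 ((mem_normalizer_iff.1 hn ⟨x, hSP hx⟩).1 hx)⟩

/-- Two nonconjugate involutions commute with a common involution. -/
lemma exists_common_invol [Finite G] {x y : G} (hx : orderOf x = 2) (hy : orderOf y = 2)
    (h : ¬ IsConj x y) : ∃ k : G, orderOf k = 2 ∧ k * x = x * k ∧ k * y = y * k := by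
  obtain ⟨hxx, -⟩ := two_iff.1 hx
  obtain ⟨hyy, -⟩ := two_iff.1 hy
  obtain ⟨j, hj⟩ := H26.even_orderOf_of_not_isConj hxx hyy h
  have hpos := orderOf_pos (x * y)
  have hvv : (x * y) ^ j * (x * y) ^ j = 1 := by rw [← pow_add, ← hj, pow_orderOf_eq_one]
  have hv : ((x * y) ^ j)⁻¹ = (x * y) ^ j := inv_eq_of_mul_eq_one_right hvv
  have h1 : x * (x * y) ^ j * x⁻¹ = (x * y) ^ j := by
    rw [← conj_pow, show x * (x * y) * x⁻¹ = (x * y)⁻¹ by
      rw [_root_.mul_inv_rev, inv_eq_of_mul_eq_one_right hxx, inv_eq_of_mul_eq_one_right hyy, ← mul_assoc x,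
        hxx, one_mul], inv_pow, hv]
  have hcx : Commute ((x * y) ^ j) x := (mul_inv_eq_iff_eq_mul.1 h1).symm
  refine ⟨(x * y) ^ j, two_iff.2 ⟨hvv, pow_ne_one_of_lt_orderOf (by omega) (by omega)⟩, hcx, ?_⟩
  have hc := hcx.mul_right ((Commute.refl (x * y)).pow_left j)
  rwa [← mul_assoc, hxx, one_mul] at hc

/-- A finite group without elements of odd prime order is a 2-group. -/
lemma isPGroup_two_of_no_odd [Finite G] (R : Subgroup G)
    (h : ∀ x ∈ R, ∀ p : ℕ, p.Prime → p ≠ 2 → orderOf x ≠ p) : IsPGroup 2 R := by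
  refine IsPGroup.of_card (n := (Nat.card R).primeFactorsList.length)
    (Nat.eq_prime_pow_of_unique_prime_dvd Nat.card_pos.ne' fun {p} hp hdvd => ?_)
  by_contra hne
  haveI : Fact p.Prime := ⟨hp⟩
  obtain ⟨x, hx⟩ := exists_prime_orderOf_dvd_card' (G := R) p hdvd
  exact h x x.2 p hp hne (by rw [← hx, orderOf_coe])

/-- An involution of a finite group all whose fixed points in a normalised odd subgroup are trivial inverts it. -/
lemma inv_of_fixed_trivial [Finite G] {N : Subgroup G} {y : G} (hy : y * y = 1)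
    (hN : ∀ n ∈ N, y * n * y⁻¹ ∈ N) (hfix : ∀ n ∈ N, y * n = n * y → n = 1) :
    ∀ n ∈ N, y * n * y⁻¹ = n⁻¹ := by
  let φ : N → N := fun n => ⟨y * n * y⁻¹, hN n n.2⟩
  have hfp : MonoidHom.FixedPointFree φ := fun n hn =>
    Subtype.ext (hfix n n.2 (mul_inv_eq_iff_eq_mul.1 (congrArg Subtype.val hn)))
  let ψ : N →* N :=
    { toFun := φ
      map_one' := Subtype.ext (by simp [φ])
      map_mul' := fun a b => Subtype.ext (by simp [φ, mul_assoc]) }
  have hfp' : MonoidHom.FixedPointFree (ψ : N → N) := hfp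
  have h2 : Function.Involutive ψ := fun n => Subtype.ext (by
    show y * (y * n * y⁻¹) * y⁻¹ = n
    rw [inv_eq_of_mul_eq_one_right hy, show y * (y * n * y) * y = y * y * n * (y * y) by group, hy, one_mul, mul_one])
  intro n hn
  exact congrArg Subtype.val (congrFun (hfp'.coe_eq_inv_of_involutive h2) ⟨n, hn⟩)

/-- An odd subgroup normalised by two commuting involutions, fixed by neither of them nor by their product,
is trivial. -/
lemma eq_bot_of_four [Finite G] {N : Subgroup G} {y₁ y₂ : G} (h₁ : y₁ * y₁ = 1) (h₂ : y₂ * y₂ = 1)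
    (hN₁ : ∀ n ∈ N, y₁ * n * y₁⁻¹ ∈ N) (hN₂ : ∀ n ∈ N, y₂ * n * y₂⁻¹ ∈ N)
    (f₁ : ∀ n ∈ N, y₁ * n = n * y₁ → n = 1) (f₂ : ∀ n ∈ N, y₂ * n = n * y₂ → n = 1)
    (f₃ : ∀ n ∈ N, y₁ * y₂ * n = n * (y₁ * y₂) → n = 1) : N = ⊥ := by
  refine eq_bot_iff.2 fun n hn => mem_bot.2 (f₃ n hn ?_)
  have e : y₁ * y₂ * n * (y₁ * y₂)⁻¹ = n := by
    rw [show y₁ * y₂ * n * (y₁ * y₂)⁻¹ = y₁ * (y₂ * n * y₂⁻¹) * y₁⁻¹ by group,
      inv_of_fixed_trivial h₂ hN₂ f₂ n hn, inv_of_fixed_trivial h₁ hN₁ f₁ _ (inv_mem hn), inv_inv]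
  exact mul_inv_eq_iff_eq_mul.1 e

end Cfsg.Agent.PGroups.SmallExtraspecial
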