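import Mathlib

/-!
Thompson's transfer as the sign on cosets, with the elements in its kernel.
-/

set_option autoImplicit false

namespace Cfsg.Agent.PGroups.SmallExtraspecial

open Subgroup

/-- If `u` has no conjugate in the maximal subgroup `Q` of a Sylow 2-subgroup `P`, a sign character is
nontrivial on `u` and trivial on every involution all whose conjugates in `P` lie in `Q`. -/
theorem exists_sign {K : Type*} [Group K] [Finite K] (P : Sylow 2 K) (Q : Subgroup K)
    (hQP : Q ≤ (P : Subgroup K)) (hQi : Q.relIndex (P : Subgroup K) = 2) (u : K) (hu : u * u = 1)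
    (hconj : ∀ g : K, g⁻¹ * u * g ∉ Q) :
    ∃ f : K →* ℤˣ, f u = -1 ∧ ∀ e : K, e * e = 1 →
      (∀ g : K, g⁻¹ * e * g ∈ (P : Subgroup K) → g⁻¹ * e * g ∈ Q) → f e = 1 := by
  classical
  haveI := Fintype.ofFinite (K ⧸ Q)
  haveI := Fintype.ofFinite (K ⧸ (P : Subgroup K))
  haveI : Fact (Nat.Prime 2) := ⟨Nat.prime_two⟩
  let π := MulAction.toPermHom K (K ⧸ Q)
  refine ⟨Equiv.Perm.sign.comp π, ?_⟩
  have hm : Odd (P : Subgroup K).index := Nat.not_even_iff_odd.1 fun h =>
    P.not_dvd_index (even_iff_two_dvd.1 h)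
  have hcard : Fintype.card (K ⧸ Q) = 2 * (P : Subgroup K).index := by
    rw [← Nat.card_eq_fintype_card, ← index_eq_card, ← relIndex_mul_index hQP, hQi]
  have hfixmem : ∀ (e g : K) (H : Subgroup K), e • (g : K ⧸ H) = g ↔ g⁻¹ * e * g ∈ H := by
    intro e g H
    rw [MulAction.Quotient.smul_mk, eq_comm, QuotientGroup.eq, smul_eq_mul, mul_assoc]
  -- sign of an involution
  have hsign : ∀ e : K, e * e = 1 → ∃ k, 2 * k = (π e).support.card ∧ Equiv.Perm.sign (π e) = (-1) ^ k := by
    intro e he
    have hct : ∀ c ∈ (π e).cycleType, c = 2 := by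
      intro c hc
      have h2 : c ∣ 2 := (Equiv.Perm.dvd_of_mem_cycleType hc).trans
        (orderOf_dvd_of_pow_eq_one (by rw [← map_pow, pow_two, he, map_one]))
      exact ((Nat.dvd_prime Nat.prime_two).mp h2).resolve_left (Equiv.Perm.one_lt_of_mem_cycleType hc).ne'
    have hrep := Multiset.eq_replicate_card.mpr hct
    refine ⟨Multiset.card (π e).cycleType, ?_, ?_⟩
    · rw [← Equiv.Perm.sum_cycleType]
      conv_rhs => rw [hrep]
      rw [Multiset.sum_replicate, smul_eq_mul, mul_comm]
    · rw [Equiv.Perm.sign_of_cycleType]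
      conv_lhs => rw [hrep]
      rw [Multiset.sum_replicate, Multiset.card_replicate, smul_eq_mul, pow_add, pow_mul']
      simp
  refine ⟨?_, fun e he hcl => ?_⟩
  · obtain ⟨k, hk, hs⟩ := hsign u hu
    have hsupp : (π u).support = Finset.univ := by
      ext q
      induction q using QuotientGroup.induction_on with
      | H g =>
        simp only [Equiv.Perm.mem_support, Finset.mem_univ, iff_true]
        exact fun h => hconj g ((hfixmem u g Q).1 h)
    rw [hsupp, Finset.card_univ, hcard] at hk
    show Equiv.Perm.sign (π u) = -1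
    rw [hs, show k = (P : Subgroup K).index by omega, hm.neg_one_pow]
  · obtain ⟨k, hk, hs⟩ := hsign e he
    show Equiv.Perm.sign (π e) = 1
    -- fixed cosets of `Q` are the preimages of fixed cosets of `P`
    let ε := quotientEquivProdOfLE hQP
    have hfst : ∀ q : K ⧸ Q, e • q = q ↔ e • (ε q).1 = (ε q).1 := by
      intro q
      induction q using QuotientGroup.induction_on with
      | H g =>
        rw [hfixmem, show (ε (g : K ⧸ Q)).1 = (g : K ⧸ (P : Subgroup K)) from rfl, hfixmem]
        exact ⟨fun h => hQP h, hcl g⟩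
    have hF : Nat.card {q : K ⧸ Q // e • q = q} =
        Nat.card {p : K ⧸ (P : Subgroup K) // e • p = p} * 2 := by
      have hrel : Nat.card ((P : Subgroup K) ⧸ Q.subgroupOf (P : Subgroup K)) = 2 := hQi
      refine Eq.trans ?_ ((Nat.card_prod _ _).trans (congrArg (Nat.card {p : K ⧸ (P : Subgroup K) // e • p = p} * ·) hrel))
      exact Nat.card_congr ((ε.subtypeEquiv (p := fun q => e • q = q)
        (q := fun x => e • x.1 = x.1) hfst).trans
        ⟨fun x => (⟨x.1.1, x.2⟩, x.1.2), fun x => ⟨(x.1.1, x.2), x.1.2⟩, fun _ => rfl, fun _ => rfl⟩)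
    let π' := MulAction.toPermHom K (K ⧸ (P : Subgroup K))
    have hodd : Odd (Nat.card {p : K ⧸ (P : Subgroup K) // e • p = p}) := by
      have h2 : (π' e) ^ 2 = 1 := by rw [← map_pow, pow_two, he, map_one]
      obtain ⟨j, hj⟩ := Equiv.Perm.two_dvd_card_support h2
      have hc : Nat.card {p : K ⧸ (P : Subgroup K) // e • p = p} = ((π' e).supportᶜ).card := by
        rw [Nat.card_eq_fintype_card, Fintype.card_subtype]
        congr 1
        ext p; simp [π']
      rw [hc, Finset.card_compl, ← Nat.card_eq_fintype_card, ← index_eq_card]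
      have hle : (π' e).support.card ≤ (P : Subgroup K).index := by
        rw [index_eq_card, Nat.card_eq_fintype_card]; exact Finset.card_le_univ _
      obtain ⟨a, ha⟩ := hm
      exact ⟨a - j, by omega⟩
    have hsq : (π e).support.card + Nat.card {q : K ⧸ Q // e • q = q} = Fintype.card (K ⧸ Q) := by
      have hc : Nat.card {q : K ⧸ Q // e • q = q} = ((π e).supportᶜ).card := by
        rw [Nat.card_eq_fintype_card, Fintype.card_subtype]
        congr 1
        ext p; simp [π]
      rw [hc, Finset.card_add_card_compl]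
    rw [hs]
    obtain ⟨a, ha⟩ := hodd
    obtain ⟨b, hb⟩ := hm
    rw [hcard, hF, ha, hb] at hsq
    exact Even.neg_one_pow ⟨(b - a), by omega⟩

end Cfsg.Agent.PGroups.SmallExtraspecial
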