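import Cfsg.Agent.PGroups.SmallExtraspecial.CentBasic
import Cfsg.Agent.PGroups.SmallExtraspecial.Sign
import Mathlib.GroupTheory.Focal

/-!
The subgroup of index two and the normal subgroup `X` of the centraliser of the third class.
-/

set_option autoImplicit false

namespace Cfsg.Agent.PGroups.SmallExtraspecial

open Subgroup
open scoped commutatorElement

variable {G : Type*} [Group G] [Finite G]

namespace Swap

variable {s x : G} {V₁ V₂ V₃ E T : Subgroup G} (d : Swap s x V₁ V₂ V₃ E T)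
include d

/-- An element of order three centralising an involution conjugate to `s` and one commuting with it. -/
lemma no_three {y z : G} (hy : IsConj s y) (hzy : z * y = y * z) (hzx : z * x = x * z) (hxy : x * y = y * x)
    (hz : orderOf z = 3) : False := by
  obtain ⟨g, rfl⟩ := isConj_iff.1 hy
  have hxx : x * x = 1 := d.sq₁ x d.x_mem
  refine d.cent_two (g⁻¹ * x * g) ?_ ?_ ?_ ?_ (g⁻¹ * z * g) ?_ ?_ ?_
  · refine (conj_comm_iff (g := g)).1 ?_
    rwa [show g * (g⁻¹ * x * g) * g⁻¹ = x by group]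
  · rw [show g⁻¹ * x * g * (g⁻¹ * x * g) = g⁻¹ * (x * x) * g by group, hxx]; simp
  · intro e
    exact d.x_ne (by rw [show x = g * (g⁻¹ * x * g) * g⁻¹ by group, e]; simp)
  · intro e
    exact d.x_not_conj (isConj_iff.2 ⟨g, by rw [← e]; group⟩)
  · refine (conj_comm_iff (g := g)).1 ?_
    rwa [show g * (g⁻¹ * z * g) * g⁻¹ = z by group]
  · refine (conj_comm_iff (g := g)).1 ?_
    rw [show g * (g⁻¹ * z * g) * g⁻¹ = z by group, show g * (g⁻¹ * x * g) * g⁻¹ = x by group]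
    exact hzx
  · rw [show g⁻¹ * z * g = g⁻¹ * z * g⁻¹⁻¹ by rw [inv_inv], ← MulAut.conj_apply, MulEquiv.orderOf_eq, hz]

/-- An element of `N(E)` of order three commutes with no conjugate of `s` in `E`. -/
lemma three_O {f e : G} (hf : f ∈ normalizer (E : Set G)) (hf3 : orderOf f = 3) (he : e ∈ d.O) :
    f * e ≠ e * f := by
  intro hc
  rw [d.O_eq] at he
  obtain ⟨n, hn, rfl⟩ := he
  have hT : n⁻¹ * f * n ∈ T := by
    refine d.stab _ ?_ (mul_mem (mul_mem (inv_mem hn) hf) hn)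
    refine (conj_comm_iff (g := n)).1 ?_
    rwa [show n * (n⁻¹ * f * n) * n⁻¹ = f by group]
  have : 3 ∣ 64 := by
    have h1 : orderOf (n⁻¹ * f * n) = 3 := by
      rw [show n⁻¹ * f * n = n⁻¹ * f * n⁻¹⁻¹ by rw [inv_inv], ← MulAut.conj_apply, MulEquiv.orderOf_eq, hf3]
    rw [← d.T_card, ← h1, ← orderOf_mk _ hT]
    exact orderOf_dvd_natCard _
  norm_num at this

/-- The half of the centraliser. -/
theorem exists_half_K : ∃ K₀ : Subgroup G, K₀ ≤ centralizer ({x} : Set G) ∧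
    2 * Nat.card K₀ = Nat.card (centralizer ({x} : Set G)) ∧ E ≤ K₀ ∧
    (∀ u ∈ V₁, u ∉ E → u ∉ K₀) ∧
    (∀ g : G, g * x = x * g → Odd (orderOf g) → g ∈ K₀) ∧
    (∀ a : G, a * x = x * a → ∀ k ∈ K₀, a * k * a⁻¹ ∈ K₀) ∧ d.R ⊓ K₀ = E := by
  classical
  haveI : Fact (Nat.Prime 2) := ⟨Nat.prime_two⟩
  set K := centralizer ({x} : Set G) with hKdef
  have hKmem : ∀ {g : G}, g ∈ K ↔ g * x = x * g := fun {g} => mem_centralizer_singleton_iff
  have hRK : d.R ≤ K := inf_le_right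
  have hR2 : IsPGroup 2 d.R := IsPGroup.of_card (n := 5) (by rw [d.card_R]; norm_num)
  obtain ⟨P, hP⟩ := (hR2.comap_subtype (K := K)).exists_le_sylow
  have hPR : (P : Subgroup K) = d.R.subgroupOf K := by
    refine le_antisymm (fun p hp => ?_) hP
    have he := d.R_max (P := (P : Subgroup K).map K.subtype) (P.isPGroup'.map _)
      (by rintro _ ⟨q, -, rfl⟩; exact hKmem.1 q.2) (fun r hr => ⟨⟨r, hRK hr⟩, hP hr, rfl⟩)
    rw [mem_subgroupOf, ← he]
    exact ⟨p, hp, rfl⟩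
  obtain ⟨u, hu, huE⟩ := d.exists_u
  have huK : u ∈ K := hRK (d.V₁_le_R hu)
  have hQi : (E.subgroupOf K).relIndex (P : Subgroup K) = 2 := by
    rw [hPR, relIndex_subgroupOf hRK]
    have h := card_mul_index (E.subgroupOf d.R)
    rw [Nat.card_congr (subgroupOfEquivOfLe d.E_le_R).toEquiv, d.E_card, d.card_R] at h
    change 16 * E.relIndex d.R = 32 at h
    omega
  obtain ⟨f, hfu, hfe⟩ := exists_sign P (E.subgroupOf K) (by rw [hPR]; exact fun e he => d.E_le_R he) hQi ⟨u, huK⟩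
    (Subtype.ext (d.sq₁ u hu)) (fun g hg => d.u_not_fused hu huE (hKmem.1 g.2) hg)
  -- `E` lies in the kernel
  have hEK : E ≤ K := d.E_le_R.trans hRK
  have hOker : ∀ e (he : e ∈ d.O), f ⟨e, hEK he.1⟩ = 1 := by
    intro e he
    refine hfe _ (Subtype.ext (d.E_sq e he.1)) fun g hg => ?_
    rw [hPR, mem_subgroupOf] at hg
    rw [mem_subgroupOf]
    exact d.s_type_R hg (he.2.trans (isConj_iff.2 ⟨(g : G)⁻¹, by simp⟩))
  set K₀ := f.ker.map K.subtype with hK₀
  have hmem : ∀ {g : G} (hg : g ∈ K), g ∈ K₀ ↔ f ⟨g, hg⟩ = 1 := fun {g} hg =>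
    ⟨fun ⟨k, hk, he⟩ => (show k = ⟨g, hg⟩ from Subtype.ext he) ▸ MonoidHom.mem_ker.1 hk,
      fun h => ⟨⟨g, hg⟩, MonoidHom.mem_ker.2 h, rfl⟩⟩
  have hE0 : E ≤ K₀ := by
    rw [← d.closure_O, closure_le]
    exact fun e he => (hmem (hEK he.1)).2 (hOker e he)
  have hu0 : u ∉ K₀ := fun h => by
    rw [hmem huK, hfu] at h; exact absurd h (by decide)
  have hindex : f.ker.index = 2 := by
    rw [index_ker, MonoidHom.range_eq_top.mpr, card_top, Nat.card_eq_fintype_card, Fintype.card_units_int]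
    intro z
    rcases Int.units_eq_one_or z with rfl | rfl
    · exact ⟨1, map_one f⟩
    · exact ⟨_, hfu⟩
  have hRE : d.R ⊓ K₀ = E := by
    refine (eq_of_le_of_card_ge (le_inf d.E_le_R hE0) ?_).symm
    have hdvd : Nat.card (d.R ⊓ K₀ : Subgroup G) ∣ 2 ^ 5 := by
      have := card_dvd_of_le (inf_le_left : d.R ⊓ K₀ ≤ d.R)
      rwa [d.card_R] at this
    have hne : Nat.card (d.R ⊓ K₀ : Subgroup G) ≠ 32 := fun e =>
      by
      have he : d.R ⊓ K₀ = d.R := eq_of_le_of_card_ge inf_le_left (by rw [e, d.card_R])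
      have hm : u ∈ d.R ⊓ K₀ := by rw [he]; exact d.V₁_le_R hu
      exact hu0 hm.2
    obtain ⟨k, hk, hk'⟩ := (Nat.dvd_prime_pow Nat.prime_two).1 hdvd
    rw [hk'] at hne ⊢
    rw [d.E_card]
    interval_cases k <;> simp_all
  refine ⟨K₀, map_subtype_le _, ?_, hE0, fun v hv hvE hv0 => hvE ?_, fun g hg hodd => ?_, fun a ha k hk => ?_, hRE⟩
  · rw [hK₀, card_map_of_injective K.subtype_injective, mul_comm, ← hindex, card_mul_index]
  · exact hRE ▸ (⟨d.V₁_le_R hv, hv0⟩ : v ∈ d.R ⊓ K₀)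
  · refine (hmem (hKmem.2 hg)).2 ?_
    rcases Int.units_eq_one_or (f ⟨g, hKmem.2 hg⟩) with e | e
    · exact e
    · exfalso
      have h := map_pow f ⟨g, hKmem.2 hg⟩ (orderOf g)
      rw [show (⟨g, hKmem.2 hg⟩ : K) ^ orderOf g = 1 from Subtype.ext (pow_orderOf_eq_one g), map_one, e,
        hodd.neg_one_pow] at h
      exact absurd h (by decide)
  · obtain ⟨k', hk', rfl⟩ := hk
    exact ⟨⟨a, hKmem.2 ha⟩ * k' * ⟨a, hKmem.2 ha⟩⁻¹, (inferInstance : f.ker.Normal).conj_mem k' hk' _, rfl⟩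

omit [Finite G] d in
/-- Multiplying an element of order three. -/
lemma pow_three_cases {f : G} (hf : orderOf f = 3) {g : G} (hg : g ∈ zpowers f) :
    g = 1 ∨ g = f ∨ g = f * f := by
  obtain ⟨i, rfl⟩ := hg
  dsimp only
  rw [← zpow_mod_orderOf f i, hf]
  have h1 := Int.emod_nonneg i (show ((3 : ℕ) : ℤ) ≠ 0 by norm_num)
  have h2 := Int.emod_lt_of_pos i (show (0 : ℤ) < ((3 : ℕ) : ℤ) by norm_num)
  have h3 : f ^ (2 : ℤ) = f * f := zpow_two f
  have h4 : i % ((3 : ℕ) : ℤ) = 0 ∨ i % ((3 : ℕ) : ℤ) = 1 ∨ i % ((3 : ℕ) : ℤ) = 2 := by omega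
  rcases h4 with h | h | h <;> rw [h]
  · exact Or.inl (zpow_zero f)
  · exact Or.inr (Or.inl (zpow_one f))
  · exact Or.inr (Or.inr h3)

/-- The element of order three, the decomposition of `E` and the normal subgroup. -/
structure Core (_d : Swap s x V₁ V₂ V₃ E T) (K₀ : Subgroup G) (f : G) (U W X : Subgroup G) : Prop where
  K₀_le : K₀ ≤ centralizer ({x} : Set G)
  half : 2 * Nat.card K₀ = Nat.card (centralizer ({x} : Set G))
  E_le : E ≤ K₀
  u_not : ∀ u ∈ V₁, u ∉ E → u ∉ K₀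
  norm : ∀ a : G, a * x = x * a → ∀ k ∈ K₀, a * k * a⁻¹ ∈ K₀
  R_inf : _d.R ⊓ K₀ = E
  f_three : orderOf f = 3
  f_norm : f ∈ normalizer (E : Set G)
  f_x : f * x = x * f
  f_mem : f ∈ K₀
  U_eq : ∀ a : G, a ∈ U ↔ a ∈ E ∧ f * a = a * f
  U_card : Nat.card U = 4
  W_card : Nat.card W = 4
  W_le : W ≤ E
  W_moved : ∀ w ∈ W, w ≠ 1 → f * w ≠ w * f
  W_gen : ∀ e ∈ E, e * (f * e * f⁻¹) ∈ W
  split : ∀ e ∈ E, ∃ a ∈ U, ∃ w ∈ W, a * w = e
  X_le : X ≤ K₀
  X_norm : ∀ k ∈ K₀, ∀ y ∈ X, k * y * k⁻¹ ∈ X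
  X_inf : X ⊓ E = W
  X_card : Nat.card K₀ = 4 * Nat.card X
  f_X : f ∈ X

/-- Existence of the core. -/
theorem exists_core : ∃ (K₀ : Subgroup G) (f : G) (U W X : Subgroup G), d.Core K₀ f U W X := by
  classical
  haveI : Fact (Nat.Prime 2) := ⟨Nat.prime_two⟩
  haveI : Fact (Nat.Prime 3) := ⟨Nat.prime_three⟩
  obtain ⟨K₀, hK, hhalf, hE0, hu0, hodd0, hnorm0, hRE⟩ := d.exists_half_K
  obtain ⟨⟨f, hfmem⟩, hf⟩ := exists_prime_orderOf_dvd_card' (G := d.NX) 3 (by rw [d.card_NX]; norm_num)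
  rw [orderOf_mk] at hf
  have hfN : f ∈ normalizer (E : Set G) := hfmem.1
  have hfx : f * x = x * f := mem_centralizer_singleton_iff.1 hfmem.2
  have hf0 : f ∈ K₀ := hodd0 f hfx (by rw [hf]; decide)
  have hfE : ∀ e ∈ E, f * e * f⁻¹ ∈ E := fun e he => (mem_normalizer_iff.1 hfN e).1 he
  -- the endomorphism `e ↦ e ^ f * e`
  let ψ : E →* E :=
    { toFun := fun e => ⟨e * (f * e * f⁻¹), mul_mem e.2 (hfE e e.2)⟩
      map_one' := Subtype.ext (by simp)
      map_mul' := fun a b => Subtype.ext (by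
        show (a : G) * b * (f * (a * b) * f⁻¹) = a * (f * a * f⁻¹) * (b * (f * b * f⁻¹))
        have hc := d.E_comm b.2 (hfE a a.2)
        rw [show (a : G) * b * (f * (a * b) * f⁻¹) = a * (b * (f * a * f⁻¹)) * (f * b * f⁻¹) by group, hc]
        simp only [mul_assoc]) }
  set U := ψ.ker.map E.subtype with hUdef
  set W := ψ.range.map E.subtype with hWdef
  have hU : ∀ a : G, a ∈ U ↔ a ∈ E ∧ f * a = a * f := by
    intro a
    constructor
    · rintro ⟨e, he, rfl⟩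
      have h1 : (e : G) * (f * e * f⁻¹) = 1 := congrArg Subtype.val (MonoidHom.mem_ker.1 he)
      refine ⟨e.2, mul_inv_eq_iff_eq_mul.1 ?_⟩
      show f * (e : G) * f⁻¹ = (e : G)
      rw [← inv_eq_of_mul_eq_one_right h1, inv_eq_of_mul_eq_one_right (d.E_sq e e.2)]
    · rintro ⟨he, hc⟩
      refine ⟨⟨a, he⟩, MonoidHom.mem_ker.2 (Subtype.ext ?_), rfl⟩
      show a * (f * a * f⁻¹) = 1
      rw [hc, mul_inv_cancel_right]; exact d.E_sq a he
  have hWgen : ∀ e ∈ E, e * (f * e * f⁻¹) ∈ W := fun e he => ⟨ψ ⟨e, he⟩, ⟨⟨e, he⟩, rfl⟩, rfl⟩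
  have hWle : W ≤ E := map_subtype_le _
  have hf3 : f ^ 3 = 1 := by rw [← hf]; exact pow_orderOf_eq_one f
  have hWmove : ∀ w ∈ W, w ≠ 1 → f * w ≠ w * f := by
    rintro _ ⟨_, ⟨e, rfl⟩, rfl⟩ hne hc
    apply hne
    show (e : G) * (f * e * f⁻¹) = 1
    set e₁ := f * (e : G) * f⁻¹
    set e₂ := f * e₁ * f⁻¹
    have h1 : e₁ * e₂ = (e : G) * e₁ := by
      have hc' : f * ((e : G) * e₁) = (e : G) * e₁ * f := hc
      rw [show e₁ * e₂ = f * ((e : G) * e₁) * f⁻¹ by simp only [e₁, e₂]; group, hc', mul_inv_cancel_right]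
    have h2 : e₂ = e := by
      have h3 := d.E_comm e.2 (hfE e e.2)
      have h4 : e₁ * e₂ = e₁ * e := h1.trans h3
      exact mul_left_cancel h4
    have h5 : f * e₂ * f⁻¹ = (e : G) := by
      rw [show f * e₂ * f⁻¹ = f * f * f * (e : G) * (f * f * f)⁻¹ by simp only [e₂, e₁]; group, ← pow_three',
        hf3]
      simp
    rw [h2] at h5
    show (e : G) * e₁ = 1
    rw [show e₁ = (e : G) from h5]
    exact d.E_sq e e.2
  have hcards : Nat.card U * Nat.card W = 16 := by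
    rw [hUdef, hWdef, card_map_of_injective E.subtype_injective, card_map_of_injective E.subtype_injective,
      ← index_ker, card_mul_index, d.E_card]
  have hfW : ∀ w ∈ W, f * w * f⁻¹ ∈ W := by
    rintro _ ⟨_, ⟨e, rfl⟩, rfl⟩
    show f * ((e : G) * (f * e * f⁻¹)) * f⁻¹ ∈ W
    rw [show f * ((e : G) * (f * e * f⁻¹)) * f⁻¹ = f * e * f⁻¹ * (f * (f * e * f⁻¹) * f⁻¹) by group]
    exact hWgen _ (hfE e e.2)
  have hWc : Nat.card W = 4 := by
    have hfWn : zpowers f ≤ normalizer (W : Set G) := by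
      rw [zpowers_le]; exact mem_normalizer_of_conj_mem hfW
    letI : MulAction (zpowers f) W :=
      { smul := fun k w => ⟨(k : G) * w * (k : G)⁻¹, (mem_normalizer_iff.1 (hfWn k.2) w).1 w.2⟩
        one_smul := fun w => Subtype.ext (by show (1 : G) * w * 1⁻¹ = w; simp)
        mul_smul := fun a b w => Subtype.ext (by
          show (a : G) * b * w * ((a : G) * b)⁻¹ = a * (b * w * (b : G)⁻¹) * (a : G)⁻¹
          group) }
    have hmod := (IsPGroup.of_card (n := 1) (show Nat.card (zpowers f) = 3 ^ 1 by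
      rw [Nat.card_zpowers, hf]; norm_num)).card_modEq_card_fixedPoints W
    have hone : Nat.card (MulAction.fixedPoints (zpowers f) W) = 1 := by
      rw [Nat.card_eq_one_iff_unique]
      refine ⟨⟨fun a b => ?_⟩, ⟨⟨1, fun k => Subtype.ext (by show (k : G) * (1 : G) * (k : G)⁻¹ = 1; simp)⟩⟩⟩
      have hz : ∀ y : MulAction.fixedPoints (zpowers f) W, (y : W) = 1 := fun y => by
        by_contra hy
        refine hWmove _ (y : W).2 (fun e => hy (Subtype.ext e)) ?_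
        exact mul_inv_eq_iff_eq_mul.1 (congrArg Subtype.val (y.2 ⟨f, mem_zpowers f⟩))
      exact Subtype.ext ((hz a).trans (hz b).symm)
    rw [hone] at hmod
    obtain ⟨k, hk, hkW⟩ := (Nat.dvd_prime_pow Nat.prime_two).1
      (show Nat.card W ∣ 2 ^ 4 from ⟨Nat.card U, by rw [mul_comm, hcards]; norm_num⟩)
    have hU2 : 2 ≤ Nat.card U := by
      haveI : Nontrivial U := ⟨⟨x, (hU x).2 ⟨d.xE, hfx⟩⟩, 1, fun e => d.x_ne (congrArg Subtype.val e)⟩
      exact Finite.one_lt_card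
    rw [hkW] at hcards hmod ⊢
    unfold Nat.ModEq at hmod
    interval_cases k
    · -- all of `E` would be fixed
      exfalso
      have hUE : U = E := eq_of_le_of_card_ge (map_subtype_le _) (by rw [d.E_card]; omega)
      exact d.three_O hfN hf ⟨d.sE, IsConj.refl s⟩ ((hU s).1 (hUE ▸ d.sE)).2
    all_goals omega
  have hUc : Nat.card U = 4 := by rw [hWc] at hcards; omega
  have hsplit : ∀ e ∈ E, ∃ a ∈ U, ∃ w ∈ W, a * w = e := by
    intro e he
    let m : U × W → E := fun p => ⟨p.1 * p.2, mul_mem ((hU _).1 p.1.2).1 (hWle p.2.2)⟩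
    have hm : Function.Injective m := by
      rintro ⟨a, w⟩ ⟨a', w'⟩ h
      have h' : (a : G) * w = a' * w' := congrArg Subtype.val h
      have h1 : ((a' : G)⁻¹ * a) = w' * (w : G)⁻¹ := by
        rw [eq_mul_inv_iff_mul_eq, mul_assoc, h', inv_mul_cancel_left]
      have h2 : ((a' : G)⁻¹ * a) = 1 := by
        by_contra h3
        exact hWmove _ (h1 ▸ mul_mem w'.2 (inv_mem w.2)) h3
          (((hU _).1 (mul_mem (inv_mem a'.2) a.2)).2)
      exact Prod.ext (Subtype.ext (inv_mul_eq_one.1 h2).symm)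
        (Subtype.ext (mul_inv_eq_one.1 (h1.symm.trans h2)).symm)
    obtain ⟨⟨a, w⟩, hp⟩ := (hm.bijective_of_nat_card_le (by rw [Nat.card_prod, hUc, hWc, d.E_card])).2 ⟨e, he⟩
    exact ⟨a, a.2, w, w.2, congrArg Subtype.val hp⟩
  -- transfer
  have hEs : Nat.card (E.subgroupOf K₀) = 2 ^ 4 := by
    rw [Nat.card_congr (subgroupOfEquivOfLe hE0).toEquiv, d.E_card]; norm_num
  obtain ⟨S, hS⟩ := (IsPGroup.of_card hEs).exists_le_sylow
  have hSE : (S : Subgroup K₀) = E.subgroupOf K₀ := by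
    refine le_antisymm (fun p hp => ?_) hS
    obtain ⟨Q, hQ⟩ := (S.isPGroup'.map (Subgroup.inclusion hK)).exists_le_sylow
    have hR2 : IsPGroup 2 d.R := IsPGroup.of_card (n := 5) (by rw [d.card_R]; norm_num)
    obtain ⟨P, hP⟩ := (hR2.comap_subtype (K := centralizer ({x} : Set G))).exists_le_sylow
    have hPR := d.R_max (P := (P : Subgroup (centralizer ({x} : Set G))).map (Subgroup.subtype _))
      (P.isPGroup'.map _) (by rintro _ ⟨q, -, rfl⟩; exact mem_centralizer_singleton_iff.1 q.2)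
      (fun r hr => ⟨⟨r, inf_le_right (a := centralizer ({s} : Set G)) hr⟩, hP hr, rfl⟩)
    obtain ⟨c, hc⟩ := MulAction.exists_smul_eq (centralizer ({x} : Set G)) Q P
    have hmemR : ∀ q ∈ (S : Subgroup K₀), (c : G) * q * (c : G)⁻¹ ∈ d.R := by
      intro q hq
      rw [← hPR]
      refine ⟨c * Subgroup.inclusion hK q * c⁻¹, ?_, rfl⟩
      have h1 : Subgroup.inclusion hK q ∈ (Q : Subgroup (centralizer ({x} : Set G))) := hQ (mem_map_of_mem _ hq)
      rw [← hc]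
      exact smul_mem_pointwise_smul _ (MulAut.conj c) _ h1
    by_contra hpE
    have hle : (S : Subgroup K₀).map K₀.subtype ≤ cjg (c : G)⁻¹ E := by
      rintro _ ⟨q, hq, rfl⟩
      rw [mem_cjg, inv_inv, ← hRE]
      exact ⟨hmemR q hq, hnorm0 _ (mem_centralizer_singleton_iff.1 c.2) _ q.2⟩
    have h1 := card_le_of_le hle
    rw [card_map_of_injective K₀.subtype_injective, card_cjg, d.E_card] at h1
    exact hpE ((eq_of_le_of_card_ge hS (by rw [hEs]; norm_num; exact h1) : E.subgroupOf K₀ = S) ▸ hp)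
  haveI : IsMulCommutative (S : Subgroup K₀) := by
    rw [hSE]
    exact IsMulCommutative.of_comm fun a b => Subtype.ext (Subtype.ext (d.E_comm a.2 b.2))
  -- the normaliser of `E` in `K₀`
  have hN0 : ∀ n : G, n ∈ normalizer (E : Set G) → n ∈ K₀ → ∃ e ∈ E, ∃ g ∈ zpowers f, n = e * g := by
    intro n hn hn0
    set N₀ := d.NX ⊓ K₀
    have hcN : Nat.card N₀ ≤ 48 := by
      obtain ⟨u, hu, huE⟩ := d.exists_u
      have hne : N₀ ≠ d.NX := fun e => hu0 u hu huE
        ((e.symm ▸ (⟨d.E_normal_R (d.V₁_le_R hu), inf_le_right (a := centralizer ({s} : Set G)) (d.V₁_le_R hu)⟩ :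
          u ∈ d.NX)) : u ∈ N₀).2
      obtain ⟨c, hc⟩ := card_dvd_of_le (inf_le_left : N₀ ≤ d.NX)
      have hc2 : 2 ≤ c := by
        rcases Nat.lt_or_ge c 2 with h | h
        · exfalso
          interval_cases c
          · rw [mul_zero, d.card_NX] at hc; omega
          · exact hne (eq_of_le_of_card_ge inf_le_left (by rw [hc, mul_one]))
        · exact h
      rw [d.card_NX] at hc
      nlinarith
    let m : E × zpowers f → N₀ := fun p => ⟨p.1 * p.2, ⟨⟨mul_mem (le_normalizer p.1.2) ((zpowers_le.2 hfN) p.2.2),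
      mul_mem (hK (hE0 p.1.2)) ((zpowers_le.2 (hK hf0)) p.2.2)⟩, mul_mem (hE0 p.1.2) ((zpowers_le.2 hf0) p.2.2)⟩⟩
    have hm : Function.Injective m := by
      rintro ⟨a, g⟩ ⟨a', g'⟩ h
      have h' : (a : G) * g = a' * g' := congrArg Subtype.val h
      have h1 : ((a' : G)⁻¹ * a) = g' * (g : G)⁻¹ := by
        rw [eq_mul_inv_iff_mul_eq, mul_assoc, h', inv_mul_cancel_left]
      have h2 : ((a' : G)⁻¹ * a) = 1 := by
        rw [← orderOf_eq_one_iff]
        refine Nat.eq_one_of_dvd_coprimes (show Nat.Coprime 16 3 by norm_num) ?_ ?_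
        · rw [← d.E_card, ← orderOf_mk _ (mul_mem (inv_mem a'.2) a.2)]; exact orderOf_dvd_natCard _
        · rw [h1, ← hf]
          exact orderOf_dvd_of_mem_zpowers (mul_mem g'.2 (inv_mem g.2))
      exact Prod.ext (Subtype.ext (inv_mul_eq_one.1 h2).symm)
        (Subtype.ext (mul_inv_eq_one.1 (h1.symm.trans h2)).symm)
    obtain ⟨⟨a, g⟩, hp⟩ := (hm.bijective_of_nat_card_le (by
      rw [Nat.card_prod, d.E_card, Nat.card_zpowers, hf]; exact hcN)).2
      ⟨n, ⟨hn, hK hn0⟩, hn0⟩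
    exact ⟨a, a.2, g, g.2, (congrArg Subtype.val hp).symm⟩
  have hWg : ∀ e ∈ E, ∀ g ∈ zpowers f, e * (g * e * g⁻¹) ∈ W := by
    intro e he g hg
    rcases pow_three_cases hf hg with rfl | rfl | rfl
    · simp [d.E_sq e he]
    · exact hWgen e he
    · have h1 := mul_mem (hWgen e he) (hWgen _ (hfE e he))
      have hee : f * e * f⁻¹ * (f * e * f⁻¹) = 1 := d.E_sq _ (hfE e he)
      rw [show e * (f * e * f⁻¹) * (f * e * f⁻¹ * (f * (f * e * f⁻¹) * f⁻¹)) =
        e * (f * e * f⁻¹ * (f * e * f⁻¹)) * (f * (f * e * f⁻¹) * f⁻¹) by group, hee, mul_one] at h1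
      rwa [show f * f * e * (f * f)⁻¹ = f * (f * e * f⁻¹) * f⁻¹ by group]
  have hfocal : ((S : Subgroup K₀).focalSubgroup).map K₀.subtype = W := by
    refine le_antisymm ?_ ?_
    · rw [focalSubgroup_def, MonoidHom.map_closure, closure_le]
      rintro _ ⟨g, ⟨hg, a, ha, c, rfl⟩, rfl⟩
      have hca : c * a⁻¹ * c⁻¹ ∈ (S : Subgroup K₀) := by
        have := mul_mem (inv_mem ha) hg
        rwa [commutatorElement_def, show a⁻¹ * (a * c * a⁻¹ * c⁻¹) = c * a⁻¹ * c⁻¹ by group] at this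
      obtain ⟨n, hn, he⟩ := S.conj_eq_normalizer_conj_of_mem a⁻¹ c⁻¹ (inv_mem ha) (by rwa [inv_inv])
      rw [inv_inv] at he
      have hnE : (n : G) ∈ normalizer (E : Set G) := mem_normalizer_of_conj_mem fun e he' => by
        have := (mem_normalizer_iff.1 hn ⟨e, hE0 he'⟩).1 (by rw [hSE]; exact he')
        rw [hSE] at this
        exact this
      obtain ⟨e', he', g', hg', hn'⟩ := hN0 _ (inv_mem hnE) (inv_mem n.2)
      rw [hSE, mem_subgroupOf] at ha
      show ((⁅a, c⁆ : K₀) : G) ∈ W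
      rw [commutatorElement_def, show a * c * a⁻¹ * c⁻¹ = a * (c * a⁻¹ * c⁻¹) by group, he]
      show (a : G) * ((n : G)⁻¹ * (a : G)⁻¹ * n) ∈ W
      rw [inv_eq_of_mul_eq_one_right (d.E_sq _ ha), show (n : G) = ((n : G)⁻¹)⁻¹ by rw [inv_inv], inv_inv, hn']
      have hga : g' * a * g'⁻¹ ∈ E := (mem_normalizer_iff.1 ((zpowers_le.2 hfN) hg') _).1 ha
      rw [show (a : G) * (e' * g' * a * (e' * g')⁻¹) = a * (e' * (g' * a * g'⁻¹) * e'⁻¹) by group,
        d.E_comm he' hga, mul_inv_cancel_right]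
      exact hWg _ ha g' hg'
    · rintro _ ⟨_, ⟨e, rfl⟩, rfl⟩
      refine ⟨⁅(⟨e, hE0 e.2⟩ : K₀), ⟨f, hf0⟩⁆, subset_closure ⟨?_, ⟨e, hE0 e.2⟩, ?_, ⟨f, hf0⟩, rfl⟩, ?_⟩
      · rw [hSE, mem_subgroupOf]
        show ((⟨e, hE0 e.2⟩ * ⟨f, hf0⟩ * (⟨e, hE0 e.2⟩ : K₀)⁻¹ * (⟨f, hf0⟩ : K₀)⁻¹ : K₀) : G) ∈ E
        simp only [Subgroup.coe_mul, Subgroup.coe_inv]
        rw [show (e : G) * f * (e : G)⁻¹ * f⁻¹ = e * (f * (e : G)⁻¹ * f⁻¹) by group]
        exact mul_mem e.2 (hfE _ (inv_mem e.2))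
      · rw [hSE]; exact e.2
      · show (e : G) * f * (e : G)⁻¹ * f⁻¹ = e * (f * e * f⁻¹)
        rw [inv_eq_of_mul_eq_one_right (d.E_sq e e.2)]; group
  -- the kernel
  set Φ := (S : Subgroup K₀).transferFocal with hΦ
  set X := Φ.ker.map K₀.subtype with hX
  refine ⟨K₀, f, U, W, X, ⟨hK, hhalf, hE0, hu0, hnorm0, hRE, hf, hfN, hfx, hf0, hU, hUc, hWc, hWle, hWmove,
    hWgen, hsplit, map_subtype_le _, ?_, ?_, ?_, ?_⟩⟩
  · rintro k hk _ ⟨y, hy, rfl⟩
    refine ⟨⟨k, hk⟩ * y * ⟨k, hk⟩⁻¹, ?_, rfl⟩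
    have hy' : Φ y = 1 := MonoidHom.mem_ker.1 hy
    refine MonoidHom.mem_ker.2 ?_
    simp only [map_mul, map_inv, hy', mul_one, mul_inv_cancel]
  · have hinf : Φ.ker ⊓ (S : Subgroup K₀) = (S : Subgroup K₀).focalSubgroup :=
      Subgroup.ker_transferFocal_inf_eq_focalSubgroup S
    have hmap := congrArg (Subgroup.map K₀.subtype) hinf
    have hSm : (S : Subgroup K₀).map K₀.subtype = E := by rw [hSE, subgroupOf_map_subtype, inf_eq_left.2 hE0]
    rw [map_inf _ _ _ K₀.subtype_injective, hSm, hfocal] at hmap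
    exact hmap
  · have hq : Nat.card ((S : Subgroup K₀) ⧸ (S : Subgroup K₀).focalSubgroupOf) = 4 := by
      have h := card_eq_card_quotient_mul_card_subgroup (S : Subgroup K₀).focalSubgroupOf
      rw [show Nat.card (S : Subgroup K₀).focalSubgroupOf = Nat.card W by
        rw [← hfocal, card_map_of_injective K₀.subtype_injective, ← map_focalSubgroupOf,
          card_map_of_injective (S : Subgroup K₀).subtype_injective], hWc, show Nat.card (S : Subgroup K₀) = 16 by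
          rw [hSE, hEs]; norm_num] at h
      omega
    rw [hX, card_map_of_injective K₀.subtype_injective, ← hq,
      ← Nat.card_congr (Subgroup.transferFocal.quotientKerMulEquivQuotientFocalSubroupOf S).toEquiv,
      ← card_eq_card_quotient_mul_card_subgroup]
  · refine ⟨⟨f, hf0⟩, MonoidHom.mem_ker.2 ?_, rfl⟩
    rw [← orderOf_eq_one_iff]
    refine Nat.eq_one_of_dvd_coprimes (show Nat.Coprime 3 (2 ^ 4) by norm_num)
      (hf ▸ orderOf_mk f hf0 ▸ orderOf_map_dvd Φ _) ?_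
    rw [← hEs, ← hSE]
    exact dvd_trans (orderOf_dvd_natCard _) (card_quotient_dvd_card _)

end Swap

end Cfsg.Agent.PGroups.SmallExtraspecial
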