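import Cfsg.Agent.PGroups.SmallExtraspecial.Residue

/-!
Two elementary abelian subgroups of order 8 and one of order 16: the three parabolic subgroups.
-/

set_option autoImplicit false

namespace Cfsg.Agent.PGroups.SmallExtraspecial

open Subgroup

variable {G : Type*} [Group G]

/-- The local data for the geometry. -/
structure Geo (s : G) (V₂ V₃ E T : Subgroup G) : Prop where
  h₂ : Sett s V₂
  h₃ : Sett s V₃
  meet : ∀ v ∈ V₂, v ∈ V₃ → v = 1 ∨ v = s
  sE : s ∈ E
  E_sq : ∀ e ∈ E, e * e = 1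
  E_card : Nat.card E = 16
  T_card : Nat.card T = 64
  T_le : T ≤ centralizer ({s} : Set G)
  T_norm : T ≤ normalizer (E : Set G)
  uniq : ∀ F : Subgroup G, F ≤ T → (∀ x ∈ F, x * x = 1) → Nat.card F = 16 → F = E
  four₂ : Nat.card (V₂ ⊓ E : Subgroup G) = 4
  four₃ : Nat.card (V₃ ⊓ E : Subgroup G) = 4
  cardN : Nat.card (normalizer (E : Set G)) ≤ 576

namespace Geo

variable {s : G} {V₂ V₃ E T : Subgroup G}

lemma symm (d : Geo s V₂ V₃ E T) : Geo s V₃ V₂ E T :=
  ⟨d.h₃, d.h₂, fun v h3 h2 => d.meet v h2 h3, d.sE, d.E_sq, d.E_card, d.T_card, d.T_le, d.T_norm, d.uniq,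
    d.four₃, d.four₂, d.cardN⟩

/-- The stabiliser of a line in a point stabiliser. -/
def P (V E : Subgroup G) : Subgroup G := normalizer (V : Set G) ⊓ normalizer ((V ⊓ E : Subgroup G) : Set G)

variable (d : Geo s V₂ V₃ E T)
include d

lemma four : IsFour V₂ (V₂ ⊓ E) := ⟨inf_le_left, d.four₂⟩

lemma s_four : s ∈ V₂ ⊓ E := ⟨d.h₂.s_mem, d.sE⟩

lemma T_le_P : T ≤ P V₂ E := by
  intro t ht
  have h1 : t ∈ normalizer (V₂ : Set G) := d.h₂.norm (d.T_le ht)
  refine ⟨h1, mem_normalizer_iff.2 fun x => ?_⟩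
  simp only [mem_inf]
  rw [← (mem_normalizer_iff.1 h1 x), ← (mem_normalizer_iff.1 (d.T_norm ht) x)]

variable [Finite G]

lemma stab_eq : centralizer ({s} : Set G) ⊓ normalizer ((V₂ ⊓ E : Subgroup G) : Set G) = T := by
  set X := centralizer ({s} : Set G) ⊓ normalizer ((V₂ ⊓ E : Subgroup G) : Set G)
  have hTX : T ≤ X := fun t ht => ⟨d.T_le ht, (d.T_le_P ht).2⟩
  have hdvd : Nat.card X ∣ 192 := d.h₂.cardL ▸ card_dvd_of_le inf_le_left
  have hp : IsPGroup 2 X := by
    refine isPGroup_two_of_no_odd X fun x hx q hq hq2 hxo => ?_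
    have hq192 : q ∣ 192 := dvd_trans (by rw [← hxo, ← orderOf_mk x hx]; exact orderOf_dvd_natCard _) hdvd
    have hq3 : q = 3 := by
      have : q ∈ Nat.primeFactors 192 := Nat.mem_primeFactors.2 ⟨hq, hq192, by norm_num⟩
      rw [show (192 : ℕ).primeFactors = {2, 3} by
        rw [show (192 : ℕ) = 2 ^ 6 * 3 by norm_num, Nat.primeFactors_mul (by norm_num) (by norm_num),
          Nat.primeFactors_prime_pow (by norm_num) Nat.prime_two, Nat.Prime.primeFactors Nat.prime_three]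
        rfl] at this
      simpa [hq2] using this
    exact d.h₂.three_moves d.four d.s_four (mem_centralizer_singleton_iff.1 hx.1) (hq3 ▸ hxo)
      (mem_normalizer_iff_cjg.1 hx.2)
  haveI : Fact (Nat.Prime 2) := ⟨Nat.prime_two⟩
  obtain ⟨k, hk⟩ := hp.exists_card_eq
  refine (eq_of_le_of_card_ge hTX ?_).symm
  rw [hk] at hdvd ⊢
  rw [d.T_card]
  have : 2 ^ k ∣ 64 := (Nat.Coprime.dvd_of_dvd_mul_right (k := 2 ^ k) (n := 3) (m := 64)
    (Nat.Coprime.pow_left _ (by norm_num)) (by simpa using hdvd))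
  exact Nat.le_of_dvd (by norm_num) this

lemma card_P : Nat.card (P V₂ E) = 192 := by
  rw [card_eq_orbit_mul (P V₂ E) s]
  have h1 : P V₂ E ⊓ centralizer ({s} : Set G) = T := by
    refine le_antisymm (fun x hx => d.stab_eq ▸ ⟨hx.2, hx.1.2⟩) (le_inf d.T_le_P d.T_le)
  have h2 : {x : G | ∃ g ∈ P V₂ E, g * s * g⁻¹ = x} = ((V₂ ⊓ E : Subgroup G) : Set G) \ {1} := by
    ext x
    constructor
    · rintro ⟨g, hg, rfl⟩
      exact ⟨(mem_normalizer_iff.1 hg.2 s).1 d.s_four, fun e => d.h₂.s_ne (conj_eq_one_iff.1 e)⟩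
    · rintro ⟨hx, hx1⟩
      obtain ⟨g, hg, e⟩ := d.h₂.four_stab_trans d.four d.s_four hx hx1
      exact ⟨g⁻¹, inv_mem hg, by rw [inv_inv, ← e]; exact conj_cancel⟩
  rw [h1, h2, Set.ncard_sdiff (Set.singleton_subset_iff.2 (one_mem _)) (Set.toFinite _), Set.ncard_singleton,
    ← Nat.card_coe_set_eq, d.T_card]
  change (Nat.card (V₂ ⊓ E : Subgroup G) - 1) * 64 = 192
  rw [d.four₂]

lemma P_le_N : P V₂ E ≤ normalizer (E : Set G) := by
  intro n hn
  refine mem_normalizer_iff_cjg.2 (d.uniq _ (fun x hx => ?_) (fun x hx => ?_) (by rw [card_cjg, d.E_card]))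
  · rw [mem_cjg] at hx
    rw [← d.stab_eq]
    have hcomm : ∀ w ∈ V₂ ⊓ E, x * w * x⁻¹ = w := by
      intro w hw
      have hw' : n⁻¹ * w * n ∈ V₂ ⊓ E := (mem_normalizer_iff.1 hn.2 _).2 (by
        rwa [show n * (n⁻¹ * w * n) * n⁻¹ = w by group])
      have e := d.E_sq _ (mul_mem hx hw'.2)
      have hc : n⁻¹ * x * n * (n⁻¹ * w * n) = n⁻¹ * w * n * (n⁻¹ * x * n) := by
        calc n⁻¹ * x * n * (n⁻¹ * w * n) = (n⁻¹ * x * n * (n⁻¹ * w * n))⁻¹ :=
              (inv_eq_of_mul_eq_one_right e).symm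
          _ = n⁻¹ * w * n * (n⁻¹ * x * n) := by
              rw [_root_.mul_inv_rev, inv_eq_of_mul_eq_one_right (d.E_sq _ hx),
                inv_eq_of_mul_eq_one_right (d.E_sq _ hw'.2)]
      rw [mul_inv_eq_iff_eq_mul]
      exact mul_left_cancel (a := n⁻¹) (mul_right_cancel (b := n) (by
        calc n⁻¹ * (x * w) * n = n⁻¹ * x * n * (n⁻¹ * w * n) := by group
          _ = n⁻¹ * (w * x) * n := by rw [hc]; group))
    refine ⟨mem_centralizer_singleton_iff.2 (mul_inv_eq_iff_eq_mul.1 (hcomm s d.s_four)),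
      mem_normalizer_of_conj_mem fun w hw => ?_⟩
    rw [hcomm w hw]; exact hw
  · rw [mem_cjg] at hx
    have e := d.E_sq _ hx
    rw [show n⁻¹ * x * n * (n⁻¹ * x * n) = n⁻¹ * (x * x) * n by group] at e
    calc x * x = n * (n⁻¹ * (x * x) * n) * n⁻¹ := by group
      _ = 1 := by rw [e]; simp

lemma N_inf_le : normalizer (E : Set G) ⊓ normalizer (V₂ : Set G) ≤ P V₂ E := by
  intro n hn
  refine ⟨hn.2, mem_normalizer_iff.2 fun x => ?_⟩
  simp only [mem_inf]
  rw [← (mem_normalizer_iff.1 hn.2 x), ← (mem_normalizer_iff.1 hn.1 x)]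

lemma M_inf : normalizer (V₂ : Set G) ⊓ normalizer (V₃ : Set G) = centralizer ({s} : Set G) := by
  refine le_antisymm (fun g hg => mem_centralizer_singleton_iff.2 ?_) (le_inf d.h₂.norm d.h₃.norm)
  rcases d.meet _ ((mem_normalizer_iff.1 hg.1 s).1 d.h₂.s_mem) ((mem_normalizer_iff.1 hg.2 s).1 d.h₃.s_mem)
    with e | e
  · exact absurd (conj_eq_one_iff.1 e) d.h₂.s_ne
  · exact mul_inv_eq_iff_eq_mul.1 e

/-- The product of the two stabilisers has at least 576 elements. -/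
lemma card_prod [Fintype G] [DecidableEq G] [DecidablePred (· ∈ P V₃ E)] [DecidablePred (· ∈ P V₂ E)] :
    576 ≤ ((Finset.univ.filter fun x : G × G => x.1 ∈ P V₃ E ∧ x.2 ∈ P V₂ E).image fun x => x.1 * x.2).card := by
  classical
  let f : G × G → G := fun x => x.1 * x.2
  set A := Finset.univ.filter fun x : G × G => x.1 ∈ P V₃ E ∧ x.2 ∈ P V₂ E with hA
  have hfib : ∀ y ∈ A.image f, (A.filter fun x => f x = y).card ≤ 64 := by
    intro y hy
    obtain ⟨x₀, hx₀, rfl⟩ := Finset.mem_image.1 hy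
    obtain ⟨h3, h2⟩ := (Finset.mem_filter.1 hx₀).2
    have hb : (A.filter fun x => f x = f x₀).card ≤ ((T : Set G).toFinset).card := by
      refine Finset.card_le_card_of_injOn (fun x => x₀.1⁻¹ * x.1) (fun x hx => ?_) ?_
      · obtain ⟨hxA, hxe⟩ := Finset.mem_filter.1 hx
        obtain ⟨g3, g2⟩ := (Finset.mem_filter.1 hxA).2
        have e : x₀.1⁻¹ * x.1 = x₀.2 * x.2⁻¹ := by
          rw [eq_mul_inv_iff_mul_eq, mul_assoc, show x.1 * x.2 = x₀.1 * x₀.2 from hxe, inv_mul_cancel_left]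
        have m3 : x₀.1⁻¹ * x.1 ∈ P V₃ E := mul_mem (inv_mem h3) g3
        have m2 : x₀.1⁻¹ * x.1 ∈ P V₂ E := e ▸ mul_mem h2 (inv_mem g2)
        refine Finset.mem_coe.2 (Set.mem_toFinset.2 ?_)
        rw [SetLike.mem_coe, ← d.stab_eq]
        exact ⟨d.M_inf ▸ ⟨m2.1, m3.1⟩, m2.2⟩
      · intro x hx x' hx' e
        have e1 : x.1 = x'.1 := mul_left_cancel e
        have hxe : x.1 * x.2 = x₀.1 * x₀.2 := (Finset.mem_filter.1 hx).2
        have hxe' : x'.1 * x'.2 = x₀.1 * x₀.2 := (Finset.mem_filter.1 hx').2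
        rw [← hxe', e1] at hxe
        exact Prod.ext e1 (mul_left_cancel hxe)
    rw [Set.toFinset_card, ← Nat.card_eq_fintype_card] at hb
    change _ ≤ Nat.card T at hb
    rwa [d.T_card] at hb
  have hAc : A.card = 192 * 192 := by
    have e : Nat.card {x : G × G // x.1 ∈ P V₃ E ∧ x.2 ∈ P V₂ E} = Nat.card (P V₃ E) * Nat.card (P V₂ E) := by
      rw [← Nat.card_prod]
      exact Nat.card_congr (Equiv.subtypeProdEquivProd (p := (· ∈ P V₃ E)) (q := (· ∈ P V₂ E)))
    rw [d.card_P, d.symm.card_P, Nat.card_eq_fintype_card, Fintype.card_subtype] at e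
    exact e
  have h1 := Finset.card_le_mul_card_image A 64 hfib
  change 576 ≤ (A.image f).card
  omega

/-- The line stabiliser is the product of the two stabilisers. -/
lemma N_split {n : G} (hn : n ∈ normalizer (E : Set G)) :
    ∃ a ∈ P V₃ E, ∃ b ∈ P V₂ E, a * b = n := by
  classical
  haveI := Fintype.ofFinite G
  by_contra hne
  push Not at hne
  have hmaps : ((Finset.univ.filter fun x : G × G => x.1 ∈ P V₃ E ∧ x.2 ∈ P V₂ E).image fun x => x.1 * x.2) ⊆
      ((normalizer (E : Set G) : Subgroup G) : Set G).toFinset.erase n := by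
    intro y hy
    obtain ⟨x, hx, rfl⟩ := Finset.mem_image.1 hy
    obtain ⟨h3, h2⟩ := (Finset.mem_filter.1 hx).2
    exact Finset.mem_erase.2 ⟨hne _ h3 _ h2, Set.mem_toFinset.2 (mul_mem (d.symm.P_le_N h3) (d.P_le_N h2))⟩
  have h1 := d.card_prod.trans (Finset.card_le_card hmaps)
  rw [Finset.card_erase_of_mem (Set.mem_toFinset.2 hn), Set.toFinset_card, ← Nat.card_eq_fintype_card] at h1
  change 576 ≤ Nat.card (normalizer (E : Set G)) - 1 at h1
  have := d.cardN
  omega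

lemma card_N : Nat.card (normalizer (E : Set G)) = 576 := by
  classical
  haveI := Fintype.ofFinite G
  refine le_antisymm d.cardN (d.card_prod.trans ?_)
  change _ ≤ Nat.card ((normalizer (E : Set G) : Subgroup G) : Set G)
  rw [Nat.card_eq_fintype_card, ← Set.toFinset_card]
  refine Finset.card_le_card fun y hy => ?_
  obtain ⟨x, hx, rfl⟩ := Finset.mem_image.1 hy
  obtain ⟨h3, h2⟩ := (Finset.mem_filter.1 hx).2
  exact Set.mem_toFinset.2 (mul_mem (d.symm.P_le_N h3) (d.P_le_N h2))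

end Geo

end Cfsg.Agent.PGroups.SmallExtraspecial
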