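import Cfsg.Agent.PGroups.SmallExtraspecial.Parabolic

/-!
Points, lines and planes: any two points of the component are collinear.
-/

set_option autoImplicit false

namespace Cfsg.Agent.PGroups.SmallExtraspecial

open Subgroup
open scoped Pointwise

variable {G : Type*} [Group G]

namespace Geo

/-- A point. -/
def pt (V : Subgroup G) (g : G) : G ⧸ normalizer (V : Set G) := (g : G ⧸ normalizer (V : Set G))

lemma pt_eq {V : Subgroup G} {a b : G} : pt V a = pt V b ↔ a⁻¹ * b ∈ normalizer (V : Set G) :=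
  QuotientGroup.eq

lemma smul_pt {V : Subgroup G} (a b : G) : a • pt V b = pt V (a * b) := MulAction.Quotient.smul_mk _ _ _

lemma pt_mul_mem {V : Subgroup G} {a b : G} (hb : b ∈ normalizer (V : Set G)) : pt V (a * b) = pt V a :=
  pt_eq.2 (by simpa using hb)

lemma pt_fix {V : Subgroup G} {a : G} (ha : a ∈ normalizer (V : Set G)) : pt V a = pt V 1 := by
  simpa using pt_mul_mem (a := 1) ha

lemma exists_pt {V : Subgroup G} (q : G ⧸ normalizer (V : Set G)) : ∃ g, q = pt V g := by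
  obtain ⟨g, hg⟩ := QuotientGroup.mk_surjective q
  exact ⟨g, hg.symm⟩

/-- A line. -/
def line (V E : Subgroup G) (g : G) : Set (G ⧸ normalizer (V : Set G)) :=
  (fun n => pt V (g * n)) '' (normalizer (E : Set G) : Set G)

/-- A plane. -/
def plane (V W : Subgroup G) (g : G) : Set (G ⧸ normalizer (V : Set G)) :=
  (fun n => pt V (g * n)) '' (normalizer (W : Set G) : Set G)

lemma mem_line_self {V E : Subgroup G} (g : G) : pt V g ∈ line V E g := ⟨1, one_mem _, by simp⟩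

lemma smul_line {V E : Subgroup G} (k g : G) : k • line V E g = line V E (k * g) := by
  ext x
  constructor
  · rintro ⟨-, ⟨n, hn, rfl⟩, rfl⟩
    exact ⟨n, hn, by simp only [smul_pt, mul_assoc]⟩
  · rintro ⟨n, hn, rfl⟩
    exact ⟨_, ⟨n, hn, rfl⟩, by simp only [smul_pt, mul_assoc]⟩

lemma line_mul_mem {V E : Subgroup G} (g : G) {n : G} (hn : n ∈ normalizer (E : Set G)) :
    line V E (g * n) = line V E g := by
  ext x
  constructor
  · rintro ⟨m, hm, rfl⟩; exact ⟨n * m, mul_mem hn hm, by simp only [mul_assoc]⟩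
  · rintro ⟨m, hm, rfl⟩
    exact ⟨n⁻¹ * m, mul_mem (inv_mem hn) hm, by simp only [mul_assoc, mul_inv_cancel_left]⟩

lemma mem_plane_smul {V W : Subgroup G} {k h : G} {q : G ⧸ normalizer (V : Set G)} :
    k • q ∈ plane V W h ↔ q ∈ plane V W (k⁻¹ * h) := by
  constructor
  · rintro ⟨u, hu, e⟩
    exact ⟨u, hu, by
      change pt V (k⁻¹ * h * u) = q
      rw [mul_assoc, ← smul_pt, show pt V (h * u) = k • q from e, inv_smul_smul]⟩
  · rintro ⟨u, hu, rfl⟩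
    exact ⟨u, hu, by simp only [smul_pt, mul_assoc, mul_inv_cancel_left]⟩

variable [Finite G] {s : G} {V₂ V₃ E T : Subgroup G} (d : Geo s V₂ V₃ E T)
include d

/-- A point of the plane comes from the flag stabiliser. -/
lemma split_pt {n : G} (hn : n ∈ normalizer (E : Set G)) : ∃ a ∈ P V₃ E, pt V₂ n = pt V₂ a := by
  obtain ⟨a, ha, b, hb, rfl⟩ := d.N_split hn
  exact ⟨a, ha, pt_mul_mem hb.1⟩

/-- Two points of the plane on a line of the plane. -/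
lemma plane_line {u₁ u₂ : G} (h₁ : u₁ ∈ normalizer (V₃ : Set G)) (h₂ : u₂ ∈ normalizer (V₃ : Set G)) :
    ∃ c ∈ normalizer (V₃ : Set G), pt V₂ u₁ ∈ line V₂ E c ∧ pt V₂ u₂ ∈ line V₂ E c := by
  have hv : ∀ {u : G}, u ∈ normalizer (V₃ : Set G) → u * s * u⁻¹ ∈ V₃ := fun {u} hu =>
    (mem_normalizer_iff.1 hu s).1 d.h₃.s_mem
  obtain ⟨A, hA, hA₁, hA₂⟩ := d.h₃.exists_four (hv h₁) (hv h₂)
  obtain ⟨c, hc, hcA⟩ := d.h₃.four_trans d.symm.four hA
  have key : ∀ u ∈ normalizer (V₃ : Set G), u * s * u⁻¹ ∈ A → pt V₂ u ∈ line V₂ E c := by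
    intro u hu huA
    rw [← hcA, mem_cjg] at huA
    obtain ⟨g, hg, hgs⟩ := d.h₃.four_stab_trans d.symm.four d.symm.s_four huA
      (fun e => d.h₃.s_ne (conj_eq_one_iff.1 (show u * s * u⁻¹ = 1 by
        calc u * s * u⁻¹ = c * (c⁻¹ * (u * s * u⁻¹) * c) * c⁻¹ := by group
          _ = 1 := by rw [e]; simp)))
    refine ⟨g⁻¹, d.symm.P_le_N (inv_mem hg), pt_eq.2 (d.h₂.norm (mem_centralizer_singleton_iff.2 ?_))⟩
    refine mul_inv_eq_iff_eq_mul.1 ?_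
    calc (c * g⁻¹)⁻¹ * u * s * ((c * g⁻¹)⁻¹ * u)⁻¹ = g * (c⁻¹ * (u * s * u⁻¹) * c) * g⁻¹ := by group
      _ = s := hgs
  exact ⟨c, hc, key u₁ h₁ hA₁, key u₂ h₂ hA₂⟩

/-- Two lines through the base point lie in a plane. -/
lemma line_pair {g₁ g₂ : G} (h₁ : g₁ ∈ normalizer (V₂ : Set G)) (h₂ : g₂ ∈ normalizer (V₂ : Set G)) :
    ∃ m ∈ normalizer (V₂ : Set G), ∃ l₁ l₂ : G, l₁ ∈ centralizer ({s} : Set G) ∧
      l₂ ∈ centralizer ({s} : Set G) ∧ ∃ b₁ ∈ P V₂ E, ∃ b₂ ∈ P V₂ E, g₁ = m * l₁ * b₁ ∧ g₂ = m * l₂ * b₂ := by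
  obtain ⟨v, hv1, hvA, hvB⟩ := d.h₂.four_meet (d.four.cjg_mem h₁) (d.four.cjg_mem h₂)
  obtain ⟨m, hm, hms⟩ := d.h₂.trans v ((d.four.cjg_mem h₁).1 hvA) hv1
  have key : ∀ g ∈ normalizer (V₂ : Set G), v ∈ cjg g (V₂ ⊓ E) →
      ∃ l ∈ centralizer ({s} : Set G), ∃ b ∈ P V₂ E, g = m⁻¹ * l * b := by
    intro g hg hvg
    have hs : s ∈ cjg (m * g) (V₂ ⊓ E) := by rw [cjg_mul, mem_cjg, ← hms, conj_cancel]; exact hvg
    obtain ⟨l, hl, he⟩ := d.h₂.four_trans_L (d.four.cjg_mem (mul_mem hm hg)) hs d.four d.s_four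
    refine ⟨l⁻¹, inv_mem (mem_centralizer_singleton_iff.2 hl), l * m * g, ⟨mul_mem
      (mul_mem (d.h₂.norm (mem_centralizer_singleton_iff.2 hl)) hm) hg, mem_normalizer_iff_cjg.2 ?_⟩, by group⟩
    rw [mul_assoc, cjg_mul, he]
  obtain ⟨l₁, hl₁, b₁, hb₁, e₁⟩ := key g₁ h₁ hvA
  obtain ⟨l₂, hl₂, b₂, hb₂, e₂⟩ := key g₂ h₂ hvB
  exact ⟨m⁻¹, inv_mem hm, l₁, l₂, hl₁, hl₂, b₁, hb₁, b₂, hb₂, e₁, e₂⟩

/-- Two lines through the base point with a second common point coincide. -/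
lemma line_key {g₁ g₂ n₁ n₂ : G} (h₁ : g₁ ∈ normalizer (V₂ : Set G)) (h₂ : g₂ ∈ normalizer (V₂ : Set G))
    (hn₁ : n₁ ∈ normalizer (E : Set G)) (hn₂ : n₂ ∈ normalizer (E : Set G))
    (he : pt V₂ (g₁ * n₁) = pt V₂ (g₂ * n₂)) (hne : pt V₂ (g₁ * n₁) ≠ pt V₂ 1) : g₁⁻¹ * g₂ ∈ P V₂ E := by
  obtain ⟨m, hm, l₁, l₂, hl₁, hl₂, b₁, hb₁, b₂, hb₂, rfl, rfl⟩ := d.line_pair h₁ h₂
  obtain ⟨a₁, ha₁, e₁⟩ := d.split_pt (mul_mem (d.P_le_N hb₁) hn₁)
  obtain ⟨a₂, ha₂, e₂⟩ := d.split_pt (mul_mem (d.P_le_N hb₂) hn₂)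
  have f₁ : pt V₂ (m * l₁ * b₁ * n₁) = pt V₂ (m * (l₁ * a₁)) := by
    rw [mul_assoc (m * l₁), ← smul_pt (m * l₁), e₁, smul_pt, mul_assoc]
  have f₂ : pt V₂ (m * l₂ * b₂ * n₂) = pt V₂ (m * (l₂ * a₂)) := by
    rw [mul_assoc (m * l₂), ← smul_pt (m * l₂), e₂, smul_pt, mul_assoc]
  rw [f₁, f₂, ← smul_pt, ← smul_pt m, smul_left_cancel_iff] at he
  have hl₁' := d.h₃.norm hl₁
  have hl₂' := d.h₃.norm hl₂
  have hL : (l₁ * a₁)⁻¹ * (l₂ * a₂) ∈ centralizer ({s} : Set G) :=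
    d.M_inf ▸ Subgroup.mem_inf.2 ⟨pt_eq.1 he,
      mul_mem (inv_mem (mul_mem hl₁' ha₁.1 : l₁ * a₁ ∈ normalizer (V₃ : Set G))) (mul_mem hl₂' ha₂.1)⟩
  set v := l₁ * a₁ * s * (l₁ * a₁)⁻¹ with hv
  have hv' : l₂ * a₂ * s * (l₂ * a₂)⁻¹ = v := by
    have e := mem_centralizer_singleton_iff.1 hL
    calc l₂ * a₂ * s * (l₂ * a₂)⁻¹ = l₁ * a₁ * ((l₁ * a₁)⁻¹ * (l₂ * a₂) * s) * (l₂ * a₂)⁻¹ := by group
      _ = v := by rw [e, hv]; group
  have hmemA : ∀ {l a : G}, a ∈ P V₃ E → l * a * s * (l * a)⁻¹ ∈ cjg l (V₃ ⊓ E) := fun {l a} ha => by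
    rw [mem_cjg, show l⁻¹ * (l * a * s * (l * a)⁻¹) * l = a * s * a⁻¹ by group]
    exact (mem_normalizer_iff.1 ha.2 s).1 d.symm.s_four
  have hsA : ∀ {l : G}, l ∈ centralizer ({s} : Set G) → s ∈ cjg l (V₃ ⊓ E) := fun {l} hl => by
    rw [mem_cjg, mul_assoc, ← mem_centralizer_singleton_iff.1 hl, inv_mul_cancel_left]; exact d.symm.s_four
  have hvs : v ≠ s := by
    intro e
    refine hne ?_
    rw [f₁, pt_fix (mul_mem hm (d.h₂.norm (mem_centralizer_singleton_iff.2 (mul_inv_eq_iff_eq_mul.1 e))))]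
  have hAeq : cjg l₁ (V₃ ⊓ E) = cjg l₂ (V₃ ⊓ E) :=
    (d.symm.four.cjg_mem hl₁').eq_of_two (d.symm.four.cjg_mem hl₂') d.h₃.sq (hsA hl₁) (hsA hl₂)
      (hmemA ha₁) (by have h' := hmemA (l := l₂) ha₂; rw [hv'] at h'; exact h') d.h₃.s_ne (fun e => d.h₃.s_ne (conj_eq_one_iff.1 e)) (Ne.symm hvs)
  have hT : l₁⁻¹ * l₂ ∈ T := d.symm.stab_eq ▸ Subgroup.mem_inf.2 ⟨mul_mem (inv_mem hl₁) hl₂,
    mem_normalizer_iff_cjg.2 (by rw [cjg_mul, ← hAeq, ← cjg_mul, inv_mul_cancel, cjg_one])⟩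
  rw [show (m * l₁ * b₁)⁻¹ * (m * l₂ * b₂) = b₁⁻¹ * (l₁⁻¹ * l₂) * b₂ by group]
  exact mul_mem (mul_mem (inv_mem hb₁) (d.T_le_P hT)) hb₂

/-- Two points determine their line. -/
lemma line_uniq {p q : G ⧸ normalizer (V₂ : Set G)} {g g' : G} (hpq : p ≠ q) (hp : p ∈ line V₂ E g)
    (hq : q ∈ line V₂ E g) (hp' : p ∈ line V₂ E g') (hq' : q ∈ line V₂ E g') :
    line V₂ E g = line V₂ E g' := by
  obtain ⟨n, hn, rfl⟩ := hp
  obtain ⟨m, hm, rfl⟩ := hq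
  obtain ⟨n', hn', e'⟩ := hp'
  obtain ⟨m', hm', f'⟩ := hq'
  have hg2 : (g * n)⁻¹ * (g' * n') ∈ normalizer (V₂ : Set G) := pt_eq.1 e'.symm
  have hkey := d.line_key (one_mem _) hg2 (mul_mem (inv_mem hn) hm) (mul_mem (inv_mem hn') hm')
    (by
      apply MulAction.injective (g * n)
      simp only [smul_pt, one_mul]
      rw [show g * n * (n⁻¹ * m) = g * m by group,
        show g * n * ((g * n)⁻¹ * (g' * n') * (n'⁻¹ * m')) = g' * m' by group]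
      exact f'.symm)
    (by
      intro e
      apply hpq
      have e2 := congrArg (fun x => (g * n) • x) e
      simp only [smul_pt, one_mul, mul_one, show g * n * (n⁻¹ * m) = g * m by group] at e2
      exact e2.symm)
  rw [inv_one, one_mul] at hkey
  have hN : g⁻¹ * g' ∈ normalizer (E : Set G) := by
    rw [show g⁻¹ * g' = n * ((g * n)⁻¹ * (g' * n')) * n'⁻¹ by group]
    exact mul_mem (mul_mem hn (d.P_le_N hkey)) (inv_mem hn')
  rw [← line_mul_mem g hN, mul_inv_cancel_left]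

/-- Collinearity. -/
def Col (_d : Geo s V₂ V₃ E T) (p q : G ⧸ normalizer (V₂ : Set G)) : Prop :=
  ∃ g, p ∈ line V₂ E g ∧ q ∈ line V₂ E g

omit [Finite G] in
lemma col_smul (k : G) {p q : G ⧸ normalizer (V₂ : Set G)} (h : d.Col p q) : d.Col (k • p) (k • q) := by
  obtain ⟨g, hp, hq⟩ := h
  exact ⟨k * g, smul_line (V := V₂) (E := E) k g ▸ Set.smul_mem_smul_set hp,
    smul_line (V := V₂) (E := E) k g ▸ Set.smul_mem_smul_set hq⟩

omit [Finite G] in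
lemma col_symm {p q : G ⧸ normalizer (V₂ : Set G)} (h : d.Col p q) : d.Col q p := by
  obtain ⟨g, hp, hq⟩ := h
  exact ⟨g, hq, hp⟩

lemma col_trans {p q r : G ⧸ normalizer (V₂ : Set G)} (h₁ : d.Col p q) (h₂ : d.Col q r) : d.Col p r := by
  obtain ⟨k, rfl⟩ := exists_pt q
  obtain ⟨g₁, ⟨n₁, hn₁, rfl⟩, ⟨n, hn, e⟩⟩ := h₁
  obtain ⟨g₂, ⟨n', hn', e'⟩, ⟨n₂, hn₂, rfl⟩⟩ := h₂
  obtain ⟨m, hm, l₁, l₂, hl₁, hl₂, b₁, hb₁, b₂, hb₂, f₁, f₂⟩ :=
    d.line_pair (pt_eq.1 e.symm) (pt_eq.1 e'.symm)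
  obtain ⟨a₁, ha₁, e₁⟩ := d.split_pt (mul_mem (d.P_le_N hb₁) (mul_mem (inv_mem hn) hn₁))
  obtain ⟨a₂, ha₂, e₂⟩ := d.split_pt (mul_mem (d.P_le_N hb₂) (mul_mem (inv_mem hn') hn₂))
  obtain ⟨c, -, hc₁, hc₂⟩ := d.plane_line (mul_mem (d.h₃.norm hl₁) ha₁.1) (mul_mem (d.h₃.norm hl₂) ha₂.1)
  have g₁' : (k * m) • pt V₂ (l₁ * a₁) = pt V₂ (g₁ * n₁) := by
    rw [← smul_pt l₁ a₁, ← e₁, smul_pt, smul_pt,
      show k * m * (l₁ * (b₁ * (n⁻¹ * n₁))) = k * (m * l₁ * b₁) * (n⁻¹ * n₁) by group, ← f₁]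
    congr 1; group
  have g₂' : (k * m) • pt V₂ (l₂ * a₂) = pt V₂ (g₂ * n₂) := by
    rw [← smul_pt l₂ a₂, ← e₂, smul_pt, smul_pt,
      show k * m * (l₂ * (b₂ * (n'⁻¹ * n₂))) = k * (m * l₂ * b₂) * (n'⁻¹ * n₂) by group, ← f₂]
    congr 1; group
  show d.Col (pt V₂ (g₁ * n₁)) (pt V₂ (g₂ * n₂))
  rw [← g₁', ← g₂']
  exact d.col_smul (k * m) ⟨c, hc₁, hc₂⟩

/-- The component of the base point. -/
def Omega (_d : Geo s V₂ V₃ E T) : Set (G ⧸ normalizer (V₂ : Set G)) :=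
  {q | _d.Col (pt V₂ 1) q}

/-- The subgroup generated by the point and plane stabilisers. -/
def H (_d : Geo s V₂ V₃ E T) : Subgroup G := normalizer (V₂ : Set G) ⊔ normalizer (V₃ : Set G)

lemma N_le_H : normalizer (E : Set G) ≤ d.H := by
  intro n hn
  obtain ⟨a, ha, b, hb, rfl⟩ := d.N_split hn
  exact mul_mem (mem_sup_right ha.1) (mem_sup_left hb.1)

lemma mem_Omega {h : G} (hh : h ∈ d.H) : pt V₂ h ∈ d.Omega := by
  change h ∈ normalizer (V₂ : Set G) ⊔ normalizer (V₃ : Set G) at hh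
  rw [sup_eq_closure] at hh
  induction hh using closure_induction with
  | mem x hx =>
    rcases hx with hx | hx
    · rw [pt_fix hx]; exact ⟨1, mem_line_self 1, mem_line_self 1⟩
    · obtain ⟨c, -, h1, h2⟩ := d.plane_line (one_mem _) hx
      exact ⟨c, h1, h2⟩
  | one => exact ⟨1, mem_line_self 1, mem_line_self 1⟩
  | mul x y _ _ hx hy =>
    refine d.col_trans hx ?_
    have := d.col_smul x hy
    rwa [smul_pt, smul_pt, mul_one] at this
  | inv x _ hx =>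
    have := d.col_smul x⁻¹ hx
    rw [smul_pt, smul_pt, mul_one, inv_mul_cancel] at this
    exact d.col_symm this

lemma line_through {g : G} (hg : pt V₂ 1 ∈ line V₂ E g) :
    ∃ g' ∈ normalizer (V₂ : Set G), line V₂ E g = line V₂ E g' := by
  obtain ⟨n, hn, e⟩ := hg
  refine ⟨g * n, ?_, (line_mul_mem g hn).symm⟩
  simpa using pt_eq.1 e.symm

lemma exists_rep {q : G ⧸ normalizer (V₂ : Set G)} (hq : q ∈ d.Omega) : ∃ h ∈ d.H, q = pt V₂ h := by
  obtain ⟨g, h1, h2⟩ := hq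
  obtain ⟨g', hg', e⟩ := d.line_through h1
  rw [e] at h2
  obtain ⟨n, hn, rfl⟩ := h2
  exact ⟨g' * n, mul_mem (mem_sup_left hg') (d.N_le_H hn), rfl⟩

lemma card_line (g : G) : (line V₂ E g).ncard = 3 := by
  have e : line V₂ E g = g • line V₂ E 1 := by rw [smul_line, mul_one]
  rw [e, Set.ncard_smul_set]
  have horb : line V₂ E 1 = MulAction.orbit (normalizer (E : Set G)) (pt V₂ 1) := by
    ext x
    constructor
    · rintro ⟨n, hn, rfl⟩; exact ⟨⟨n, hn⟩, by change n • pt V₂ 1 = _; simp [smul_pt]⟩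
    · rintro ⟨n, rfl⟩; exact ⟨n, n.2, by change _ = (n : G) • pt V₂ 1; simp [smul_pt]⟩
  have hstab : Nat.card (MulAction.stabilizer (normalizer (E : Set G)) (pt V₂ 1)) = 192 := by
    rw [← d.card_P]
    refine Nat.card_congr ⟨fun n => ⟨(n : normalizer (E : Set G)), d.N_inf_le ⟨(n : normalizer (E : Set G)).2, ?_⟩⟩,
      fun b => ⟨⟨b, d.P_le_N b.2⟩, ?_⟩, fun _ => rfl, fun _ => rfl⟩
    · simpa using pt_eq.1 (show pt V₂ ((n : normalizer (E : Set G)) : G) = pt V₂ 1 by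
        have e0 : ((n : normalizer (E : Set G)) : G) • pt V₂ 1 = pt V₂ 1 := MulAction.mem_stabilizer_iff.1 n.2
        simpa [smul_pt] using e0)
    · rw [MulAction.mem_stabilizer_iff]
      change (b : G) • pt V₂ 1 = pt V₂ 1
      rw [smul_pt, mul_one]
      exact pt_fix b.2.1
  have h := card_mul_index (MulAction.stabilizer (normalizer (E : Set G)) (pt V₂ 1))
  rw [hstab, MulAction.index_stabilizer, ← horb, d.card_N] at h
  omega

lemma card_plane (g : G) : (plane V₂ V₃ g).ncard = 7 := by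
  have e : plane V₂ V₃ g = g • plane V₂ V₃ 1 := by
    ext x
    rw [Set.mem_smul_set_iff_inv_smul_mem, mem_plane_smul, inv_inv, mul_one]
  rw [e, Set.ncard_smul_set]
  have horb : plane V₂ V₃ 1 = MulAction.orbit (normalizer (V₃ : Set G)) (pt V₂ 1) := by
    ext x
    constructor
    · rintro ⟨n, hn, rfl⟩; exact ⟨⟨n, hn⟩, by change n • pt V₂ 1 = _; simp [smul_pt]⟩
    · rintro ⟨n, rfl⟩; exact ⟨n, n.2, by change _ = (n : G) • pt V₂ 1; simp [smul_pt]⟩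
  have hstab : Nat.card (MulAction.stabilizer (normalizer (V₃ : Set G)) (pt V₂ 1)) = 192 := by
    rw [← d.h₂.cardL]
    refine Nat.card_congr ⟨fun n => ⟨(n : normalizer (V₃ : Set G)), d.M_inf ▸ ⟨?_, (n : normalizer (V₃ : Set G)).2⟩⟩,
      fun b => ⟨⟨b, d.h₃.norm b.2⟩, ?_⟩, fun _ => rfl, fun _ => rfl⟩
    · simpa using pt_eq.1 (show pt V₂ ((n : normalizer (V₃ : Set G)) : G) = pt V₂ 1 by
        have e0 : ((n : normalizer (V₃ : Set G)) : G) • pt V₂ 1 = pt V₂ 1 := MulAction.mem_stabilizer_iff.1 n.2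
        simpa [smul_pt] using e0)
    · rw [MulAction.mem_stabilizer_iff]
      change (b : G) • pt V₂ 1 = pt V₂ 1
      rw [smul_pt, mul_one]
      exact pt_fix (d.h₂.norm b.2)
  have h := card_mul_index (MulAction.stabilizer (normalizer (V₃ : Set G)) (pt V₂ 1))
  rw [hstab, MulAction.index_stabilizer, ← horb, d.h₃.card_M] at h
  omega

/-- The lines through the base point. -/
def Lines (_d : Geo s V₂ V₃ E T) : Set (Set (G ⧸ normalizer (V₂ : Set G))) :=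
  line V₂ E '' (normalizer (V₂ : Set G) : Set G)

lemma stab_line {g : G} (hg : g ∈ normalizer (V₂ : Set G)) (h : line V₂ E g = line V₂ E 1) : g ∈ P V₂ E := by
  obtain ⟨q, hq, hq1⟩ := Set.exists_ne_of_one_lt_ncard (by rw [d.card_line 1]; norm_num : 1 < (line V₂ E 1).ncard)
    (pt V₂ 1)
  obtain ⟨n, hn, rfl⟩ := hq
  obtain ⟨n', hn', e⟩ := (h ▸ (⟨n, hn, rfl⟩ : _ ∈ line V₂ E 1) : pt V₂ (1 * n) ∈ line V₂ E g)
  simpa using d.line_key (one_mem _) hg hn hn' e.symm hq1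

lemma card_Lines : d.Lines.ncard = 7 := by
  have horb : d.Lines = MulAction.orbit (normalizer (V₂ : Set G)) (line V₂ E 1) := by
    ext x
    constructor
    · rintro ⟨g, hg, rfl⟩; exact ⟨⟨g, hg⟩, by change g • line V₂ E 1 = _; simp [smul_line]⟩
    · rintro ⟨g, rfl⟩; exact ⟨g, g.2, by change _ = (g : G) • line V₂ E 1; simp [smul_line]⟩
  have hstab : Nat.card (MulAction.stabilizer (normalizer (V₂ : Set G)) (line V₂ E 1)) = 192 := by
    rw [← d.card_P]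
    refine Nat.card_congr ⟨fun n => ⟨(n : normalizer (V₂ : Set G)), d.stab_line (n : normalizer (V₂ : Set G)).2 ?_⟩,
      fun b => ⟨⟨b, b.2.1⟩, ?_⟩, fun _ => rfl, fun _ => rfl⟩
    · have e0 : ((n : normalizer (V₂ : Set G)) : G) • line V₂ E 1 = line V₂ E 1 :=
        MulAction.mem_stabilizer_iff.1 n.2
      simpa [smul_line] using e0
    · rw [MulAction.mem_stabilizer_iff]
      change (b : G) • line V₂ E 1 = line V₂ E 1
      rw [smul_line, mul_one]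
      simpa using line_mul_mem (V := V₂) (E := E) 1 (d.P_le_N b.2)
  have h := card_mul_index (MulAction.stabilizer (normalizer (V₂ : Set G)) (line V₂ E 1))
  rw [hstab, MulAction.index_stabilizer, d.h₂.card_M] at h
  rw [horb]
  exact Nat.eq_of_mul_eq_mul_left (show 0 < 192 by norm_num) (h.trans (by norm_num))

/-- There are fifteen points. -/
lemma card_Omega : d.Omega.ncard = 15 := by
  classical
  haveI := Fintype.ofFinite (G ⧸ normalizer (V₂ : Set G))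
  have hp0 : ∀ l ∈ d.Lines, pt V₂ 1 ∈ l := by
    rintro _ ⟨g, hg, rfl⟩
    exact ⟨1, one_mem _, by simpa using pt_fix hg⟩
  have hU : d.Omega = insert (pt V₂ 1) (⋃ l ∈ d.Lines, l \ {pt V₂ 1}) := by
    ext q
    constructor
    · rintro ⟨g, h1, h2⟩
      by_cases hq : q = pt V₂ 1
      · exact Or.inl hq
      obtain ⟨g', hg', e⟩ := d.line_through h1
      exact Or.inr (Set.mem_biUnion ⟨g', hg', rfl⟩ ⟨e ▸ h2, hq⟩)
    · rintro (rfl | hq)
      · exact ⟨1, mem_line_self 1, mem_line_self 1⟩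
      · obtain ⟨l, ⟨g, hg, rfl⟩, hql, -⟩ := Set.mem_iUnion₂.1 hq
        exact ⟨g, hp0 _ ⟨g, hg, rfl⟩, hql⟩
  rw [hU, Set.ncard_insert_of_notMem (by simp) (Set.toFinite _)]
  have hfin : d.Lines.Finite := Set.toFinite _
  have hc : (⋃ l ∈ d.Lines, l \ {pt V₂ 1}) =
      ((hfin.toFinset.biUnion fun l => (l \ {pt V₂ 1}).toFinset : Finset _) : Set _) := by ext; simp
  rw [hc, Set.ncard_coe_finset, Finset.card_biUnion]
  · rw [Finset.sum_const_nat (m := 2), ← Set.ncard_eq_toFinset_card _ hfin, d.card_Lines]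
    intro l hl
    rw [Set.toFinset_card, ← Nat.card_eq_fintype_card, Nat.card_coe_set_eq]
    obtain ⟨g, hg, rfl⟩ := hfin.mem_toFinset.1 hl
    rw [Set.ncard_sdiff (Set.singleton_subset_iff.2 (hp0 _ ⟨g, hg, rfl⟩)) (Set.toFinite _),
      Set.ncard_singleton, d.card_line]
  · intro l hl l' hl' hne
    rw [Function.onFun, Finset.disjoint_left]
    intro q hq hq'
    rw [Set.mem_toFinset] at hq hq'
    obtain ⟨g, hg, rfl⟩ := hfin.mem_toFinset.1 hl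
    obtain ⟨g', hg', rfl⟩ := hfin.mem_toFinset.1 hl'
    exact hne (d.line_uniq (fun e => hq.2 e.symm) (hp0 _ ⟨g, hg, rfl⟩) hq.1 (hp0 _ ⟨g', hg', rfl⟩) hq'.1)

/-- A line with two points in a plane lies in it. -/
lemma line_in_plane {g h : G} {p q : G ⧸ normalizer (V₂ : Set G)} (hpq : p ≠ q) (hp : p ∈ line V₂ E g)
    (hq : q ∈ line V₂ E g) (hp' : p ∈ plane V₂ V₃ h) (hq' : q ∈ plane V₂ V₃ h) :
    line V₂ E g ⊆ plane V₂ V₃ h := by
  obtain ⟨u₁, hu₁, e₁⟩ := hp'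
  obtain ⟨u₂, hu₂, e₂⟩ := hq'
  obtain ⟨c, hc, hc₁, hc₂⟩ := d.plane_line hu₁ hu₂
  have hp'' : p ∈ line V₂ E (h * c) := by
    rw [← smul_line, ← e₁]; exact ⟨_, hc₁, smul_pt _ _⟩
  have hq'' : q ∈ line V₂ E (h * c) := by
    rw [← smul_line, ← e₂]; exact ⟨_, hc₂, smul_pt _ _⟩
  rw [d.line_uniq hpq hp hq hp'' hq'']
  rintro _ ⟨n, hn, rfl⟩
  obtain ⟨a, ha, e⟩ := d.split_pt hn
  exact ⟨c * a, mul_mem hc ha.1, by
    change pt V₂ (h * (c * a)) = pt V₂ (h * c * n)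
    rw [← smul_pt (h * c) n, e, smul_pt, mul_assoc]⟩

/-- Every line through the base point meets every plane. -/
lemma meets {h g : G} (hh : h ∈ d.H) (hg : g ∈ normalizer (V₂ : Set G)) :
    ∃ x ∈ line V₂ E g, x ∈ plane V₂ V₃ h := by
  classical
  have hp0 : pt V₂ 1 ∈ line V₂ E g := ⟨1, one_mem _, by simpa using pt_fix hg⟩
  by_cases hπ : pt V₂ 1 ∈ plane V₂ V₃ h
  · exact ⟨_, hp0, hπ⟩
  have hcol : ∀ x : plane V₂ V₃ h, ∃ l ∈ d.Lines, (x : G ⧸ normalizer (V₂ : Set G)) ∈ l ∧ pt V₂ 1 ∈ l := by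
    rintro ⟨x, u, hu, rfl⟩
    obtain ⟨g', h1, h2⟩ := d.mem_Omega (mul_mem hh (mem_sup_right hu))
    obtain ⟨g'', hg'', e⟩ := d.line_through h1
    exact ⟨_, ⟨g'', hg'', rfl⟩, e ▸ h2, e ▸ h1⟩
  choose F hF using hcol
  have hinj : Function.Injective fun x => (⟨F x, (hF x).1⟩ : d.Lines) := by
    intro x y e
    have e' : F x = F y := congrArg Subtype.val e
    by_contra hne
    obtain ⟨g', -, hg'⟩ := (hF x).1
    exact hπ (d.line_in_plane (g := g') (fun e2 => hne (Subtype.ext e2)) (hg' ▸ (hF x).2.1)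
      (hg' ▸ e' ▸ (hF y).2.1) x.2 y.2 (hg' ▸ (hF x).2.2))
  have hc : Nat.card d.Lines ≤ Nat.card (plane V₂ V₃ h) := by
    rw [Nat.card_coe_set_eq, Nat.card_coe_set_eq, d.card_Lines, d.card_plane]
  obtain ⟨x, hx⟩ := (hinj.bijective_of_nat_card_le hc).2 ⟨line V₂ E g, g, hg, rfl⟩
  have e : F x = line V₂ E g := congrArg Subtype.val hx
  exact ⟨x, by rw [← e]; exact (hF x).2.1, x.2⟩

lemma card_H : Nat.card d.H = 20160 := by
  have horb : d.Omega = MulAction.orbit d.H (pt V₂ 1) := by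
    ext q
    constructor
    · intro hq
      obtain ⟨h, hh, rfl⟩ := d.exists_rep hq
      exact ⟨⟨h, hh⟩, by change h • pt V₂ 1 = _; simp [smul_pt]⟩
    · rintro ⟨h, rfl⟩
      change (h : G) • pt V₂ 1 ∈ d.Omega
      simpa [smul_pt] using d.mem_Omega h.2
  have hstab : Nat.card (MulAction.stabilizer d.H (pt V₂ 1)) = 1344 := by
    rw [← d.h₂.card_M]
    refine Nat.card_congr ⟨fun n => ⟨(n : d.H), ?_⟩, fun b => ⟨⟨b, mem_sup_left b.2⟩, ?_⟩,
      fun _ => rfl, fun _ => rfl⟩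
    · simpa using pt_eq.1 (show pt V₂ ((n : d.H) : G) = pt V₂ 1 by
        have e0 : ((n : d.H) : G) • pt V₂ 1 = pt V₂ 1 := MulAction.mem_stabilizer_iff.1 n.2
        simpa [smul_pt] using e0)
    · rw [MulAction.mem_stabilizer_iff]
      change (b : G) • pt V₂ 1 = pt V₂ 1
      rw [smul_pt, mul_one]
      exact pt_fix b.2
  rw [← card_mul_index (MulAction.stabilizer d.H (pt V₂ 1)), hstab, MulAction.index_stabilizer, ← horb,
    d.card_Omega]

end Geo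

end Cfsg.Agent.PGroups.SmallExtraspecial
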