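import Cfsg.Agent.PGroups.SmallExtraspecial.Points
import Cfsg.Agent.H27.EightPoints
import Mathlib.LinearAlgebra.Matrix.GeneralLinearGroup.Card

/-!
The fifteen points form, with zero, a space of dimension four over the field with two elements.
-/

set_option autoImplicit false

namespace Cfsg.Agent.PGroups.SmallExtraspecial

open Subgroup

variable {G : Type*} [Group G] [Finite G]

/-- The general linear group of degree four over the field with two elements is alternating of degree 8. -/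
theorem gl_four_two :
    Nonempty (Matrix.GeneralLinearGroup (Fin 4) (ZMod 2) ≃* alternatingGroup (Fin 8)) := by
  obtain ⟨e⟩ := H27.EightPoints.psl_four_two
  have hC : Subgroup.center (Matrix.SpecialLinearGroup (Fin 4) (ZMod 2)) = ⊥ := by
    refine Subgroup.card_eq_one.1 ?_
    rw [Cfsg.Agent.Linear.card_center_SL, ZMod.card]; rfl
  let f := (QuotientGroup.mk' (Subgroup.center (Matrix.SpecialLinearGroup (Fin 4) (ZMod 2))))
  have hf : Function.Bijective f := ⟨(MonoidHom.ker_eq_bot_iff f).1 (by rw [QuotientGroup.ker_mk', hC]),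
    QuotientGroup.mk'_surjective _⟩
  let g : Matrix.SpecialLinearGroup (Fin 4) (ZMod 2) →* Matrix.GeneralLinearGroup (Fin 4) (ZMod 2) :=
    Matrix.SpecialLinearGroup.toGL
  have key : ∀ x : ZMod 2, x ≠ 0 → x = 1 := by decide
  have hinj : Function.Injective g := by
    intro a b h
    have h' := congrArg Units.val h
    rw [Matrix.SpecialLinearGroup.coe_GL_coe_matrix, Matrix.SpecialLinearGroup.coe_GL_coe_matrix] at h'
    exact Subtype.ext h'
  have hg : Function.Bijective g := by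
    refine ⟨hinj, fun M => ?_⟩
    have hdet : Matrix.det (Units.val M) = 1 := key _ (M.isUnit.map Matrix.detMonoidHom).ne_zero
    exact ⟨⟨Units.val M, hdet⟩, Units.ext (Matrix.SpecialLinearGroup.coe_GL_coe_matrix _)⟩
  exact ⟨((MulEquiv.ofBijective g hg).symm.trans (MulEquiv.ofBijective f hf)).trans e⟩

namespace Geo

variable {s : G} {V₂ V₃ E T : Subgroup G} (d : Geo s V₂ V₃ E T)
include d

open scoped Classical in
/-- The linear form vector of a point. -/
noncomputable def vec (q : G ⧸ normalizer (V₂ : Set G)) : d.H → ZMod 2 :=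
  fun h => if q ∈ plane V₂ V₃ (h : G) then 0 else 1

lemma vec_ne_zero {q : G ⧸ normalizer (V₂ : Set G)} (hq : q ∈ d.Omega) : d.vec q ≠ 0 := by
  obtain ⟨k, hk, rfl⟩ := d.exists_rep hq
  obtain ⟨r, hr, hr'⟩ := Set.exists_mem_notMem_of_ncard_lt_ncard
    (by rw [d.card_plane 1, d.card_Omega]; norm_num : (plane V₂ V₃ 1).ncard < d.Omega.ncard)
  obtain ⟨k', hk', rfl⟩ := d.exists_rep hr
  intro h0
  have h := congrFun h0 ⟨k * k'⁻¹, mul_mem hk (inv_mem hk')⟩
  have hnot : pt V₂ k ∉ plane V₂ V₃ (k * k'⁻¹) := by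
    intro hc
    rw [← mul_one k, ← smul_pt, mem_plane_smul] at hc
    have e : k⁻¹ * (k * 1 * k'⁻¹) = k'⁻¹ * 1 := by group
    rw [e, ← mem_plane_smul, smul_pt, mul_one] at hc
    exact hr' hc
  simp [vec, hnot] at h

lemma omega_smul {k : G} (hk : k ∈ d.H) {q : G ⧸ normalizer (V₂ : Set G)} (hq : q ∈ d.Omega) :
    k • q ∈ d.Omega := by
  obtain ⟨h, hh, rfl⟩ := d.exists_rep hq
  rw [smul_pt]; exact d.mem_Omega (mul_mem hk hh)

lemma col_of_mem {p q : G ⧸ normalizer (V₂ : Set G)} (hp : p ∈ d.Omega) (hq : q ∈ d.Omega) :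
    ∃ g ∈ d.H, p ∈ line V₂ E g ∧ q ∈ line V₂ E g := by
  obtain ⟨k, hk, rfl⟩ := d.exists_rep hp
  obtain ⟨g, h1, h2⟩ := d.omega_smul (inv_mem hk) hq
  obtain ⟨g', hg', e⟩ := d.line_through h1
  refine ⟨k * g', mul_mem hk (mem_sup_left hg'), ?_, ?_⟩
  · rw [← smul_line]
    exact ⟨pt V₂ 1, e ▸ h1, by simp [smul_pt]⟩
  · rw [← smul_line]
    exact ⟨k⁻¹ • q, e ▸ h2, smul_inv_smul k q⟩

/-- A line meets a plane in one point or in three. -/
lemma exists_third {p q : G ⧸ normalizer (V₂ : Set G)} (hp : p ∈ d.Omega) (hq : q ∈ d.Omega) (hpq : p ≠ q) :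
    ∃ r ∈ d.Omega, d.vec p + d.vec q = d.vec r := by
  obtain ⟨g, hg, hpg, hqg⟩ := d.col_of_mem hp hq
  obtain ⟨r, hrg, hr⟩ := Set.exists_mem_notMem_of_ncard_lt_ncard
    (by rw [d.card_line g, Set.ncard_pair hpq]; norm_num :
      ({p, q} : Set (G ⧸ normalizer (V₂ : Set G))).ncard < (line V₂ E g).ncard)
  simp only [Set.mem_insert_iff, Set.mem_singleton_iff, not_or] at hr
  have hmem : ∀ x ∈ line V₂ E g, x = p ∨ x = q ∨ x = r := by
    intro x hx
    by_contra hne
    push Not at hne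
    have hsub : ({x, p, q, r} : Set (G ⧸ normalizer (V₂ : Set G))) ⊆ line V₂ E g := by
      rintro z (rfl | rfl | rfl | rfl) <;> assumption
    have := Set.ncard_le_ncard hsub (Set.toFinite _)
    rw [d.card_line, Set.ncard_insert_of_notMem (by simp [hne]), Set.ncard_insert_of_notMem (by
      simp [hpq, Ne.symm hr.1]), Set.ncard_pair (Ne.symm hr.2)] at this
    omega
  obtain ⟨n, hn, rfl⟩ := hrg
  refine ⟨_, d.mem_Omega (mul_mem hg (d.N_le_H hn)), funext fun ⟨h, hh⟩ => ?_⟩
  -- some point of the line is in the plane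
  have hmeet : ∃ x ∈ line V₂ E g, x ∈ plane V₂ V₃ h := by
    obtain ⟨x, hx, hx'⟩ := d.meets (h := g⁻¹ * h) (g := 1) (mul_mem (inv_mem hg) hh) (one_mem _)
    refine ⟨g • x, ?_, mem_plane_smul.2 hx'⟩
    rw [← mul_one g, ← smul_line, mul_one]
    exact Set.smul_mem_smul_set hx
  obtain ⟨x, hx, hxh⟩ := hmeet
  have hrg : pt V₂ (g * n) ∈ line V₂ E g := ⟨n, hn, rfl⟩
  have h2 : (1 : ZMod 2) + 1 = 0 := by decide
  show d.vec p ⟨h, hh⟩ + d.vec q ⟨h, hh⟩ = d.vec _ ⟨h, hh⟩
  simp only [vec]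
  by_cases a : p ∈ plane V₂ V₃ h <;> by_cases b : q ∈ plane V₂ V₃ h
  · simp [a, b, d.line_in_plane hpq hpg hqg a b hrg]
  · have c : pt V₂ (g * n) ∉ plane V₂ V₃ h := fun c =>
      b (d.line_in_plane (Ne.symm hr.1) hpg hrg a c hqg)
    simp [a, b, c]
  · have c : pt V₂ (g * n) ∉ plane V₂ V₃ h := fun c =>
      a (d.line_in_plane (Ne.symm hr.2) hqg hrg b c hpg)
    simp [a, b, c]
  · have c : pt V₂ (g * n) ∈ plane V₂ V₃ h := by
      rcases hmem x hx with rfl | rfl | rfl
      exacts [absurd hxh a, absurd hxh b, hxh]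
    simp [a, b, c, h2]

lemma vec_inj {p q : G ⧸ normalizer (V₂ : Set G)} (hp : p ∈ d.Omega) (hq : q ∈ d.Omega)
    (e : d.vec p = d.vec q) : p = q := by
  by_contra hpq
  obtain ⟨r, hr, h⟩ := d.exists_third hp hq hpq
  refine d.vec_ne_zero hr ?_
  rw [← h, e]
  funext x
  exact (by decide : ∀ a : ZMod 2, a + a = 0) _

/-- The space. -/
noncomputable def space : Submodule (ZMod 2) (d.H → ZMod 2) where
  carrier := insert 0 (d.vec '' d.Omega)
  zero_mem' := Set.mem_insert _ _
  add_mem' := by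
    rintro a b (rfl | ⟨p, hp, rfl⟩) (rfl | ⟨q, hq, rfl⟩)
    · simp
    · rw [zero_add]; exact Or.inr ⟨q, hq, rfl⟩
    · rw [add_zero]; exact Or.inr ⟨p, hp, rfl⟩
    · by_cases hpq : p = q
      · subst hpq
        exact Or.inl (funext fun x => (by decide : ∀ a : ZMod 2, a + a = 0) _)
      · obtain ⟨r, hr, h⟩ := d.exists_third hp hq hpq
        exact Or.inr ⟨r, hr, h.symm⟩
  smul_mem' := by
    intro c x hx
    rcases (by decide : ∀ a : ZMod 2, a = 0 ∨ a = 1) c with rfl | rfl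
    · rw [zero_smul]; exact Set.mem_insert _ _
    · rwa [one_smul]

lemma card_space : Nat.card d.space = 16 := by
  change Nat.card (insert 0 (d.vec '' d.Omega) : Set (d.H → ZMod 2)) = 16
  rw [Nat.card_coe_set_eq, Set.ncard_insert_of_notMem ?_ (Set.toFinite _),
    Set.InjOn.ncard_image (fun p hp q hq e => d.vec_inj hp hq e), d.card_Omega]
  rintro ⟨p, hp, e⟩
  exact d.vec_ne_zero hp e

lemma vec_smul (k : d.H) (q : G ⧸ normalizer (V₂ : Set G)) :
    d.vec ((k : G) • q) = fun h => d.vec q (k⁻¹ * h) := by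
  funext h
  have e : (k : G) • q ∈ plane V₂ V₃ (h : G) ↔ q ∈ plane V₂ V₃ ((k⁻¹ * h : d.H) : G) := mem_plane_smul
  classical
  by_cases hc : (k : G) • q ∈ plane V₂ V₃ (h : G)
  · simp only [vec, if_pos hc, if_pos (e.1 hc)]
  · simp only [vec, if_neg hc, if_neg (fun c => hc (e.2 c))]

/-- Translation of functions. -/
noncomputable def act (k : d.H) : (d.H → ZMod 2) →ₗ[ZMod 2] (d.H → ZMod 2) :=
  LinearMap.funLeft (ZMod 2) (ZMod 2) fun h => k⁻¹ * h

lemma act_mem (k : d.H) {x : d.H → ZMod 2} (hx : x ∈ d.space) : d.act k x ∈ d.space := by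
  rcases hx with rfl | ⟨p, hp, rfl⟩
  · rw [map_zero]; exact zero_mem _
  · exact Or.inr ⟨(k : G) • p, d.omega_smul k.2 hp, d.vec_smul k p⟩

/-- The linear action on the space. -/
noncomputable def repr : d.H →* (d.space →ₗ[ZMod 2] d.space) where
  toFun k := (d.act k).restrict fun _ hx => d.act_mem k hx
  map_one' := LinearMap.ext fun x => Subtype.ext (funext fun h => by simp [act])
  map_mul' k l := LinearMap.ext fun x => Subtype.ext (funext fun h => by
    simp [act, mul_assoc, Module.End.mul_eq_comp])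

lemma repr_inj {k : d.H} (hk : d.repr k = 1) : k = 1 := by
  -- the kernel
  let K : Subgroup d.H := d.repr.toHomUnits.ker
  have hKmem : ∀ a : d.H, a ∈ K ↔ d.repr a = 1 := fun a =>
    ⟨fun h => congrArg Units.val (MonoidHom.mem_ker.1 h), fun h => MonoidHom.mem_ker.2 (Units.ext h)⟩
  have hfix : ∀ a : d.H, d.repr a = 1 → ∀ q ∈ d.Omega, (a : G) • q = q := by
    intro a ha q hq
    have h := congrArg Subtype.val (LinearMap.congr_fun ha ⟨d.vec q, Or.inr ⟨q, hq, rfl⟩⟩)
    exact d.vec_inj (d.omega_smul a.2 hq) hq ((d.vec_smul a q).trans h)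
  have hV : ∀ a : d.H, d.repr a = 1 → (a : G) ∈ V₂ := by
    intro a ha
    have h0 : pt V₂ (a : G) = pt V₂ 1 := by
      have := hfix a ha _ (d.mem_Omega (one_mem _))
      rwa [smul_pt, mul_one] at this
    have haM : (a : G) ∈ normalizer (V₂ : Set G) := by
      refine inv_mem_iff.1 ?_
      simpa using pt_eq.1 h0
    have hfour : ∀ A : Subgroup G, IsFour V₂ A → cjg (a : G) A = A := by
      intro A hA
      obtain ⟨g, hg, hgA⟩ := d.h₂.four_trans d.four hA
      have hline : line V₂ E ((a : G) * g) = line V₂ E g := by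
        rw [← smul_line]
        ext x
        constructor
        · rintro ⟨-, ⟨n, hn, rfl⟩, rfl⟩
          exact ⟨n, hn, (hfix a ha _ (d.mem_Omega (mul_mem (mem_sup_left hg) (d.N_le_H hn)))).symm⟩
        · rintro ⟨n, hn, rfl⟩
          exact ⟨_, ⟨n, hn, rfl⟩, hfix a ha _ (d.mem_Omega (mul_mem (mem_sup_left hg) (d.N_le_H hn)))⟩
      have h1 : line V₂ E (g⁻¹ * a * g) = line V₂ E 1 := by
        rw [mul_assoc, ← smul_line, hline, smul_line, inv_mul_cancel]
      have h2 := mem_normalizer_iff_cjg.1 (d.stab_line (mul_mem (mul_mem (inv_mem hg) haM) hg) h1).2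
      rw [← hgA]
      calc cjg (a : G) (cjg g (V₂ ⊓ E)) = cjg g (cjg (g⁻¹ * a * g) (V₂ ⊓ E)) := by
            rw [← cjg_mul, ← cjg_mul]; congr 1; group
        _ = cjg g (V₂ ⊓ E) := by rw [h2]
    refine d.h₂.self _ fun v hv => ?_
    by_cases hv1 : v = 1
    · subst hv1; simp
    obtain ⟨A, hA, hvA, -⟩ := d.h₂.exists_four hv (one_mem _)
    obtain ⟨u, hu, huA⟩ : ∃ u ∈ V₂, u ∉ A := by
      by_contra hne
      push Not at hne
      have := card_le_of_le (hne : V₂ ≤ A)
      rw [hA.2, d.h₂.card] at this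
      omega
    obtain ⟨B, hB, hvB, huB⟩ := d.h₂.exists_four hv hu
    have hw : ∀ {X : Subgroup G}, IsFour V₂ X → v ∈ X → (a : G) * v * (a : G)⁻¹ ∈ X := fun {X} hX hvX => by
      rw [← hfour X hX, mem_cjg, conj_cancel]; exact hvX
    by_contra hne
    refine huA ?_
    have hne' : (a : G) * v * (a : G)⁻¹ ≠ v := fun e => hne (mul_inv_eq_iff_eq_mul.1 e)
    rw [hA.eq_of_two hB d.h₂.sq hvA hvB (hw hA hvA) (hw hB hvB) hv1
      (fun e => hv1 (conj_eq_one_iff.1 e)) (Ne.symm hne')]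
    exact huB
  by_contra hk1
  obtain ⟨m, hm, hms⟩ := d.h₂.trans _ (hV k hk) fun e => hk1 (Subtype.ext e)
  have hsH : s ∈ d.H := mem_sup_left (le_normalizer d.h₂.s_mem)
  have hsK : (⟨s, hsH⟩ : d.H) ∈ K := by
    have := (inferInstance : K.Normal).conj_mem k ((hKmem k).2 hk) ⟨m, mem_sup_left hm⟩
    convert this using 1
    exact Subtype.ext hms.symm
  obtain ⟨v, hv, hv1, hvs⟩ := IsFour.exists_ne d.symm.four s
  obtain ⟨u, hu, hus⟩ := d.h₃.trans v hv.1 hv1
  have hvK : (⟨v, mem_sup_right (le_normalizer hv.1)⟩ : d.H) ∈ K := by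
    have := (inferInstance : K.Normal).conj_mem _ hsK ⟨u⁻¹, mem_sup_right (inv_mem hu)⟩
    convert this using 1
    refine Subtype.ext ?_
    show v = u⁻¹ * s * u⁻¹⁻¹
    rw [inv_inv, ← hus, conj_cancel]
  rcases d.meet v (hV _ ((hKmem _).1 hvK)) hv.1 with e | e
  · exact hv1 e
  · exact hvs e

/-- The component is alternating of degree 8. -/
theorem equiv_alt : Nonempty (d.H ≃* alternatingGroup (Fin 8)) := by
  haveI : Fact (Nat.Prime 2) := ⟨Nat.prime_two⟩
  have hfr : Module.finrank (ZMod 2) d.space = 4 := by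
    have h := Module.natCard_eq_pow_finrank (K := ZMod 2) (V := d.space)
    rw [d.card_space, Nat.card_zmod] at h
    exact (Nat.pow_right_injective (le_refl 2) (show (2 : ℕ) ^ 4 = 2 ^ _ from h)).symm
  let b := Module.finBasisOfFinrankEq (ZMod 2) d.space hfr
  let ψ : d.H →* Matrix.GeneralLinearGroup (Fin 4) (ZMod 2) :=
    ((LinearMap.toMatrixAlgEquiv b).toMulEquiv.toMonoidHom.comp d.repr).toHomUnits
  have hinj : Function.Injective ψ := by
    refine (injective_iff_map_eq_one ψ).2 fun k hk => d.repr_inj ?_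
    have h : LinearMap.toMatrixAlgEquiv b (d.repr k) = 1 := congrArg Units.val hk
    exact (LinearMap.toMatrixAlgEquiv b).injective (h.trans (map_one _).symm)
  have hbij : Function.Bijective ψ := by
    refine hinj.bijective_of_nat_card_le ?_
    rw [Matrix.card_GL_field, d.card_H, ZMod.card, Fin.prod_univ_four]
    norm_num
  obtain ⟨e⟩ := gl_four_two
  exact ⟨(MulEquiv.ofBijective ψ hbij).trans e⟩

end Geo

end Cfsg.Agent.PGroups.SmallExtraspecial
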