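import Cfsg.Agent.PGroups.SmallExtraspecial.CentFields
import Cfsg.Agent.H14.S3344Rec.CountMain

/-!
The swap configuration gives the alternating groups of degree 8 and 9.
-/

set_option autoImplicit false

namespace Cfsg.Agent.PGroups.SmallExtraspecial

open Subgroup

variable {G : Type*} [Group G] [Finite G]

/-- The swap configuration is alternating of degree 8 or 9. -/
theorem Swap.main {s x : G} {V₁ V₂ V₃ E T : Subgroup G} (d : Swap s x V₁ V₂ V₃ E T)
    (hcl : ∀ t : G, orderOf t = 2 → IsConj s t ∨ IsConj x t)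
    (hfour : ∀ y : G, orderOf y = 3 → y * s = s * y → ¬ 4 ∣ Nat.card (centralizer ({s, y} : Set G)))
    (hpairs : Nat.card {p : G × G // IsConj s p.1 ∧ IsConj x p.2 ∧ s ∈ zpowers (p.1 * p.2)} = 156) :
    Nonempty (G ≃* alternatingGroup (Fin 8)) ∨ Nonempty (G ≃* alternatingGroup (Fin 9)) :=
  d.eight_or_nine (fun D => D.card_eq) hcl hfour hpairs

end Cfsg.Agent.PGroups.SmallExtraspecial
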